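import Groth.Agent.RlimLib.Stable

/-!
# Maps into bounded below objects of small cohomological dimension
-/

set_option autoImplicit false
set_option linter.style.haveILetI false

universe w w' v u u'

open CategoryTheory CategoryTheory.Limits CategoryTheory.Pretriangulated DerivedCategory Abelian

namespace Groth.Agent.RlimLib

variable {A : Type (u + 1)} [Category.{u} A] [Abelian A] [HasDerivedCategory.{w} A]

lemma hom_eq_zero_of_isGE (P : A) {M : DerivedCategory A} (m a : ℤ) [M.IsGE a] (h : m < a)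
    (g : (singleFunctor A 0).obj P ⟶ M⟦m⟧) : g = 0 := by
  haveI : TStructure.t.IsGE M a := inferInstanceAs (M.IsGE a)
  haveI : TStructure.t.IsGE (M⟦m⟧) (a - m) := TStructure.t.isGE_shift M a m (a - m) (by omega)
  haveI : TStructure.t.IsLE ((singleFunctor A 0).obj P) 0 :=
    inferInstanceAs (DerivedCategory.IsLE ((singleFunctor A 0).obj P) 0)
  exact TStructure.t.zero _ 0 (a - m) (by omega)

/-- A map which is an isomorphism on cohomology in low degrees induces bijections. -/
lemma bijective_comp_of_homology (P : A) {X Y : DerivedCategory A} (f : X ⟶ Y) (m : ℤ)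
    (hiso : ∀ q, q ≤ m → IsIso ((homologyFunctor A q).map f)) (hmono : Mono ((homologyFunctor A (m + 1)).map f)) :
    Function.Bijective fun g : (singleFunctor A 0).obj P ⟶ X⟦m⟧ => g ≫ f⟦m⟧' := by
  obtain ⟨Z, p, δ, hT⟩ := distinguished_cocone_triangle f
  haveI : Z.IsGE (m + 1) := by
    refine (Z.isGE_iff _).2 fun q hq => ?_
    refine (HomologySequence.exact₃ _ hT q (q + 1) rfl).isZero_of_both_zeros ?_ ?_
    · haveI := hiso q (by omega)
      have h0 : (homologyFunctor A q).map f ≫ (homologyFunctor A q).map p = 0 := by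
        rw [← Functor.map_comp, show f ≫ p = 0 from comp_distTriang_mor_zero₁₂ _ hT, Functor.map_zero]
      exact (cancel_epi ((homologyFunctor A q).map f)).1 (h0.trans comp_zero.symm)
    · have hm : Mono ((homologyFunctor A (q + 1)).map (Triangle.mk f p δ).mor₁) := by
        by_cases hq' : q + 1 ≤ m
        · haveI := hiso _ hq'
          exact inferInstanceAs (Mono ((homologyFunctor A (q + 1)).map f))
        · rw [show q + 1 = m + 1 by omega]; exact hmono
      exact (HomologySequence.mono_homologyMap_mor₁_iff _ hT q (q + 1) rfl).1 hm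
  constructor
  · intro g g' h
    change g ≫ f⟦m⟧' = g' ≫ f⟦m⟧' at h
    obtain ⟨g, rfl⟩ := (shiftHom_bijective m).2 g
    obtain ⟨g', rfl⟩ := (shiftHom_bijective m).2 g'
    have h' : (g - g') ≫ f = 0 := (shiftHom_bijective m).1 (by
      rw [Preadditive.sub_comp, shiftHom_sub, shiftHom_comp, shiftHom_comp, h]
      simp [shiftHom])
    obtain ⟨z, hz⟩ := Triangle.coyoneda_exact₂ _ (inv_rot_of_distTriang _ hT) (g - g') h'
    change ((singleFunctor A 0).obj P)⟦-m⟧ ⟶ Z⟦(-1 : ℤ)⟧ at z
    have hz0 : z = 0 := (shiftHom_bijective m).1 (by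
      rw [show shiftHom m (0 : ((singleFunctor A 0).obj P)⟦-m⟧ ⟶ Z⟦(-1 : ℤ)⟧) = 0 by simp [shiftHom],
        ← cancel_mono ((shiftFunctorAdd' (DerivedCategory A) (-1 : ℤ) m (m - 1) (by omega)).inv.app _), zero_comp]
      exact hom_eq_zero_of_isGE P (m - 1) (m + 1) (by omega) _)
    rw [hz0] at hz
    rw [sub_eq_zero.1 (hz.trans zero_comp)]
  · intro y
    obtain ⟨y, rfl⟩ := (shiftHom_bijective m).2 y
    have hy : y ≫ p = 0 := (shiftHom_bijective m).1 (by
      rw [show shiftHom m (0 : ((singleFunctor A 0).obj P)⟦-m⟧ ⟶ Z) = 0 by simp [shiftHom]]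
      exact hom_eq_zero_of_isGE P m (m + 1) (by omega) _)
    obtain ⟨x, hx⟩ := Triangle.coyoneda_exact₂ _ hT y hy
    exact ⟨shiftHom m x, ((shiftHom_comp m x f).symm).trans (congrArg _ hx.symm)⟩

variable [HasExt.{w'} A]

/-- Low truncations do not change maps from an object of small cohomological dimension. -/
lemma bijective_comp_tgeπ (P : A) (M : DerivedCategory A) (c : ℤ) [M.IsGE c] (d : ℕ)
    (h : ∀ (q : ℤ) (k : ℕ), d < k → Subsingleton (Ext.{w'} P ((homologyFunctor A q).obj M) k))
    (m a : ℤ) (ha : a ≤ m - d) :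
    Function.Bijective fun g : (singleFunctor A 0).obj P ⟶ M⟦m⟧ => g ≫ (tgeπ a M)⟦m⟧' := by
  have hbase : ∀ b, b ≤ c → Function.Bijective fun g : (singleFunctor A 0).obj P ⟶ M⟦m⟧ => g ≫ (tgeπ b M)⟦m⟧' :=
    fun b hb => by
      haveI : TStructure.t.IsGE M c := inferInstanceAs (M.IsGE c)
      haveI : TStructure.t.IsGE M b := TStructure.t.isGE_of_ge M b c hb
      haveI : IsIso (tgeπ b M) := (TStructure.t.isGE_iff_isIso_truncGEπ_app b M).1 inferInstance
      exact ⟨fun g g' hg => (cancel_mono _).1 hg, fun y => ⟨y ≫ inv ((tgeπ b M)⟦m⟧'), by simp⟩⟩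
  by_cases hac : a ≤ c
  · exact hbase a hac
  obtain ⟨j, rfl⟩ : ∃ j : ℕ, a = c + j := ⟨(a - c).toNat, by omega⟩
  clear hac
  induction j with
  | zero => exact hbase _ (by omega)
  | succ j ih =>
    have h1 := (tgeMap_step M P (c + (j : ℤ)) (c + ((j + 1 : ℕ) : ℤ)) (by omega) m
      (fun k hk => h _ k (by omega))).1
    have h2 := (tgeMap_step M P (c + (j : ℤ)) (c + ((j + 1 : ℕ) : ℤ)) (by omega) (m + 1)
      (fun k hk => h _ k (by omega))).2
    rw [add_sub_cancel_right] at h2
    let τ := tgeMap (c + (j : ℤ)) (c + ((j + 1 : ℕ) : ℤ)) (by omega) M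
    have hb : Function.Bijective fun g : (singleFunctor A 0).obj P ⟶ (tge (c + (j : ℤ)) M)⟦m⟧ => g ≫ τ⟦m⟧' :=
      ⟨fun g g' hg => sub_eq_zero.1 (h1 _ (by rw [Preadditive.sub_comp, sub_eq_zero]; exact hg)), h2⟩
    convert hb.comp (ih (by omega)) using 1
    funext g
    simp only [Function.comp_apply, τ, Category.assoc, ← Functor.map_comp, π_tgeMap]

/-- A map of bounded below objects of small cohomological dimension which is an isomorphism on cohomology
in a window induces bijections. -/
lemma bijective_comp_of_window (P : A) {X Y : DerivedCategory A} (f : X ⟶ Y) (cX cY : ℤ) [X.IsGE cX] [Y.IsGE cY]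
    (d : ℕ) (hX : ∀ (q : ℤ) (k : ℕ), d < k → Subsingleton (Ext.{w'} P ((homologyFunctor A q).obj X) k))
    (hY : ∀ (q : ℤ) (k : ℕ), d < k → Subsingleton (Ext.{w'} P ((homologyFunctor A q).obj Y) k))
    (m : ℤ) (hiso : ∀ q, m - d ≤ q → q ≤ m + 1 → IsIso ((homologyFunctor A q).map f)) :
    Function.Bijective fun g : (singleFunctor A 0).obj P ⟶ X⟦m⟧ => g ≫ f⟦m⟧' := by
  have bX := bijective_comp_tgeπ P X cX d hX m (m - d) le_rfl
  have bY := bijective_comp_tgeπ P Y cY d hY m (m - d) le_rfl
  let f' : tge (m - d) X ⟶ tge (m - d) Y := (TStructure.t.truncGE (m - d)).map f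
  have hn : tgeπ (m - (d : ℤ)) X ≫ f' = f ≫ tgeπ (m - (d : ℤ)) Y :=
    ((TStructure.t.truncGEπ (m - (d : ℤ))).naturality f).symm
  have hq : ∀ q, q ≤ m + 1 → IsIso ((homologyFunctor A q).map f') := fun q hq => by
    by_cases hqa : q < m - d
    · exact isIso_of_source_target_iso_zero _ (isZero_homology_tge X hqa).isoZero (isZero_homology_tge Y hqa).isoZero
    · haveI := isIso_homology_tgeπ X (a := m - d) (i := q) (by omega)
      haveI := isIso_homology_tgeπ Y (a := m - d) (i := q) (by omega)
      haveI := hiso q (by omega) hq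
      have h := congrArg (homologyFunctor A q).map hn
      rw [Functor.map_comp, Functor.map_comp] at h
      haveI : IsIso ((homologyFunctor A q).map (tgeπ (m - (d : ℤ)) X) ≫ (homologyFunctor A q).map f') := by
        rw [h]; infer_instance
      exact IsIso.of_isIso_comp_left ((homologyFunctor A q).map (tgeπ (m - (d : ℤ)) X)) _
  have bf := bijective_comp_of_homology P f' m (fun q hqm => hq q (by omega))
    (haveI := hq (m + 1) le_rfl; inferInstance)
  refine (Function.Bijective.of_comp_iff' bY _).1 ?_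
  convert bf.comp bX using 1
  funext g
  simp only [Function.comp_apply, Category.assoc, ← Functor.map_comp, hn]

end Groth.Agent.RlimLib
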