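import Groth.Agent.RlimLib.Trunc
import Groth.Agent.SSExist.CohPre
import Groth.Agent.DerAdj.SiteFreeAcyclic
import Mathlib.CategoryTheory.Sites.EpiMono

/-!
# The generators of abelian sheaves and of sheaves of modules on a site
-/

set_option autoImplicit false
set_option linter.style.haveILetI false

universe w u u'

open CategoryTheory CategoryTheory.Limits Opposite CategoryTheory.Abelian

namespace Groth.Agent.RlimLib

variable {C : Type u} [SmallCategory C] {J : GrothendieckTopology C}

section Constructor

variable {A : Type u'} [Category.{u} A] [Abelian A] (P : C ⥤ A) (Φ : A ⥤ Sheaf J AddCommGrpCat.{u})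
  [Φ.PreservesZeroMorphisms] [Φ.Faithful] [Φ.PreservesEpimorphisms]
  (e : ∀ (U : C) (F : A), (P.obj U ⟶ F) ≃ (Φ.obj F).obj.obj (op U))
  (hR : ∀ (U : C) {F G : A} (s : P.obj U ⟶ F) (g : F ⟶ G), e U G (s ≫ g) = (Φ.map g).hom.app (op U) (e U F s))
  (hL : ∀ {U V : C} (f : V ⟶ U) {F : A} (s : P.obj U ⟶ F), e V F (P.map f ≫ s) = (Φ.obj F).obj.map f.op (e U F s))

include hR in
lemma e_zero (U : C) (F : A) : e U F 0 = 0 := by
  have := hR U (e U F |>.symm (0 : (Φ.obj F).obj.obj (op U))) (0 : F ⟶ F)
  rw [comp_zero, Φ.map_zero] at this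
  exact this

include hR hL in
/-- Generators from a natural identification of maps with sections. -/
@[instance_reducible]
def genOfSections : Gen J A where
  P := P
  sep {U F} φ S hS h := by
    apply (e U F).injective
    rw [e_zero P Φ e hR]
    have hsep : Presieve.IsSeparated J ((Φ.obj F).obj ⋙ forget AddCommGrpCat.{u}) :=
      ((isSheaf_iff_isSheaf_of_type _ _).1
        (Presheaf.isSheaf_comp_of_isSheaf J (Φ.obj F).obj (forget AddCommGrpCat.{u}) (Φ.obj F).property)).isSeparated
    refine Presieve.IsSeparatedFor.ext (hsep S hS) fun V f hf => ?_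
    change (Φ.obj F).obj.map f.op (e U F φ) = (Φ.obj F).obj.map f.op 0
    rw [← hL, h f hf, e_zero P Φ e hR, map_zero]
  lift {U E F} g hg φ := by
    haveI := hg
    haveI : Sheaf.IsLocallySurjective (Φ.map g) := (Sheaf.isLocallySurjective_iff_epi' (A := AddCommGrpCat.{u}) (Φ.map g)).2 inferInstance
    refine ⟨_, Presheaf.imageSieve_mem J (Φ.map g).hom (e U F φ), fun V f hf => ?_⟩
    obtain ⟨t, ht⟩ := hf
    refine ⟨(e V E).symm t, (e V F).injective ?_⟩
    rw [hR, Equiv.apply_symm_apply, hL]
    exact ht
  gen {M N} φ h := Φ.map_injective (by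
    rw [Φ.map_zero]
    refine ObjectProperty.hom_ext _ (NatTrans.ext (funext fun V => ?_))
    ext x
    obtain ⟨s, rfl⟩ := (e V.unop M).surjective x
    exact ((hR V.unop s φ).symm.trans ((congrArg _ (h V.unop s)).trans (e_zero P Φ e hR _ _))))

end Constructor

variable (J) in
/-- Free abelian sheaves on representables. -/
noncomputable def freeP : C ⥤ Sheaf J AddCommGrpCat.{u} :=
  yoneda ⋙ (Functor.whiskeringRight _ _ _).obj AddCommGrpCat.free.{u} ⋙ presheafToSheaf J AddCommGrpCat.{u}

variable (J) in
/-- The generators of abelian sheaves. -/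
noncomputable def sheafGen : Gen J (Sheaf J AddCommGrpCat.{u}) :=
  genOfSections (freeP J) (𝟭 _)
    (fun U F => Equiv.ofBijective _ (SSExist.evalGen_bijective J U F))
    (fun _ {_ _} _ _ => rfl)
    (fun {_ _} f {F} s => SSExist.evalGen_freeMap f F s)

variable (O : Sheaf J CommRingCat.{u})

/-- Free modules. -/
noncomputable def freeOnP : C ⥤ ModSite.Mod O where
  obj U := ModSite.freeOn O U
  map {V U} f := (ModGroth.FreeOn.homEquiv O V _).symm
    ((ModSite.freeOn O U).val.map f.op (ModGroth.FreeOn.homEquiv O U _ (𝟙 _)))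
  map_id U := (ModGroth.FreeOn.homEquiv O U _).injective (by
    rw [Equiv.apply_symm_apply]
    change (ModSite.freeOn O U).val.presheaf.map (𝟙 (op U)) _ = _
    rw [CategoryTheory.Functor.map_id]
    rfl)
  map_comp {W V U} g f := (ModGroth.FreeOn.homEquiv O W _).injective (by
    rw [Equiv.apply_symm_apply, ModGroth.FreeOn.homEquiv_comp, Equiv.apply_symm_apply,
      PresheafOfModules.naturality_apply, ← ModGroth.FreeOn.homEquiv_comp, Category.id_comp, Equiv.apply_symm_apply]
    exact PresheafOfModules.map_comp_apply (ModSite.freeOn O U).val f.op g.op _)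

/-- The generators of sheaves of modules. -/
noncomputable def modGen : Gen J (ModSite.Mod O) :=
  genOfSections (freeOnP O) (SSExist.toAbF O)
    (fun U F => ModGroth.FreeOn.homEquiv O U F)
    (fun U {_ _} s g => ModGroth.FreeOn.homEquiv_comp O U s g)
    (fun {U V} f {F} s => by
      refine (ModGroth.FreeOn.homEquiv_comp O V _ s).trans ?_
      refine (congrArg (s.val.app (op V)) (show ModGroth.FreeOn.homEquiv O V _ ((freeOnP O).map f) = _ from
        Equiv.apply_symm_apply _ _)).trans ?_
      refine (PresheafOfModules.naturality_apply s.val f.op _).trans ?_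
      refine congrArg (F.val.map f.op) ?_
      exact (ModGroth.FreeOn.homEquiv_comp O U (𝟙 _) s).symm.trans (congrArg _ (Category.id_comp s)))

/-- Vanishing of the cohomology of the underlying abelian sheaf gives vanishing of `Ext` from free modules. -/
lemma subsingleton_ext_freeOn [HasExt.{w} (ModSite.Mod O)] [EnoughInjectives (ModSite.Mod O)] (U : C) :
    ∀ (k : ℕ) (M : ModSite.Mod O), Subsingleton (ModSite.HU O M k U) →
      Subsingleton (Ext.{w} (ModSite.freeOn O U) M k) := by
  intro k
  induction k with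
  | zero =>
    intro M h
    haveI : Subsingleton (Ext.{u} (SSExist.freeAb J U) (ModSite.toAb M) 0) := h
    haveI : Subsingleton (SSExist.freeAb J U ⟶ ModSite.toAb M) := (Ext.mk₀_bijective _ _).1.subsingleton
    haveI : Subsingleton (M.val.obj (op U)) :=
      (SSExist.evalGen_bijective J U (ModSite.toAb M)).2.subsingleton
    haveI : Subsingleton (ModSite.freeOn O U ⟶ M) := (ModGroth.FreeOn.homEquiv O U M).injective.subsingleton
    exact (Ext.mk₀_bijective _ _).2.subsingleton
  | succ k ih =>
    intro M h
    let S := ShortComplex.mk (Injective.ι M) (cokernel.π (Injective.ι M)) (cokernel.condition _)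
    have hS : S.ShortExact :=
      { exact := ShortComplex.exact_of_g_is_cokernel _ (cokernelIsCokernel _)
        mono_f := inferInstanceAs (Mono (Injective.ι M)) }
    have hS' : (S.map (SSExist.toAbF O)).ShortExact := hS.map_of_exact (SSExist.toAbF O)
    haveI hI : Injective S.X₂ := inferInstanceAs (Injective (Injective.under M))
    haveI : Subsingleton (Ext.{u} (SSExist.freeAb J U) (S.map (SSExist.toAbF O)).X₁ (k + 1)) := h
    refine subsingleton_of_forall_eq 0 fun x => ?_
    obtain ⟨y, rfl⟩ := Ext.covariant_sequence_exact₁ _ hS x (Ext.eq_zero_of_injective _) (n₀ := k) rfl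
    rcases k with _ | k
    · obtain ⟨φ, rfl⟩ := (Ext.mk₀_bijective _ _).2 y
      obtain ⟨ψ', hψ'⟩ := SSExist.exists_lift_of_subsingleton hS' (SSExist.freeAb J U)
        (SSExist.ofSec U (ModSite.toAb S.X₃) (ModGroth.FreeOn.homEquiv O U S.X₃ φ))
      have hs := (congrArg (SSExist.evalGen J U _) hψ').trans
        (SSExist.evalGen_ofSec U (ModSite.toAb S.X₃) (ModGroth.FreeOn.homEquiv O U S.X₃ φ))
      let ψ := (ModGroth.FreeOn.homEquiv O U S.X₂).symm (SSExist.evalGen J U (ModSite.toAb S.X₂) ψ')
      have hψ : ψ ≫ S.g = φ := (ModGroth.FreeOn.homEquiv O U S.X₃).injective (by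
        rw [ModGroth.FreeOn.homEquiv_comp, Equiv.apply_symm_apply]
        exact hs)
      rw [← hψ, ← Ext.mk₀_comp_mk₀, Ext.comp_assoc_of_second_deg_zero, ShortComplex.ShortExact.comp_extClass,
        Ext.comp_zero]
    · haveI : Subsingleton (ModSite.HU O S.X₃ (k + 1) U) := subsingleton_of_forall_eq 0 fun z => by
        haveI hI' : Subsingleton (Ext.{u} (SSExist.freeAb J U) (S.map (SSExist.toAbF O)).X₂ (k + 1)) :=
          SSExist.subsingleton_ext_freeObj (SSExist.isTotallyAcyclic_toAb (SSExist.flatInj_of_injective S.X₂)) U k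
        obtain ⟨w', hw⟩ := Ext.covariant_sequence_exact₃ (SSExist.freeAb J U) hS' z (n₁ := k + 1 + 1) rfl
          (Subsingleton.elim _ _)
        rw [← hw, Subsingleton.elim w' 0, Ext.zero_comp]
        rfl
      haveI := ih S.X₃ this
      rw [Subsingleton.elim y 0, Ext.zero_comp]

end Groth.Agent.RlimLib
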