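import Groth.Agent.RlimLib.RFRep
import Groth.Agent.RlimLib.Bounded
import Groth.Agent.RlimLib.SheafGen
import Groth.Prelude.Def_SiteCmp
import Groth.Prelude.Def_WeakSerre
import Groth.Agent.TriH.KInjExist

/-!
# Direct images on ringed sites and truncations
-/

set_option autoImplicit false
set_option linter.style.haveILetI false

universe w v u u'

open CategoryTheory CategoryTheory.Limits CategoryTheory.Pretriangulated Opposite

namespace Groth.Agent.RlimLib

/-- Countable products in any derived category of a Grothendieck abelian category. -/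
lemma hasProduct_nat' {A : Type (u + 1)} [Category.{u} A] [Abelian A] [IsGrothendieckAbelian.{u} A]
    [HasDerivedCategory.{w} A] (K : ℕ → DerivedCategory A) : HasProduct K :=
  hasProduct_nat K

section RFZero

variable {A : Type u} [Category.{v} A] [Abelian A] {B : Type u'} [Category.{v} B] [Abelian B]
  (F : A ⥤ B) [F.Additive] [HasDerivedCategory.{w} A] [HasDerivedCategory.{w} B] [HasInjectiveResolutions A]
  [(F.mapHomotopyCategory (ComplexShape.up ℤ) ⋙ DerivedCategory.Qh).HasRightDerivedFunctor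
    (HomotopyCategory.quasiIso A (ComplexShape.up ℤ))]

open ZeroObject in
lemma preservesZeroMorphisms_RFun
    (hKinj : ∀ K : CochainComplex A ℤ, ∃ (I : CochainComplex A ℤ) (f : K ⟶ I), I.IsKInjective ∧ QuasiIso f) :
    (DerAdj.RFun F).PreservesZeroMorphisms := by
  have hz : IsZero ((DerAdj.RFun F).obj ((DerivedCategory.singleFunctor A 0).obj 0)) := by
    obtain ⟨h1, h2⟩ : (∀ i, i < 0 → IsZero _) ∧ _ :=
      ⟨fun i => (DerAdj.nonempty_homology_RF_single F hKinj (0 : A) 0 i).1,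
        fun (i : ℤ) (p : ℕ) hp => ((DerAdj.nonempty_homology_RF_single F hKinj (0 : A) 0 i).2 p hp)⟩
    have hH : ∀ i, IsZero ((DerivedCategory.homologyFunctor B i).obj
        ((DerAdj.RFun F).obj ((DerivedCategory.singleFunctor A 0).obj 0))) := fun i => by
      by_cases hi : i < 0
      · exact h1 i hi
      · exact IsZero.of_iso ((F.rightDerived i.toNat).map_isZero (isZero_zero A)) (h2 i i.toNat (by omega)).some
    haveI : IsIso (0 : (DerAdj.RFun F).obj ((DerivedCategory.singleFunctor A 0).obj 0) ⟶ (0 : DerivedCategory B)) := by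
      rw [DerivedCategory.isIso_iff]
      exact fun i => isIso_of_source_target_iso_zero _ (hH i).isoZero
        ((DerivedCategory.homologyFunctor B i).map_isZero (isZero_zero _)).isoZero
    exact IsZero.of_iso (isZero_zero _)
      (asIso (0 : (DerAdj.RFun F).obj ((DerivedCategory.singleFunctor A 0).obj 0) ⟶ (0 : DerivedCategory B)))
  exact Functor.preservesZeroMorphisms_of_map_zero_object
    (((DerAdj.RFun F).mapIso ((isZero_zero _).iso
      ((DerivedCategory.singleFunctor A 0).map_isZero (isZero_zero A)))) ≪≫ hz.iso (isZero_zero _))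

end RFZero

variable {C : Type u} [SmallCategory C] {J : GrothendieckTopology C}

lemma freeOnP_sect (O : Sheaf J CommRingCat.{u}) {U V : C} (f : V ⟶ U) {F : ModSite.Mod O}
    (s : ModSite.freeOn O U ⟶ F) :
    ModGroth.FreeOn.homEquiv O V F ((freeOnP O).map f ≫ s) = F.val.map f.op (ModGroth.FreeOn.homEquiv O U F s) := by
  refine (ModGroth.FreeOn.homEquiv_comp O V _ s).trans ?_
  refine (congrArg (s.val.app (op V)) (show ModGroth.FreeOn.homEquiv O V _ ((freeOnP O).map f) = _ from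
    Equiv.apply_symm_apply _ _)).trans ?_
  refine (PresheafOfModules.naturality_apply s.val f.op _).trans ?_
  refine congrArg (F.val.map f.op) ?_
  exact (ModGroth.FreeOn.homEquiv_comp O U (𝟙 _) s).symm.trans (congrArg _ (Category.id_comp s))

variable {O_C : Sheaf J CommRingCat.{u}}
  {D : Type u} [SmallCategory D] {K : GrothendieckTopology D} {O_D : Sheaf K CommRingCat.{u}}
  (f : ModSite.RMor O_C O_D)

/-- The universal section. -/
noncomputable def pushUniv (W : D) :
    ModSite.freeOn O_D W ⟶ f.push.obj (ModSite.freeOn O_C (f.fn.obj W)) :=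
  (ModGroth.FreeOn.homEquiv O_D W _).symm (ModGroth.FreeOn.homEquiv O_C (f.fn.obj W) _ (𝟙 _))

lemma pushUniv_comp (W : D) {M : ModSite.Mod O_C} (z : ModSite.freeOn O_C (f.fn.obj W) ⟶ M) :
    ModGroth.FreeOn.homEquiv O_D W (f.push.obj M) (pushUniv f W ≫ f.push.map z) =
      ModGroth.FreeOn.homEquiv O_C (f.fn.obj W) M z := by
  refine (ModGroth.FreeOn.homEquiv_comp O_D W _ _).trans ?_
  refine (congrArg ((f.push.map z).val.app (op W)) (Equiv.apply_symm_apply _ _)).trans ?_
  exact (ModGroth.FreeOn.homEquiv_comp O_C (f.fn.obj W) (𝟙 _) z).symm.trans (congrArg _ (Category.id_comp z))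

/-- Sections of a direct image are sections on the source. -/
noncomputable def pushData : PushData (modGen O_D) f.push where
  Q := f.fn ⋙ freeOnP O_C
  a :=
    { app := fun W => pushUniv f W
      naturality := fun V W k => (ModGroth.FreeOn.homEquiv O_D V _).injective (by
        refine (freeOnP_sect O_D k _).trans ?_
        refine Eq.trans ?_ (pushUniv_comp f V _).symm
        refine (congrArg ((f.push.obj (ModSite.freeOn O_C (f.fn.obj W))).val.map k.op) (Equiv.apply_symm_apply _ _)).trans ?_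
        exact ((freeOnP_sect O_C (f.fn.map k) (𝟙 _)).symm.trans (congrArg _ (Category.comp_id _)))) }
  bij W M :=
    ⟨fun z z' h => (ModGroth.FreeOn.homEquiv O_C (f.fn.obj W) M).injective
      ((pushUniv_comp f W z).symm.trans ((congrArg (ModGroth.FreeOn.homEquiv O_D W _) h).trans (pushUniv_comp f W z'))),
    fun y => ⟨(ModGroth.FreeOn.homEquiv O_C (f.fn.obj W) M).symm (ModGroth.FreeOn.homEquiv O_D W _ y),
      (ModGroth.FreeOn.homEquiv O_D W _).injective
        ((pushUniv_comp f W _).trans (Equiv.apply_symm_apply _ _))⟩⟩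

lemma exists_kInj (O : Sheaf J CommRingCat.{u}) (M : CochainComplex (ModSite.Mod O) ℤ) :
    ∃ (I : CochainComplex (ModSite.Mod O) ℤ) (g : M ⟶ I), I.IsKInjective ∧ QuasiIso g := by
  haveI := ModGroth.sheaf_isGrothendieckAbelian (ModSite.ringSh O)
  obtain ⟨I, g, h1, h2, -⟩ := TriH.exists_kInjective_resolution M
  exact ⟨I, g, h1, h2⟩

attribute [local instance] HasDerivedCategory.standard

/-- The cohomology of `Rf_*` sees only a truncation. -/
theorem isIso_RpushD_tge [HasInjectiveResolutions (ModSite.Mod O_C)] [SiteCmp.HasRpushD f]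
    (A : ObjectProperty (ModSite.Mod O_C)) (B : C → Prop) (hB : Covers J B)
    (hA : ∀ V, B V → ∃ d : ℕ, ∀ T ∈ J V, ∃ (ι : Type u) (Y : ι → C) (g : ∀ i, Y i ⟶ V),
      (∀ i, T.arrows (g i)) ∧ Sieve.ofArrows Y g ∈ J V ∧
      ∀ (i : ι) (F : ModSite.Mod O_C), A F → ∀ k : ℕ, d < k → Subsingleton (ModSite.HU O_C F k (Y i)))
    (B' : D → Prop) (hB' : Covers K B')
    (hA' : ∀ V, B' V → ∃ d : ℕ, ∀ T ∈ K V, ∃ (ι : Type u) (Y : ι → D) (g : ∀ i, Y i ⟶ V),
      (∀ i, T.arrows (g i)) ∧ Sieve.ofArrows Y g ∈ K V ∧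
      ∀ (i : ι) (F : ModSite.Mod O_C), A F → ∀ k : ℕ, d < k → Subsingleton (ModSite.HU O_C F k (f.fn.obj (Y i))))
    (hiso : ∀ {X Y : ModSite.Mod O_C}, (X ≅ Y) → A X → A Y)
    (N : ℤ) (h3 : ∀ F : ModSite.Mod O_C, A F → ∀ p : ℕ, N < (p : ℤ) → IsZero ((f.Rpush p).obj F))
    (X : DerivedCategory (ModSite.Mod O_C))
    (hX : ∀ i : ℤ, A ((DerivedCategory.homologyFunctor (ModSite.Mod O_C) i).obj X)) (n : ℕ) (j : ℤ)
    (hj : N - (n : ℤ) ≤ j) :
    IsIso ((DerivedCategory.homologyFunctor (ModSite.Mod O_D) j).map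
      ((SiteCmp.RpushD f).map (tgeπ (-(n : ℤ)) X))) := by
  haveI := ModGroth.sheaf_isGrothendieckAbelian (ModSite.ringSh O_C)
  haveI : HasExt.{u + 1} (ModSite.Mod O_C) := HasExt.standard _
  haveI := preservesZeroMorphisms_RFun f.push (exists_kInj O_C)
  haveI := hasProduct_nat' (CohCx.truncTower X)
  let G := modGen O_C
  have hR : CohCx.IsRlimVia (CohCx.truncTower X) (CohCx.truncTowerMap X) X (CohCx.toTruncTower X) := by
    refine G.isRlimVia_of_cofinal X B hB fun m V hV => ?_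
    obtain ⟨d, hd⟩ := hA V hV
    refine ⟨((d : ℤ) - m).toNat, fun T hT => ?_⟩
    obtain ⟨ι, Y, g, hg, hcov, hvan⟩ := hd T hT
    refine ⟨_, hcov, fun W w hw => ?_⟩
    obtain ⟨W', a, b, ⟨i⟩, rfl⟩ := hw
    exact ⟨_, a, _, rfl, hg i, fun k hk e he =>
      subsingleton_ext_freeOn O_C _ e _ (hvan i _ (hX _) e (by omega))⟩
  let ρ := (pushData f).lRep (exists_kInj O_C)
  refine ρ.isIso_of_stable hR j n (fun k hk => ?_) B' hB' (fun V hV => ?_) n le_rfl
  · obtain ⟨F, φ, δ, hT, ⟨e⟩⟩ := exists_layer X (-((k + 1 : ℕ) : ℤ)) (-(k : ℤ)) (by omega)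
    obtain ⟨c, hc⟩ := DerAdj.exists_distinguished_map f.push (exists_kInj O_C) _ hT
    have hz : ∀ i : ℤ, j ≤ i → IsZero ((DerivedCategory.homologyFunctor (ModSite.Mod O_D) i).obj
        ((DerAdj.RFun f.push).obj ((DerivedCategory.singleFunctor _ (-((k + 1 : ℕ) : ℤ))).obj F))) := fun i hi => by
      obtain ⟨h1, h2⟩ := DerAdj.nonempty_homology_RF_single f.push (exists_kInj O_C) F (-((k + 1 : ℕ) : ℤ)) i
      by_cases hlt : i < -((k + 1 : ℕ) : ℤ)
      · exact h1 hlt
      · obtain ⟨p, hp⟩ : ∃ p : ℕ, -((k + 1 : ℕ) : ℤ) + (p : ℤ) = i := ⟨(i + (k + 1 : ℕ)).toNat, by omega⟩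
        exact IsZero.of_iso (h3 F (hiso e.symm (hX _)) p (by omega)) (h2 p hp).some
    haveI hm := (DerivedCategory.HomologySequence.mono_homologyMap_mor₂_iff _ hc j).2 ((hz j le_rfl).eq_of_src _ _)
    haveI he := (DerivedCategory.HomologySequence.epi_homologyMap_mor₂_iff _ hc j (j + 1) rfl).2
      ((hz (j + 1) (by omega)).eq_of_tgt _ _)
    exact @isIso_of_mono_of_epi _ _ _ _ _ _ hm he
  · obtain ⟨d, hd⟩ := hA' V hV
    refine ⟨((d : ℤ) - j + 1).toNat, fun T hT => ?_⟩
    obtain ⟨ι, Y, g, hg, hcov, hvan⟩ := hd T hT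
    suffices key : ∀ i, StableAt (CohCx.truncTower X) (CohCx.truncTowerMap X)
        ((DerivedCategory.singleFunctor (ModSite.Mod O_C) 0).obj (ρ.Q.obj (Y i))) j ((d : ℤ) - j + 1).toNat by
      refine ⟨_, hcov, fun W w hw => ?_⟩
      obtain ⟨W', a, b, ⟨i⟩, rfl⟩ := hw
      exact ⟨_, a, _, rfl, hg i, key i⟩
    intro i
    have hstep : ∀ (k : ℕ) (m : ℤ), ((d : ℤ) - j + 1).toNat ≤ k → j ≤ m →
        (∀ y : (DerivedCategory.singleFunctor (ModSite.Mod O_C) 0).obj (ρ.Q.obj (Y i)) ⟶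
            (CohCx.truncTower X (k + 1))⟦m⟧, y ≫ (CohCx.truncTowerMap X k)⟦m⟧' = 0 → y = 0) ∧
        ∀ y : (DerivedCategory.singleFunctor (ModSite.Mod O_C) 0).obj (ρ.Q.obj (Y i)) ⟶
            (CohCx.truncTower X k)⟦m - 1⟧, ∃ y', y' ≫ (CohCx.truncTowerMap X k)⟦m - 1⟧' = y :=
      fun k m hk hm => tgeMap_step X (ρ.Q.obj (Y i)) (-((k + 1 : ℕ) : ℤ)) (-(k : ℤ)) (by omega) m
        (fun e he => subsingleton_ext_freeOn O_C _ e _ (hvan i _ (hX _) e (by omega)))
    refine ⟨fun k hk => (hstep k j hk le_rfl).2, fun k hk => ?_, fun k hk y y' h =>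
      sub_eq_zero.1 ((hstep k j hk le_rfl).1 _ (by rw [Preadditive.sub_comp, sub_eq_zero]; exact h))⟩
    have := (hstep k (j + 1) hk (by omega)).2
    rwa [add_sub_cancel_right] at this

end Groth.Agent.RlimLib
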