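import Groth.Agent.RlimLib.SitePush
import Mathlib.Algebra.Homology.Factorizations.CM5a

/-!
# `Rf_*` of objects with cohomology in a weak Serre subcategory
-/

set_option autoImplicit false
set_option linter.style.haveILetI false

universe w v u

open CategoryTheory CategoryTheory.Limits CategoryTheory.Pretriangulated

namespace Groth.Agent.RlimLib

section FiveTerm

variable {A : Type u} [Category.{v} A] [Abelian A] (P : ObjectProperty A) [WSerre.IsWeakSerre P]

/-- The middle term of an exact sequence of five terms with four terms in a weak Serre class is in it. -/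
lemma prop_of_five {X₁ X₂ X₃ X₄ X₅ : A} {f : X₁ ⟶ X₂} {g : X₂ ⟶ X₃} {h : X₃ ⟶ X₄} {k : X₄ ⟶ X₅}
    {w₁ : f ≫ g = 0} {w₂ : g ≫ h = 0} {w₃ : h ≫ k = 0}
    (e₁ : (ShortComplex.mk f g w₁).Exact) (e₂ : (ShortComplex.mk g h w₂).Exact) (e₃ : (ShortComplex.mk h k w₃).Exact)
    (h₁ : P X₁) (h₂ : P X₂) (h₄ : P X₄) (h₅ : P X₅) : P X₃ := by
  haveI : Mono (cokernel.desc f g w₁) := e₁.mono_cokernelDesc
  haveI : Epi (kernel.lift k h w₃) := e₃.epi_kernelLift
  have hC : P (cokernel f) := P.prop_cokernel f h₁ h₂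
  have hK : P (kernel k) := P.prop_kernel k h₄ h₅
  have w : cokernel.desc f g w₁ ≫ kernel.lift k h w₃ = 0 := by
    rw [← cancel_epi (cokernel.π f), ← cancel_mono (kernel.ι k)]
    simp [w₂]
  have w' : cokernel.desc f g w₁ ≫ h = 0 := by
    rw [← cancel_epi (cokernel.π f)]
    simp [w₂]
  have h' : (ShortComplex.mk (cokernel.desc f g w₁) h w').Exact :=
    (ShortComplex.exact_iff_of_epi_of_isIso_of_mono
      ({ τ₁ := cokernel.π f, τ₂ := 𝟙 _, τ₃ := 𝟙 _ } :
        ShortComplex.mk g h w₂ ⟶ ShortComplex.mk (cokernel.desc f g w₁) h w')).1 e₂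
  have hmid : (ShortComplex.mk (cokernel.desc f g w₁) (kernel.lift k h w₃) w).Exact :=
    (ShortComplex.exact_iff_of_epi_of_isIso_of_mono
      ({ τ₁ := 𝟙 _, τ₂ := 𝟙 _, τ₃ := kernel.ι k } :
        ShortComplex.mk (cokernel.desc f g w₁) (kernel.lift k h w₃) w ⟶ ShortComplex.mk (cokernel.desc f g w₁) h w')).2 h'
  exact P.prop_X₂_of_shortExact (ShortComplex.ShortExact.mk' hmid inferInstance inferInstance) hC hK

end FiveTerm

section GE

variable {A : Type u} [Category.{v} A] [Abelian A] [EnoughInjectives A] {B : Type u} [Category.{v} B] [Abelian B]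
  (F : A ⥤ B) [F.Additive] [HasDerivedCategory.{w} A] [HasDerivedCategory.{w} B]
  [(F.mapHomotopyCategory (ComplexShape.up ℤ) ⋙ DerivedCategory.Qh).HasRightDerivedFunctor
    (HomotopyCategory.quasiIso A (ComplexShape.up ℤ))]

lemma isGE_RFun
    (hKinj : ∀ K : CochainComplex A ℤ, ∃ (I : CochainComplex A ℤ) (f : K ⟶ I), I.IsKInjective ∧ QuasiIso f)
    (Y : DerivedCategory A) (a : ℤ) [Y.IsGE a] : ((DerAdj.RFun F).obj Y).IsGE a := by
  obtain ⟨K, hK, ⟨e⟩⟩ := Y.exists_iso_Q_obj_of_isGE a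
  obtain ⟨L, i, hi, hL, hL'⟩ := CochainComplex.Plus.modelCategoryQuillen.exists_quasiIso_injective K a
  haveI := hL
  haveI := hL'
  haveI := hi
  haveI : L.IsKInjective := CochainComplex.isKInjective_of_injective L a
  obtain ⟨e'⟩ := DerAdj.nonempty_RF_iso F hKinj L
  refine (DerivedCategory.isGE_iff _ _).2 fun j hj => ?_
  refine IsZero.of_iso ?_ ((DerivedCategory.homologyFunctor B j).mapIso
    ((DerAdj.RFun F).mapIso (e ≪≫ asIso (DerivedCategory.Q.map i)) ≪≫ e') ≪≫
      (DerivedCategory.homologyFunctorFactors B j).app _)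
  exact ShortComplex.isZero_homology_of_isZero_X₂ _ (F.map_isZero (L.isZero_of_isStrictlyGE a j hj))

end GE

attribute [local instance] HasDerivedCategory.standard

variable {C : Type u} [SmallCategory C] {J : GrothendieckTopology C} {O_C : Sheaf J CommRingCat.{u}}
  {D : Type u} [SmallCategory D] {K : GrothendieckTopology D} {O_D : Sheaf K CommRingCat.{u}}
  (f : ModSite.RMor O_C O_D) [HasInjectiveResolutions (ModSite.Mod O_C)] [SiteCmp.HasRpushD f]
  (A : ObjectProperty (ModSite.Mod O_C)) [WSerre.IsWeakSerre A]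

lemma isZero_RF_layer {N : ℤ} (h4 : ∀ F : ModSite.Mod O_C, A F → ∀ p : ℕ, N < (p : ℤ) → IsZero ((f.Rpush p).obj F))
    {F : ModSite.Mod O_C} (hF : A F) (a i : ℤ) (h : N < i - a) :
    IsZero ((DerivedCategory.homologyFunctor (ModSite.Mod O_D) i).obj
      ((DerAdj.RFun f.push).obj ((DerivedCategory.singleFunctor _ a).obj F))) := by
  obtain ⟨h1, h2⟩ := DerAdj.nonempty_homology_RF_single f.push (exists_kInj O_C) F a i
  by_cases hlt : i < a
  · exact h1 hlt
  · obtain ⟨p, hp⟩ : ∃ p : ℕ, a + (p : ℤ) = i := ⟨(i - a).toNat, by omega⟩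
    exact IsZero.of_iso (h4 F hF p (by omega)) (h2 p hp).some

lemma isIso_RpushD_step {N : ℤ}
    (h4 : ∀ F : ModSite.Mod O_C, A F → ∀ p : ℕ, N < (p : ℤ) → IsZero ((f.Rpush p).obj F))
    (X : DerivedCategory (ModSite.Mod O_C))
    (hX : ∀ i : ℤ, A ((DerivedCategory.homologyFunctor (ModSite.Mod O_C) i).obj X))
    (k : ℕ) (j : ℤ) (hj : N - (k : ℤ) ≤ j) :
    IsIso ((DerivedCategory.homologyFunctor (ModSite.Mod O_D) j).map
      ((SiteCmp.RpushD f).map (CohCx.truncTowerMap X k))) := by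
  obtain ⟨F, φ, δ, hT, ⟨e⟩⟩ := exists_layer X (-((k + 1 : ℕ) : ℤ)) (-(k : ℤ)) (by omega)
  obtain ⟨c, hc⟩ := DerAdj.exists_distinguished_map f.push (exists_kInj O_C) _ hT
  have hF : A F := A.prop_of_iso e.symm (hX _)
  have hm := (DerivedCategory.HomologySequence.mono_homologyMap_mor₂_iff _ hc j).2
    ((isZero_RF_layer f A h4 hF (-((k + 1 : ℕ) : ℤ)) j (by omega)).eq_of_src _ _)
  have he := (DerivedCategory.HomologySequence.epi_homologyMap_mor₂_iff _ hc j (j + 1) rfl).2
    ((isZero_RF_layer f A h4 hF (-((k + 1 : ℕ) : ℤ)) (j + 1) (by omega)).eq_of_tgt _ _)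
  exact @isIso_of_mono_of_epi _ _ _ _ _ _ hm he

variable (A' : ObjectProperty (ModSite.Mod O_D)) [WSerre.IsWeakSerre A']

/-- Cohomology of `Rf_*` of the truncations. -/
theorem homology_RpushD_tge_mem (h3 : ∀ F : ModSite.Mod O_C, A F → ∀ p : ℕ, A' ((f.Rpush p).obj F))
    (X : DerivedCategory (ModSite.Mod O_C))
    (hX : ∀ i : ℤ, A ((DerivedCategory.homologyFunctor (ModSite.Mod O_C) i).obj X)) (a j : ℤ) :
    A' ((DerivedCategory.homologyFunctor (ModSite.Mod O_D) j).obj ((SiteCmp.RpushD f).obj (tge a X))) := by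
  haveI := ModGroth.sheaf_isGrothendieckAbelian (ModSite.ringSh O_C)
  suffices key : ∀ (l : ℕ) (a j : ℤ), j < a + l →
      A' ((DerivedCategory.homologyFunctor (ModSite.Mod O_D) j).obj ((DerAdj.RFun f.push).obj (tge a X))) from
    key ((j - a).toNat + 1) a j (by omega)
  intro l
  induction l with
  | zero =>
    intro a j hj
    haveI : DerivedCategory.IsGE (tge a X) a :=
      inferInstanceAs (DerivedCategory.TStructure.t.IsGE ((DerivedCategory.TStructure.t.truncGE a).obj X) a)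
    haveI := isGE_RFun f.push (exists_kInj O_C) (tge a X) a
    exact A'.prop_of_isZero (((DerAdj.RFun f.push).obj (tge a X)).isZero_of_isGE a j (by omega))
  | succ l ih =>
    intro a j hj
    obtain ⟨F, φ, δ, hT, ⟨e⟩⟩ := exists_layer X a (a + 1) rfl
    obtain ⟨c, hc⟩ := DerAdj.exists_distinguished_map f.push (exists_kInj O_C) _ hT
    have hF : A F := A.prop_of_iso e.symm (hX _)
    have hFi : ∀ i, A' ((DerivedCategory.homologyFunctor (ModSite.Mod O_D) i).obj
        ((DerAdj.RFun f.push).obj ((DerivedCategory.singleFunctor _ a).obj F))) := fun i => by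
      obtain ⟨h1, h2⟩ := DerAdj.nonempty_homology_RF_single f.push (exists_kInj O_C) F a i
      by_cases hlt : i < a
      · exact A'.prop_of_isZero (h1 hlt)
      · obtain ⟨p, hp⟩ : ∃ p : ℕ, a + (p : ℤ) = i := ⟨(i - a).toNat, by omega⟩
        exact A'.prop_of_iso (h2 p hp).some.symm (h3 F hF p)
    exact prop_of_five A' (DerivedCategory.HomologySequence.exact₁ _ hc (j - 1) j (by omega))
      (DerivedCategory.HomologySequence.exact₂ _ hc j) (DerivedCategory.HomologySequence.exact₃ _ hc j (j + 1) rfl)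
      (ih (a + 1) (j - 1) (by omega)) (hFi j) (ih (a + 1) j (by omega)) (hFi (j + 1))

end Groth.Agent.RlimLib
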