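import Groth.Agent.RlimLib.RlimH

/-!
# Derived limits of inverse systems of objects with acyclic members
-/

set_option autoImplicit false
set_option linter.style.haveILetI false

universe w w' v u u'

open CategoryTheory CategoryTheory.Limits CategoryTheory.Pretriangulated DerivedCategory Abelian Opposite

namespace Groth.Agent.RlimLib

variable {C : Type u'} [Category.{u} C] {J : GrothendieckTopology C} {A : Type (u + 1)} [Category.{u} A] [Abelian A]

lemma subsingleton_ext_of_iso [HasExt.{w'} A] {P M N : A} (e : M ≅ N) (k : ℕ) [Subsingleton (Ext.{w'} P N k)] :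
    Subsingleton (Ext.{w'} P M k) := by
  refine subsingleton_of_forall_eq 0 fun x => ?_
  have h0 : x.comp (Ext.mk₀ e.hom) (add_zero k) = 0 := Subsingleton.elim _ _
  have h1 := congrArg (fun y => y.comp (Ext.mk₀ e.inv) (add_zero k)) h0
  simp only [Ext.zero_comp, Ext.comp_assoc_of_third_deg_zero, Ext.mk₀_comp_mk₀, e.hom_inv_id, Ext.comp_mk₀_id] at h1
  exact h1

lemma subsingleton_ext_of_isZero [HasExt.{w'} A] {P M : A} (hM : IsZero M) (k : ℕ) :
    Subsingleton (Ext.{w'} P M k) :=
  subsingleton_of_forall_eq 0 fun x => by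
    rw [← Ext.comp_mk₀_id x, hM.eq_of_src (𝟙 M) 0, Ext.mk₀_zero, Ext.comp_zero]

section Derived

variable [HasDerivedCategory.{w} A]

lemma isZero_homology_single (M : A) {q : ℤ} (hq : q ≠ 0) :
    IsZero ((homologyFunctor A q).obj ((singleFunctor A 0).obj M)) := by
  rcases lt_or_gt_of_ne hq with h | h
  · exact ((singleFunctor A 0).obj M).isZero_of_isGE 0 q h
  · exact ((singleFunctor A 0).obj M).isZero_of_isLE 0 q h

lemma isRlim_of_iso {K : ℕ → DerivedCategory A} {t : ∀ n, K (n + 1) ⟶ K n} [HasProduct K] {L L' : DerivedCategory A}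
    (e : L ≅ L') (h : DCoh.IsRlim K t L) : DCoh.IsRlim K t L' := by
  obtain ⟨a, c, hc⟩ := h
  refine ⟨e.inv ≫ a, c ≫ e.hom⟦(1 : ℤ)⟧', isomorphic_distinguished _ hc _ ?_⟩
  refine Triangle.isoMk _ _ e.symm (Iso.refl _) (Iso.refl _) ?_ ?_ ?_
  · exact Category.comp_id _
  · exact (Category.comp_id _).trans (Category.id_comp _).symm
  · refine Eq.trans ?_ (Category.id_comp _).symm
    change (c ≫ e.hom⟦(1 : ℤ)⟧') ≫ e.inv⟦(1 : ℤ)⟧' = c
    rw [Category.assoc, ← Functor.map_comp, e.hom_inv_id, CategoryTheory.Functor.map_id, Category.comp_id]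

lemma isRlim_of_isRlimVia {K : ℕ → DerivedCategory A} {t : ∀ n, K (n + 1) ⟶ K n} [HasProduct K] {L : DerivedCategory A}
    {a : ∀ n, L ⟶ K n} (h : CohCx.IsRlimVia K t L a) : DCoh.IsRlim K t L := by
  obtain ⟨c, hc⟩ := h
  exact ⟨_, c, hc⟩

lemma exists_isRlimVia {K : ℕ → DerivedCategory A} {t : ∀ n, K (n + 1) ⟶ K n} [HasProduct K] {L : DerivedCategory A}
    (h : DCoh.IsRlim K t L) : ∃ a : ∀ n, L ⟶ K n, CohCx.IsRlimVia K t L a := by
  obtain ⟨a, c, hc⟩ := h
  have ha : Pi.lift (fun n => a ≫ Pi.π K n) = a := Pi.hom_ext _ _ fun n => by rw [Pi.lift_π]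
  exact ⟨fun n => a ≫ Pi.π K n, c, ha.symm ▸ hc⟩

end Derived

namespace Gen

variable [HasExt.{w'} A] (G : Gen J A)

/-- A limit of acyclic objects with surjective enough transition maps is a derived limit. -/
theorem isRlim_single [IsGrothendieckAbelian.{u} A] [HasDerivedCategory.{w} A] [HasLimitsOfShape ℕᵒᵖ A]
    (F : ℕ → A) (t : ∀ n, F (n + 1) ⟶ F n) [HasProduct fun n => (singleFunctor A 0).obj (F n)]
    (B : C → Prop) (hB : Covers J B)
    (hv : ∀ U, B U → ∀ (n k : ℕ), 0 < k → Subsingleton (Ext.{w'} (G.P.obj U) (F n) k))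
    (hlim : ∀ U, B U → LimOne (X := G.P.obj U) F t) :
    DCoh.IsRlim (fun n => (singleFunctor A 0).obj (F n)) (fun n => (singleFunctor A 0).map (t n))
      ((singleFunctor A 0).obj (limit (CohCx.opSequence F t))) ∧
    ∀ U, B U → ∀ (k : ℕ), 0 < k → Subsingleton (Ext.{w'} (G.P.obj U) (limit (CohCx.opSequence F t)) k) := by
  let K : ℕ → DerivedCategory A := fun n => (singleFunctor A 0).obj (F n)
  let s : ∀ n, K (n + 1) ⟶ K n := fun n => (singleFunctor A 0).map (t n)
  let ε := singleFunctorCompHomologyFunctorIso A 0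
  obtain ⟨L, a, hL⟩ := exists_rlim K s
  have hb : ∀ V, B V → ∀ (m : ℤ) (n : ℕ), Function.Bijective (G.toH V (K n) m) := fun V hV m n => by
    haveI := hasProduct_nat (CohCx.truncTower (K n))
    refine G.toH_bijective (K n) B hB (fun W hW q k hk => ?_) hV m
    by_cases hq : q = 0
    · subst hq
      haveI := hv W hW n k hk
      exact subsingleton_ext_of_iso (N := F n) (ε.app (F n)) k
    · exact subsingleton_ext_of_isZero (isZero_homology_single _ hq) k
  have hl : ∀ V, B V → ∀ m : ℤ, LimOne (X := G.P.obj V) (fun n => (homologyFunctor A m).obj (K n))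
      fun n => (homologyFunctor A m).map (s n) := fun V hV m => by
    by_cases hm : m = 0
    · subst hm
      refine LimOne.of_bijective (fun n x => x ≫ (ε.app (F n)).hom)
        (fun n => ⟨fun x y h => (cancel_mono _).1 h, fun y => ⟨y ≫ (ε.app (F n)).inv, by simp⟩⟩)
        (fun n x y => Preadditive.add_comp _ _ _ _ _ _) (fun n x => ?_) (hlim V hV)
      have hn := ε.hom.naturality (t n)
      simp only [Functor.comp_map, Functor.id_map] at hn
      exact (Category.assoc _ _ _).trans ((congrArg (x ≫ ·) hn).trans (Category.assoc _ _ _).symm)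
    · exact fun b => ⟨0, fun n => (isZero_homology_single (F n) hm).eq_of_tgt _ _⟩
  have hiso : ∀ m : ℤ, IsIso (limit.lift _ (hCone a (fun n => IsRlimVia.compat hL n) m)) := fun m =>
    G.isIso_lift B hb hl hL hB m
  have hzero : ∀ m : ℤ, m ≠ 0 → IsZero ((homologyFunctor A m).obj L) := fun m hm => by
    refine IsZero.of_iso ?_ (@asIso _ _ _ _ _ (hiso m))
    rw [IsZero.iff_id_eq_zero]
    exact limit.hom_ext fun n => (isZero_homology_single (F n.unop) hm).eq_of_tgt _ _
  haveI : L.IsGE 0 := (L.isGE_iff 0).2 fun i hi => hzero i (by omega)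
  haveI : L.IsLE 0 := (L.isLE_iff 0).2 fun i hi => hzero i (by omega)
  obtain ⟨Y, ⟨eY⟩⟩ := L.exists_iso_singleFunctor_obj_of_isGE_of_isLE 0
  let α : CohCx.opSequence (fun n => (homologyFunctor A 0).obj (K n)) (fun n => (homologyFunctor A 0).map (s n)) ⟶
      CohCx.opSequence F t :=
    NatTrans.ofOpSequence (fun n => (ε.app (F n)).hom) fun n => by
      have hn := ε.hom.naturality (t n)
      simp only [Functor.comp_map, Functor.id_map] at hn
      refine ((congrArg (· ≫ _) (Functor.ofOpSequence_map_homOfLE_succ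
        (X := fun i => (homologyFunctor A 0).obj (K i)) (fun i => (homologyFunctor A 0).map (s i)) n)).trans hn).trans ?_
      exact congrArg (_ ≫ ·) (Functor.ofOpSequence_map_homOfLE_succ (X := F) t n).symm
  haveI : ∀ n, IsIso (α.app n) := fun n => inferInstanceAs (IsIso (ε.app (F n.unop)).hom)
  haveI : IsIso α := NatIso.isIso_of_isIso_app α
  let e' : Y ≅ limit (CohCx.opSequence F t) :=
    (ε.app Y).symm ≪≫ (homologyFunctor A 0).mapIso eY.symm ≪≫
      @asIso _ _ _ _ _ (hiso 0) ≪≫ HasLimit.isoOfNatIso (asIso α)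
  let e : L ≅ (singleFunctor A 0).obj (limit (CohCx.opSequence F t)) := eY ≪≫ (singleFunctor A 0).mapIso e'
  refine ⟨isRlim_of_iso e (isRlim_of_isRlimVia hL), fun U hU k hk => ?_⟩
  refine subsingleton_of_forall_eq 0 fun x => Ext.homEquiv.injective ?_
  have key : ∀ y : G.SP U ⟶ L⟦(k : ℤ)⟧, y = 0 := fun y =>
    (G.toH_bijective_rlim B hb hl hL hB hU (k : ℤ)).1 ((hzero (k : ℤ) (by omega)).eq_of_tgt _ _)
  have h2 : ∀ z : G.SP U ⟶ ((singleFunctor A 0).obj (limit (CohCx.opSequence F t)))⟦(k : ℤ)⟧, z = 0 := fun z => by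
    rw [← cancel_mono (e.inv⟦(k : ℤ)⟧'), zero_comp]
    exact key _
  exact (h2 _).trans (h2 _).symm

end Gen

end Groth.Agent.RlimLib
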