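import Groth.Agent.RlimLib.RlimSingle

/-!
# Derived limits of abelian sheaves
-/

set_option autoImplicit false
set_option linter.style.haveILetI false

universe u

open CategoryTheory CategoryTheory.Limits Opposite DerivedCategory Abelian

namespace Groth.Agent.RlimLib

variable {C : Type u} [SmallCategory C] {J : GrothendieckTopology C}

lemma subsingleton_ext_freeSheaf {F : Sheaf J AddCommGrpCat.{u}} {U : C}
    (h : ∀ p : ℕ, Subsingleton (CohSite.HU F (p + 1) U)) (k : ℕ) (hk : 0 < k) :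
    Subsingleton (Ext.{u} ((sheafGen J).P.obj U) F k) := by
  obtain ⟨p, rfl⟩ : ∃ p, k = p + 1 := ⟨k - 1, by omega⟩
  exact h p

lemma limOne_of_sections {U : C} (F : ℕ → Sheaf J AddCommGrpCat.{u}) (t : ∀ n, F (n + 1) ⟶ F n)
    (h : CohCx.LimOneIsZero (fun n => (F n).obj.obj (op U)) (fun n => ((t n).hom.app (op U)).hom)) :
    LimOne (X := (sheafGen J).P.obj U) F t := by
  intro b
  obtain ⟨c, hc⟩ := h fun n => SSExist.evalGen J U (F n) (b n)
  refine ⟨fun n => SSExist.ofSec U (F n) (c n), fun n => (SSExist.evalGen_bijective J U (F n)).1 ?_⟩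
  refine Eq.trans ?_ (congrFun hc n)
  refine (map_sub (SSExist.evalGen J U (F n)) _ _).trans ?_
  exact congrArg₂ (· - ·) (SSExist.evalGen_ofSec _ _ _)
    (congrArg ((t n).hom.app (op U)).hom (SSExist.evalGen_ofSec U (F (n + 1)) (c (n + 1))))

variable [HasDerivedCategory.{u} (Sheaf J AddCommGrpCat.{u})]

lemma toH_bijective_sheaf (K : DerivedCategory (Sheaf J AddCommGrpCat.{u})) (B : C → Prop) (hB : Covers J B)
    (h : ∀ U, B U → ∀ (p : ℕ) (q : ℤ), Subsingleton (CohSite.HU (CohCx.HD K q) (p + 1) U))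
    {U : C} (hU : B U) (q : ℤ) : Function.Bijective ((sheafGen J).toH U K q) := by
  haveI := hasProduct_nat (CohCx.truncTower K)
  exact (sheafGen J).toH_bijective K B hB (fun V hV q k hk => subsingleton_ext_freeSheaf (fun p => h V hV p q) k hk)
    hU q

/-- Hypercohomology over an object on which all cohomology sheaves are acyclic. -/
lemma nonempty_HDU_equiv (K : DerivedCategory (Sheaf J AddCommGrpCat.{u})) (B : C → Prop) (hB : Covers J B)
    (h : ∀ U, B U → ∀ (p : ℕ) (q : ℤ), Subsingleton (CohSite.HU (CohCx.HD K q) (p + 1) U))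
    {U : C} (hU : B U) (q : ℤ) :
    Nonempty (CohCx.HDU K q U ≃+ (CohCx.HD K q).obj.obj (op U)) := by
  let φ : CohCx.HDU K q U →+ (CohCx.HD K q).obj.obj (op U) :=
    (SSExist.evalGen J U (CohCx.HD K q)).comp
      (AddMonoidHom.mk' ((sheafGen J).toH U K q) ((sheafGen J).toH_add q))
  exact ⟨AddEquiv.ofBijective φ
    ((SSExist.evalGen_bijective J U (CohCx.HD K q)).comp (toH_bijective_sheaf K B hB h hU q))⟩

lemma nonempty_HD_iso_limit (K : ℕ → DerivedCategory (Sheaf J AddCommGrpCat.{u})) (t : ∀ n, K (n + 1) ⟶ K n)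
    [HasProduct K] (L : DerivedCategory (Sheaf J AddCommGrpCat.{u})) (hL : DCoh.IsRlim K t L)
    (B : C → Prop) (hB : Covers J B)
    (h1 : ∀ U, B U → ∀ (p : ℕ) (q : ℤ) (n : ℕ), Subsingleton (CohSite.HU (CohCx.HD (K n) q) (p + 1) U))
    (h2 : ∀ U, B U → ∀ (q : ℤ), CohCx.LimOneIsZero (fun n => (CohCx.HD (K n) q).obj.obj (op U))
      (fun n => (((homologyFunctor _ q).map (t n)).hom.app (op U)).hom))
    (q : ℤ) :
    Nonempty (CohCx.HD L q ≅ limit (CohCx.opSequence (fun n => CohCx.HD (K n) q)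
      (fun n => (homologyFunctor _ q).map (t n)))) := by
  obtain ⟨a, ha⟩ := exists_isRlimVia hL
  exact ⟨@asIso _ _ _ _ _ ((sheafGen J).isIso_lift B
    (fun V hV m n => toH_bijective_sheaf (K n) B hB (fun U hU p q => h1 U hU p q n) hV m)
    (fun V hV m => limOne_of_sections _ _ (h2 V hV m)) ha hB q)⟩

lemma limit_isRlim_sheaf (F : ℕ → Sheaf J AddCommGrpCat.{u}) (t : ∀ n, F (n + 1) ⟶ F n)
    [HasProduct fun n => (singleFunctor (Sheaf J AddCommGrpCat.{u}) 0).obj (F n)] (B : C → Prop) (hB : Covers J B)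
    (h1 : ∀ U, B U → ∀ (p n : ℕ), Subsingleton (CohSite.HU (F n) (p + 1) U))
    (h2 : ∀ U, B U → CohCx.LimOneIsZero (fun n => (F n).obj.obj (op U)) (fun n => ((t n).hom.app (op U)).hom)) :
    DCoh.IsRlim (fun n => (singleFunctor _ 0).obj (F n)) (fun n => (singleFunctor _ 0).map (t n))
      ((singleFunctor _ 0).obj (limit (CohCx.opSequence F t))) ∧
    ∀ U, B U → ∀ p : ℕ, Subsingleton (CohSite.HU (limit (CohCx.opSequence F t)) (p + 1) U) := by
  obtain ⟨h, h'⟩ := (sheafGen J).isRlim_single F t B hB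
    (fun U hU n k hk => subsingleton_ext_freeSheaf (fun p => h1 U hU p n) k hk)
    (fun U hU => limOne_of_sections F t (h2 U hU))
  exact ⟨h, fun U hU p => h' U hU (p + 1) (Nat.succ_pos p)⟩

lemma limOne_of_HDU {K : ℕ → DerivedCategory (Sheaf J AddCommGrpCat.{u})} {t : ∀ n, K (n + 1) ⟶ K n} {U : C} {m : ℤ}
    (h : CohCx.LimOneIsZero (fun n => CohCx.HDU (K n) m U)
      (fun n => Preadditive.rightComp _ ((shiftFunctor _ m).map (t n)))) :
    LimOne (X := (sheafGen J).SP U) (fun n => (K n)⟦m⟧) (fun n => (t n)⟦m⟧') := fun b => by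
  obtain ⟨c, hc⟩ := h b
  exact ⟨c, congrFun hc⟩

variable {K : ℕ → DerivedCategory (Sheaf J AddCommGrpCat.{u})} {t : ∀ n, K (n + 1) ⟶ K n} [HasProduct K]
  {L : DerivedCategory (Sheaf J AddCommGrpCat.{u})} {a : ∀ n, L ⟶ K n}

lemma injAt_of_transition (hL : CohCx.IsRlimVia K t L a) (m : ℤ) (N : ℕ) (U : C)
    (h1 : CohCx.LimOneIsZero (fun n => CohCx.HDU (K n) (m - 1) U)
      (fun n => Preadditive.rightComp _ ((shiftFunctor _ (m - 1)).map (t n))))
    (h2 : ∀ k : ℕ, Function.Injective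
      (Preadditive.rightComp _ ((shiftFunctor _ m).map (CohCx.transition K t N k)) :
        CohCx.HDU (K (N + k)) m U → CohCx.HDU (K N) m U)) :
    (sheafGen J).InjAt a m N U := by
  refine (sheafGen J).injAt_of hL m N U (limOne_of_HDU h1) fun n hn g hg => ?_
  obtain ⟨k, rfl⟩ : ∃ k, n = N + k := ⟨n - N, by omega⟩
  refine h2 (k + 1) ?_
  refine Eq.trans ?_ (map_zero _).symm
  change g ≫ (shiftFunctor _ m).map (t (N + k) ≫ CohCx.transition K t N k) = 0
  rw [Functor.map_comp, ← Category.assoc, hg, zero_comp]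

lemma section_eq_zero_of_local (m : ℤ) (N : ℕ) {V : C}
    (h : ∀ T ∈ J V, ∃ R ∈ J V, ∀ ⦃W : C⦄ (f : W ⟶ V), R f →
      ∃ (W' : C) (g : W ⟶ W') (h : W' ⟶ V), g ≫ h = f ∧ T h ∧ (sheafGen J).InjAt a m N W')
    (s : (CohCx.HD L m).obj.obj (op V)) (hs : ((homologyFunctor _ m).map (a N)).hom.app (op V) s = 0) : s = 0 := by
  have h0 : SSExist.ofSec V (CohCx.HD L m) s = 0 := by
    refine (sheafGen J).eq_zero_of_local (a := a) _ (fun n => n = N) (fun n hn => ?_) fun T hT => ?_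
    · subst hn
      refine (SSExist.ofSec_comp s ((homologyFunctor _ m).map (a n))).trans ?_
      exact (congrArg (SSExist.ofSec V _) hs).trans (map_zero _)
    · obtain ⟨R, hR, hR'⟩ := h (T N) (hT N rfl)
      refine ⟨R, hR, fun W f hf => ?_⟩
      obtain ⟨W', g, i, h1, h2, h3⟩ := hR' f hf
      exact ⟨W', g, i, h1, N, rfl, h2, h3⟩
  exact (SSExist.evalGen_ofSec V (CohCx.HD L m) s).symm.trans
    ((congrArg (SSExist.evalGen J V _) h0).trans (map_zero _))

end Groth.Agent.RlimLib
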