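import Groth.Agent.RlimLib.Loc
import Groth.Agent.TriH.DerivedProducts

/-!
# Maps out of a generator into an object with acyclic cohomology objects
-/

set_option autoImplicit false
set_option linter.style.haveILetI false

universe w w' v u u'

open CategoryTheory CategoryTheory.Limits CategoryTheory.Pretriangulated DerivedCategory Abelian

namespace Groth.Agent.RlimLib

/-- Countable products in the derived category of a Grothendieck abelian category. -/
lemma hasProduct_nat {A : Type (u + 1)} [Category.{u} A] [Abelian A] [IsGrothendieckAbelian.{u} A]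
    [HasDerivedCategory.{w} A] (K : ℕ → DerivedCategory A) : HasProduct K := by
  haveI : HasProducts.{u} A := fun J => inferInstance
  haveI : HasLimitsOfShape (Discrete ℕ) A :=
    hasLimitsOfShape_of_equivalence (Discrete.equivalence (Equiv.ulift.{u, 0} (α := ℕ)))
  choose I f hI hf _ _ using fun n => TriH.exists_kInjective_resolution
    (DerivedCategory.Q.objPreimage (K n))
  haveI := TriH.hasProduct_Q_of_isKInjective I hI
  haveI := hf
  exact hasLimit_of_iso (F := Discrete.functor fun n => DerivedCategory.Q.obj (I n))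
    (Discrete.natIso fun ⟨n⟩ =>
      (asIso (DerivedCategory.Q.map (f n))).symm ≪≫ DerivedCategory.Q.objObjPreimageIso (K n))

namespace Gen

variable {C : Type u'} [Category.{u} C] {J : GrothendieckTopology C} {A : Type (u + 1)} [Category.{u} A] [Abelian A]
  [HasDerivedCategory.{w} A] (G : Gen J A)

/-- The map `Hom(P U, M[m]) → Hom(P U, H^m M)`. -/
noncomputable def toH (U : C) (M : DerivedCategory A) (m : ℤ) (x : G.SP U ⟶ M⟦m⟧) :
    G.P.obj U ⟶ (homologyFunctor A m).obj M :=
  G.η x ≫ (hIso A m).hom.app M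

lemma toH_comp {U : C} {M N : DerivedCategory A} (m : ℤ) (x : G.SP U ⟶ M⟦m⟧) (g : M ⟶ N) :
    G.toH U N m (x ≫ g⟦m⟧') = G.toH U M m x ≫ (homologyFunctor A m).map g := by
  have := (hIso A m).hom.naturality g
  simp only [Functor.comp_map] at this
  simp only [toH, η_comp, Category.assoc]
  rw [← this]

lemma toH_res {U V : C} (f : V ⟶ U) {M : DerivedCategory A} (m : ℤ) (x : G.SP U ⟶ M⟦m⟧) :
    G.toH V M m (G.res f ≫ x) = G.P.map f ≫ G.toH U M m x := by
  simp [toH, η_res]

lemma toH_add {U : C} {M : DerivedCategory A} (m : ℤ) (x y : G.SP U ⟶ M⟦m⟧) :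
    G.toH U M m (x + y) = G.toH U M m x + G.toH U M m y := by
  simp [toH, η]

lemma toH_zero {U : C} {M : DerivedCategory A} (m : ℤ) : G.toH U M m 0 = 0 := by
  simp [toH, η]

/-- Sections of cohomology lift locally. -/
lemma toH_lift {U : C} {M : DerivedCategory A} (m : ℤ) (φ : G.P.obj U ⟶ (homologyFunctor A m).obj M) :
    ∃ S ∈ J U, ∀ ⦃V : C⦄ (f : V ⟶ U), S f → ∃ x : G.SP V ⟶ M⟦m⟧, G.toH V M m x = G.P.map f ≫ φ := by
  obtain ⟨S, hS, hS'⟩ := G.η_lift (φ ≫ (hIso A m).inv.app M)
  refine ⟨S, hS, fun V f hf => ?_⟩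
  obtain ⟨x, hx⟩ := hS' f hf
  exact ⟨x, by simp [toH, hx]⟩

lemma toH_bijective_of_isGE (U : C) {M : DerivedCategory A} (m : ℤ) [M.IsGE m] :
    Function.Bijective (G.toH U M m) := by
  haveI : DerivedCategory.IsGE (M⟦m⟧) 0 := TStructure.t.isGE_shift M m m 0 (by omega)
  constructor
  · intro x y hxy
    rw [← sub_eq_zero]
    refine G.η_injective_of_isGE ?_
    have h : G.η x = G.η y := (cancel_mono ((hIso A m).hom.app M)).1 hxy
    simp [η, Functor.map_sub, Preadditive.comp_sub] at h ⊢
    rw [h, sub_self]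
  · intro φ
    obtain ⟨x, hx⟩ := G.η_surjective_of_isGE (φ ≫ (hIso A m).inv.app M)
    exact ⟨x, by simp [toH, hx]⟩

variable [HasExt.{w'} A]

/-- Maps into truncations of an object with acyclic cohomology objects. -/
lemma toH_bijective_tge (U : C) (K : DerivedCategory A)
    (hv : ∀ (q : ℤ) (k : ℕ), 0 < k → Subsingleton (Ext.{w'} (G.P.obj U) ((homologyFunctor A q).obj K) k))
    (m : ℤ) : ∀ (j : ℕ), Function.Bijective (G.toH U (tge (m - j) K) m) := by
  intro j
  induction j with
  | zero =>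
    haveI : DerivedCategory.IsGE (tge (m - ((0 : ℕ) : ℤ)) K) m := by
      simp only [Nat.cast_zero, sub_zero]
      exact inferInstanceAs (TStructure.t.IsGE ((TStructure.t.truncGE m).obj K) m)
    exact G.toH_bijective_of_isGE U m
  | succ j ih =>
    let t := tgeMap (m - ((j + 1 : ℕ) : ℤ)) (m - (j : ℤ)) (by omega) K
    have hinj := (tgeMap_step K (G.P.obj U) (m - ((j + 1 : ℕ) : ℤ)) (m - (j : ℤ)) (by omega) m
      (fun k hk => hv _ k (by omega))).1
    have hsurj := (tgeMap_step K (G.P.obj U) (m - ((j + 1 : ℕ) : ℤ)) (m - (j : ℤ)) (by omega) (m + 1)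
      (fun k hk => hv _ k (by omega))).2
    rw [add_sub_cancel_right] at hsurj
    haveI : IsIso ((homologyFunctor A m).map t) := isIso_homology_tgeMap K _ (by omega)
    constructor
    · intro x y hxy
      rw [← sub_eq_zero]
      refine hinj _ ?_
      rw [Preadditive.sub_comp, sub_eq_zero]
      exact ih.1 (by rw [toH_comp, toH_comp, hxy])
    · intro φ
      obtain ⟨g, hg⟩ := ih.2 (φ ≫ (homologyFunctor A m).map t)
      obtain ⟨x, hx⟩ := hsurj g
      refine ⟨x, ?_⟩
      rw [← cancel_mono ((homologyFunctor A m).map t), ← toH_comp]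
      exact (congrArg _ hx).trans hg

/-- Maps out of a generator into an object with acyclic cohomology objects. -/
theorem toH_bijective (K : DerivedCategory A) [HasProduct (CohCx.truncTower K)] (B : C → Prop) (hB : Covers J B)
    (hv : ∀ V, B V → ∀ (q : ℤ) (k : ℕ), 0 < k →
      Subsingleton (Ext.{w'} (G.P.obj V) ((homologyFunctor A q).obj K) k))
    {U : C} (hU : B U) (m : ℤ) : Function.Bijective (G.toH U K m) := by
  have hR : CohCx.IsRlimVia (CohCx.truncTower K) (CohCx.truncTowerMap K) K (CohCx.toTruncTower K) :=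
    G.isRlimVia_of_uniform K B hB fun i => ⟨(-i).toNat, fun W hW n hn k hk => hv W hW _ k (by omega)⟩
  let N : ℕ := (-m).toNat
  have hb : ∀ n, N ≤ n → Function.Bijective (G.toH U (CohCx.truncTower K n) m) := fun n hn => by
    obtain ⟨j, hj⟩ : ∃ j : ℕ, m - (j : ℤ) = -(n : ℤ) := ⟨(m + (n : ℤ)).toNat, by omega⟩
    have := G.toH_bijective_tge U K (hv U hU) m j
    rwa [hj] at this
  constructor
  · intro x y hxy
    rw [← sub_eq_zero]
    refine (G.injAt_of hR m N U (limOne_of_surjective _ _ N fun n hn g => ?_) fun n hn g hg => ?_) _ ?_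
    · exact (tgeMap_step K (G.P.obj U) (-((n + 1 : ℕ) : ℤ)) (-(n : ℤ)) (by omega) m
        (fun k hk => hv U hU _ k (by omega))).2 g
    · exact (tgeMap_step K (G.P.obj U) (-((n + 1 : ℕ) : ℤ)) (-(n : ℤ)) (by omega) m
        (fun k hk => hv U hU _ k (by omega))).1 g hg
    · rw [Preadditive.sub_comp, sub_eq_zero]
      exact (hb N le_rfl).1 (by rw [toH_comp, toH_comp, hxy])
  · intro φ
    choose z hz using fun n : ℕ =>
      (hb (N + n) (by omega)).2 (φ ≫ (homologyFunctor A m).map (CohCx.toTruncTower K (N + n)))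
    let c : ∀ n : ℕ, CohCx.truncTower K (N + n) ⟶ CohCx.truncTower K n :=
      fun n => tgeMap (-((N + n : ℕ) : ℤ)) (-(n : ℤ)) (by omega) K
    have hc : ∀ n, c (n + 1) ≫ CohCx.truncTowerMap K n = CohCx.truncTowerMap K (N + n) ≫ c n := fun n =>
      (TStructure.t.natTransTruncGEOfLE_trans_app _ _ _ _ _ K).trans
        (TStructure.t.natTransTruncGEOfLE_trans_app _ _ _ _ _ K).symm
    have hzc : ∀ n, z (n + 1) ≫ (CohCx.truncTowerMap K (N + n))⟦m⟧' = z n := fun n =>
      (hb (N + n) (by omega)).1 (by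
        rw [toH_comp, hz, hz, Category.assoc, ← Functor.map_comp]
        exact congrArg (fun e => φ ≫ (homologyFunctor A m).map e) (π_tgeMap _ _ (by omega) K))
    obtain ⟨y, hy⟩ := IsRlimVia.exists_lift_shift hR m (fun n => z n ≫ (c n)⟦m⟧') fun n => by
      change (z (n + 1) ≫ (c (n + 1))⟦m⟧') ≫ (CohCx.truncTowerMap K n)⟦m⟧' = z n ≫ (c n)⟦m⟧'
      rw [Category.assoc, ← Functor.map_comp, hc, Functor.map_comp]
      exact (Category.assoc _ _ _).symm.trans (congrArg (· ≫ _) (hzc n))
    refine ⟨y, ?_⟩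
    haveI : IsIso ((homologyFunctor A m).map (CohCx.toTruncTower K N)) := isIso_homology_tgeπ K (by omega)
    rw [← cancel_mono ((homologyFunctor A m).map (CohCx.toTruncTower K N)), ← toH_comp, hy, toH_comp, hz,
      Category.assoc, ← Functor.map_comp]
    exact congrArg (fun e => φ ≫ (homologyFunctor A m).map e) (π_tgeMap _ _ (by omega) K)

end Gen

end Groth.Agent.RlimLib
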