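import Groth.Agent.KFlat.Tensor
import Groth.Agent.ModGroth.LTensor
import Mathlib.CategoryTheory.Abelian.GrothendieckAxioms.Basic
import Mathlib.Algebra.Homology.DerivedCategory.Fractions
import Groth.Agent.TriH.DerivedProducts

/-!
# Countable products in the derived category of an abelian category with exact countable products
-/

set_option autoImplicit false
set_option linter.style.haveILetI false

universe w v u

open CategoryTheory CategoryTheory.Limits HomologicalComplex CochainComplex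

namespace Groth.Agent.RlimLib.ExactProd

variable {B : Type u} [Category.{v} B] [Abelian B] [HasLimitsOfShape (Discrete ℕ) B]
  [(lim : (Discrete ℕ ⥤ B) ⥤ B).PreservesEpimorphisms]

/-- Countably many epimorphisms onto an object have a common refinement. -/
lemma exists_common_refinement {W : B} {Xt : ℕ → B} (q : ∀ t, Xt t ⟶ W) (hq : ∀ t, Epi (q t)) :
    ∃ (X : B) (p : X ⟶ W) (_ : Epi p) (r : ∀ t, X ⟶ Xt t), ∀ t, r t ≫ q t = p := by
  let α : Discrete.functor Xt ⟶ Discrete.functor (fun _ : ℕ => W) := Discrete.natTrans fun t => q t.as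
  haveI : ∀ j, Epi (α.app j) := fun j => hq j.as
  haveI : Epi α := NatTrans.epi_of_epi_app α
  haveI : Epi (lim.map α) := inferInstance
  let Δ : W ⟶ limit (Discrete.functor (fun _ : ℕ => W)) := Pi.lift fun _ => 𝟙 W
  refine ⟨pullback Δ (lim.map α), pullback.fst _ _, inferInstance,
    fun t => pullback.snd _ _ ≫ limit.π (Discrete.functor Xt) ⟨t⟩, fun t => ?_⟩
  have h := congrArg (· ≫ limit.π (Discrete.functor (fun _ : ℕ => W)) ⟨t⟩)
    (pullback.condition (f := Δ) (g := lim.map α))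
  simp only [Category.assoc, limMap_π, lim_map] at h
  refine (Category.assoc _ _ _).trans (h.symm.trans ?_)
  exact (congrArg (_ ≫ ·) (Pi.lift_π _ t)).trans (Category.comp_id _)

lemma quasiIso_of_fans {P R : CochainComplex B ℤ} (Q J : ℕ → CochainComplex B ℤ)
    (π : ∀ t, P ⟶ Q t) (ρ : ∀ t, R ⟶ J t) (hP : ∀ p, IsLimit (Fan.mk (P.X p) fun t => (π t).f p))
    (hR : ∀ p, IsLimit (Fan.mk (R.X p) fun t => (ρ t).f p)) (σ : P ⟶ R) (s : ∀ t, Q t ⟶ J t)
    (hσ : ∀ t, σ ≫ ρ t = π t ≫ s t) (hs : ∀ t, QuasiIso (s t)) :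
    QuasiIso σ := by
  have hσ' : ∀ t p, σ.f p ≫ (ρ t).f p = (π t).f p ≫ (s t).f p := fun t p =>
    congrArg (fun z : P ⟶ J t => z.f p) (hσ t)
  refine ModGroth.quasiIso_of_acyclic_mappingCone σ fun i => ?_
  rw [exactAt_iff' _ (i - 1) i (i + 1) (by simp) (by simp), ShortComplex.exact_iff_exact_up_to_refinements]
  intro W g₀ hg₀
  suffices h : ∀ g : W ⟶ (mappingCone σ).X i, g ≫ (mappingCone σ).d i (i + 1) = 0 →
      ∃ (X : B) (p : X ⟶ W) (_ : Epi p) (x : X ⟶ (mappingCone σ).X (i - 1)),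
        p ≫ g = x ≫ (mappingCone σ).d (i - 1) i from h g₀ hg₀
  intro g hg
  let p := 𝟙 W
  let u := p ≫ g ≫ (mappingCone.fst σ).1.v i (i + 1) rfl
  let v := p ≫ g ≫ (mappingCone.snd σ).v i i (add_zero i)
  have hu : u ≫ P.d (i + 1) (i + 1 + 1) = 0 := by
    have := congrArg (fun z => p ≫ z ≫ (mappingCone.fst σ).1.v (i + 1) (i + 1 + 1) rfl) hg
    simpa [u, mappingCone.d_fst_v σ i (i + 1) (i + 1 + 1) rfl rfl] using this
  have hv : u ≫ σ.f (i + 1) + v ≫ R.d i (i + 1) = 0 := by
    have := congrArg (fun z => p ≫ z ≫ (mappingCone.snd σ).v (i + 1) (i + 1) (add_zero _)) hg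
    simpa [u, v, mappingCone.d_snd_v σ i (i + 1) rfl] using this
  have key : ∀ t, ∃ (X : B) (q : X ⟶ W) (_ : Epi q) (b : X ⟶ (Q t).X i) (c : X ⟶ (J t).X (i - 1)),
      -(b ≫ (Q t).d i (i + 1)) = q ≫ u ≫ (π t).f (i + 1) ∧
        b ≫ (s t).f i + c ≫ (J t).d (i - 1) i = q ≫ v ≫ (ρ t).f i := by
    intro t
    let gt : W ⟶ (mappingCone (s t)).X i :=
      (u ≫ (π t).f (i + 1)) ≫ (mappingCone.inl (s t)).v (i + 1) i (by omega) +
        (v ≫ (ρ t).f i) ≫ (mappingCone.inr (s t)).f i
    have hgt : gt ≫ (mappingCone (s t)).d i (i + 1) = 0 := by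
      rw [mappingCone.ext_to_iff (s t) (i + 1) (i + 1 + 1) rfl]
      constructor
      · have h := congrArg (· ≫ (π t).f (i + 1 + 1)) hu
        simp only [Category.assoc, zero_comp, ← (π t).comm] at h
        simpa [gt, mappingCone.d_fst_v (s t) i (i + 1) (i + 1 + 1) rfl rfl] using h
      · have h := congrArg (· ≫ (ρ t).f (i + 1)) hv
        simp only [Preadditive.add_comp, Category.assoc, hσ', zero_comp, ← (ρ t).comm] at h
        simpa [gt, mappingCone.d_snd_v (s t) i (i + 1) rfl] using h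
    haveI := hs t
    have hC := KFlat.acyclic_mappingCone_of_quasiIso (s t) i
    rw [exactAt_iff' _ (i - 1) i (i + 1) (by simp) (by simp), ShortComplex.exact_iff_exact_up_to_refinements] at hC
    obtain ⟨X, q, hq, a, ha⟩ : ∃ (X : B) (q : X ⟶ W) (_ : Epi q) (a : X ⟶ (mappingCone (s t)).X (i - 1)),
        a ≫ (mappingCone (s t)).d (i - 1) i = q ≫ gt := by
      obtain ⟨X, q, hq, a, ha⟩ := hC gt hgt
      exact ⟨X, q, hq, a, ha.symm⟩
    refine ⟨X, q, hq, a ≫ (mappingCone.fst (s t)).1.v (i - 1) i (by omega),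
      a ≫ (mappingCone.snd (s t)).v (i - 1) (i - 1) (add_zero _), ?_, ?_⟩
    · have h := congrArg (· ≫ (mappingCone.fst (s t)).1.v i (i + 1) rfl) ha
      simpa [gt, mappingCone.d_fst_v (s t) (i - 1) i (i + 1) (by omega) rfl] using h
    · have h := congrArg (· ≫ (mappingCone.snd (s t)).v i i (add_zero i)) ha
      simpa [gt, mappingCone.d_snd_v (s t) (i - 1) i (by omega)] using h
  choose Xt q hq b c hb hc using key
  obtain ⟨X, p', hp', r, hr⟩ := exists_common_refinement q hq
  refine ⟨X, p', hp', ?_⟩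
  let B' : X ⟶ P.X i := Fan.IsLimit.lift (hP i) fun t => r t ≫ b t
  let C' : X ⟶ R.X (i - 1) := Fan.IsLimit.lift (hR (i - 1)) fun t => r t ≫ c t
  have hB : ∀ t, B' ≫ (π t).f i = r t ≫ b t := fun t => Fan.IsLimit.fac (hP i) _ t
  have hC : ∀ t, C' ≫ (ρ t).f (i - 1) = r t ≫ c t := fun t => Fan.IsLimit.fac (hR (i - 1)) _ t
  refine ⟨B' ≫ (mappingCone.inl σ).v i (i - 1) (by omega) + C' ≫ (mappingCone.inr σ).f (i - 1), ?_⟩
  rw [mappingCone.ext_to_iff σ i (i + 1) rfl]
  constructor
  · refine Fan.IsLimit.hom_ext (hP (i + 1)) _ _ fun t => ?_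
    change (_ ≫ (mappingCone.fst σ).1.v i (i + 1) rfl) ≫ (π t).f (i + 1) =
      (_ ≫ (mappingCone.fst σ).1.v i (i + 1) rfl) ≫ (π t).f (i + 1)
    simp [mappingCone.d_fst_v σ (i - 1) i (i + 1) (by omega) rfl, ← (π t).comm, reassoc_of% (hB t),
      -HomologicalComplex.Hom.comm, -HomologicalComplex.Hom.comm_assoc]
    have h := congrArg (r t ≫ ·) (hb t).symm
    rw [← Category.assoc (r t) (q t), hr] at h
    simpa [u, p] using h
  · refine Fan.IsLimit.hom_ext (hR i) _ _ fun t => ?_
    change (_ ≫ (mappingCone.snd σ).v i i (add_zero i)) ≫ (ρ t).f i =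
      (_ ≫ (mappingCone.snd σ).v i i (add_zero i)) ≫ (ρ t).f i
    simp [mappingCone.d_snd_v σ (i - 1) i (by omega), hσ', ← (ρ t).comm, reassoc_of% (hB t),
      reassoc_of% (hC t), -HomologicalComplex.Hom.comm, -HomologicalComplex.Hom.comm_assoc]
    have h := congrArg (r t ≫ ·) (hc t).symm
    rw [← Category.assoc (r t) (q t), hr] at h
    simpa [v, p] using h


/-- `Q` preserves countable products. -/
instance preservesLimitsOfShape_Q [HasDerivedCategory.{w} B] :
    PreservesLimitsOfShape (Discrete ℕ) (DerivedCategory.Q (C := B)) := by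
  refine ⟨fun {K} => ?_⟩
  suffices ∀ X : ℕ → CochainComplex B ℤ, PreservesLimit (Discrete.functor X) DerivedCategory.Q from
    haveI := this fun t => K.obj ⟨t⟩
    preservesLimit_of_iso_diagram _ Discrete.natIsoFunctor.symm
  intro X
  refine preservesLimit_of_preserves_limit_cone (productIsProduct X)
    ((isLimitMapConeFanMkEquiv _ _ _).symm ?_)
  have hlift : ∀ (W : DerivedCategory B) (g : ∀ t, W ⟶ DerivedCategory.Q.obj (X t)),
      ∃! l : W ⟶ DerivedCategory.Q.obj (∏ᶜ X), ∀ t, l ≫ DerivedCategory.Q.map (Pi.π X t) = g t := by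
    intro W g
    obtain ⟨A, ⟨e⟩⟩ : ∃ A, Nonempty (DerivedCategory.Q.obj A ≅ W) :=
      ⟨_, ⟨DerivedCategory.Q.objObjPreimageIso W⟩⟩
    have hex : ∀ t, ∃ (Y : CochainComplex B ℤ) (a : A ⟶ Y) (s : X t ⟶ Y) (_ : IsIso (DerivedCategory.Q.map s)),
        e.hom ≫ g t = DerivedCategory.Q.map a ≫ inv (DerivedCategory.Q.map s) := fun t =>
      DerivedCategory.left_fac _
    choose Y a s hs he using hex
    have hq : ∀ (Z : ℕ → CochainComplex B ℤ) (σ : ∀ t, X t ⟶ Z t), (∀ t, IsIso (DerivedCategory.Q.map (σ t))) →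
        IsIso (DerivedCategory.Q.map (Limits.Pi.map σ)) := by
      intro Z σ hσ
      rw [DerivedCategory.isIso_Q_map_iff_quasiIso]
      exact quasiIso_of_fans X Z (fun t => Pi.π X t) (fun t => Pi.π Z t)
        (fun p => isLimitFanMkObjOfIsLimit (HomologicalComplex.eval B (ComplexShape.up ℤ) p) X _ (productIsProduct X))
        (fun p => isLimitFanMkObjOfIsLimit (HomologicalComplex.eval B (ComplexShape.up ℤ) p) Z _ (productIsProduct Z))
        _ σ (fun t => Pi.map_π _ t) fun t => (DerivedCategory.isIso_Q_map_iff_quasiIso _ (σ t)).1 (hσ t)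
    haveI := hq Y s hs
    refine ⟨e.inv ≫ DerivedCategory.Q.map (Pi.lift a) ≫ inv (DerivedCategory.Q.map (Limits.Pi.map s)), fun t => ?_, ?_⟩
    · haveI := hs t
      have h1 : inv (DerivedCategory.Q.map (Limits.Pi.map s)) ≫ DerivedCategory.Q.map (Pi.π X t) =
          DerivedCategory.Q.map (Pi.π Y t) ≫ inv (DerivedCategory.Q.map (s t)) := by
        rw [IsIso.inv_comp_eq, ← Category.assoc, IsIso.eq_comp_inv, ← Functor.map_comp, ← Functor.map_comp,
          Pi.map_π]
      rw [Category.assoc, Category.assoc, h1, ← Category.assoc (DerivedCategory.Q.map (Pi.lift a)),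
        ← Functor.map_comp, Pi.lift_π, ← he, Iso.inv_hom_id_assoc]
    intro l hl
    rw [← sub_eq_zero]
    set d := l - e.inv ≫ DerivedCategory.Q.map (Pi.lift a) ≫ inv (DerivedCategory.Q.map (Limits.Pi.map s))
    have hd : ∀ t, (e.hom ≫ d) ≫ DerivedCategory.Q.map (Pi.π X t) = 0 := by
      intro t
      haveI := hs t
      have h1 : inv (DerivedCategory.Q.map (Limits.Pi.map s)) ≫ DerivedCategory.Q.map (Pi.π X t) =
          DerivedCategory.Q.map (Pi.π Y t) ≫ inv (DerivedCategory.Q.map (s t)) := by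
        rw [IsIso.inv_comp_eq, ← Category.assoc, IsIso.eq_comp_inv, ← Functor.map_comp, ← Functor.map_comp,
          Pi.map_π]
      rw [Category.assoc, Preadditive.sub_comp, hl, Category.assoc, Category.assoc, h1,
        ← Category.assoc (DerivedCategory.Q.map (Pi.lift a)), ← Functor.map_comp, Pi.lift_π, ← he,
        Iso.inv_hom_id_assoc, sub_self, comp_zero]
    obtain ⟨A', r, hr, γ, hγ⟩ := DerivedCategory.right_fac (e.hom ≫ d)
    have hz : ∀ t, ∃ (Z : CochainComplex B ℤ) (σ : X t ⟶ Z) (_ : IsIso (DerivedCategory.Q.map σ)),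
        Nonempty (Homotopy ((γ ≫ Pi.π X t) ≫ σ) 0) := by
      intro t
      have h0 : DerivedCategory.Q.map (γ ≫ Pi.π X t) = 0 := by
        have h := hd t
        rw [hγ, Category.assoc, ← Functor.map_comp] at h
        exact (cancel_epi (inv (DerivedCategory.Q.map r))).1 (h.trans comp_zero.symm)
      let q := HomotopyCategory.quotient B (ComplexShape.up ℤ)
      have h2 : DerivedCategory.Qh.map (q.map (γ ≫ Pi.π X t)) = DerivedCategory.Qh.map (q.map 0) := by
        have n1 := DerivedCategory.quotientCompQhIso_hom_naturality (γ ≫ Pi.π X t)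
        rw [h0, comp_zero] at n1
        rw [Functor.map_zero q, Functor.map_zero]
        exact (cancel_mono ((DerivedCategory.quotientCompQhIso B).hom.app (X t))).1 (n1.trans zero_comp.symm)
      obtain ⟨Z', σ', hσ', hh⟩ :=
        (MorphismProperty.map_eq_iff_postcomp DerivedCategory.Qh (HomotopyCategory.quasiIso B (ComplexShape.up ℤ)) _ _).1 h2
      obtain ⟨Z, rfl⟩ := HomotopyCategory.quotient_obj_surjective Z'
      obtain ⟨σ, rfl⟩ := q.map_surjective σ'
      refine ⟨Z, σ, ?_, ⟨HomotopyCategory.homotopyOfEq _ _ ?_⟩⟩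
      · rw [DerivedCategory.isIso_Q_map_iff_quasiIso]
        exact (HomotopyCategory.quotient_map_mem_quasiIso_iff σ).1 hσ'
      · rw [Functor.map_comp]
        refine hh.trans ?_
        rw [← Functor.map_comp, zero_comp]
    choose Z σ hσ hhom using hz
    haveI := hq Z σ hσ
    have h3 : DerivedCategory.Q.map (γ ≫ Limits.Pi.map σ) = 0 := by
      obtain ⟨h⟩ : Nonempty (Homotopy (γ ≫ Limits.Pi.map σ) 0) := by
        rw [TriH.nullHomotopic_iff_exists_extension]
        choose ψ hψ using fun t => (TriH.nullHomotopic_iff_exists_extension _).1 (hhom t)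
        exact ⟨Pi.lift ψ, Pi.hom_ext _ _ fun t => by simp [hψ]⟩
      rw [← cancel_epi ((DerivedCategory.quotientCompQhIso B).hom.app A'),
        ← DerivedCategory.quotientCompQhIso_hom_naturality, HomotopyCategory.eq_of_homotopy _ _ h]
      simp
    have h4 : DerivedCategory.Q.map γ = 0 := by
      rw [Functor.map_comp] at h3
      exact (cancel_mono (DerivedCategory.Q.map (Limits.Pi.map σ))).1 (h3.trans zero_comp.symm)
    rw [h4, comp_zero] at hγ
    exact (cancel_epi e.hom).1 (hγ.trans comp_zero.symm)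
  exact mkFanLimit _ (fun c => (hlift c.pt (fun t => c.proj t)).choose)
    (fun c t => (hlift c.pt (fun t => c.proj t)).choose_spec.1 t)
    (fun c m hm => (hlift c.pt (fun t => c.proj t)).choose_spec.2 m hm)

end Groth.Agent.RlimLib.ExactProd
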