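import Groth.Agent.RlimLib.SheafGen

/-!
# Cohomology of the underlying abelian sheaf from `Ext` out of free modules
-/

set_option autoImplicit false
set_option linter.style.haveILetI false

universe w u

open CategoryTheory CategoryTheory.Limits Opposite CategoryTheory.Abelian

namespace Groth.Agent.RlimLib

variable {C : Type u} [SmallCategory C] {J : GrothendieckTopology C} (O : Sheaf J CommRingCat.{u})

/-- Vanishing of `Ext` from free modules gives vanishing of the cohomology of the underlying abelian sheaf. -/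
lemma subsingleton_HU_of_ext_freeOn [HasExt.{w} (ModSite.Mod O)] [EnoughInjectives (ModSite.Mod O)] (U : C) :
    ∀ (k : ℕ) (M : ModSite.Mod O), Subsingleton (Ext.{w} (ModSite.freeOn O U) M k) →
      Subsingleton (ModSite.HU O M k U) := by
  intro k
  induction k with
  | zero =>
    intro M h
    haveI : Subsingleton (ModSite.freeOn O U ⟶ M) := (Ext.mk₀_bijective _ _).1.subsingleton
    haveI : Subsingleton (M.val.obj (op U)) := (ModGroth.FreeOn.homEquiv O U M).symm.injective.subsingleton
    haveI : Subsingleton ((ModSite.toAb M).obj.obj (op U)) := ‹Subsingleton (M.val.obj (op U))›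
    haveI : Subsingleton (SSExist.freeAb J U ⟶ ModSite.toAb M) :=
      (SSExist.evalGen_bijective J U (ModSite.toAb M)).1.subsingleton
    exact (Ext.mk₀_bijective (SSExist.freeAb J U) (ModSite.toAb M)).2.subsingleton
  | succ k ih =>
    intro M h
    let S := ShortComplex.mk (Injective.ι M) (cokernel.π (Injective.ι M)) (cokernel.condition _)
    have hS : S.ShortExact :=
      { exact := ShortComplex.exact_of_g_is_cokernel _ (cokernelIsCokernel _)
        mono_f := inferInstanceAs (Mono (Injective.ι M)) }
    have hS' : (S.map (SSExist.toAbF O)).ShortExact := hS.map_of_exact (SSExist.toAbF O)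
    haveI hI : Injective S.X₂ := inferInstanceAs (Injective (Injective.under M))
    haveI : Subsingleton (Ext.{w} (ModSite.freeOn O U) S.X₁ (k + 1)) := h
    refine subsingleton_of_forall_eq (0 : ModSite.HU O M (k + 1) U) fun x => ?_
    haveI hI2 : Subsingleton (Ext.{u} (SSExist.freeAb J U) (S.map (SSExist.toAbF O)).X₂ (k + 1)) :=
      SSExist.subsingleton_ext_freeObj (SSExist.isTotallyAcyclic_toAb (SSExist.flatInj_of_injective S.X₂)) U k
    obtain ⟨y, rfl⟩ := Ext.covariant_sequence_exact₁ (SSExist.freeAb J U) hS' x (Subsingleton.elim _ _) (n₀ := k) rfl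
    rcases k with _ | k
    · obtain ⟨φ', rfl⟩ := (Ext.mk₀_bijective _ _).2 y
      let φ := (ModGroth.FreeOn.homEquiv O U S.X₃).symm (SSExist.evalGen J U (ModSite.toAb S.X₃) φ')
      obtain ⟨z, hz⟩ := Ext.covariant_sequence_exact₃ (ModSite.freeOn O U) hS (Ext.mk₀ φ) (zero_add 1)
        (Subsingleton.elim _ _)
      obtain ⟨ψ, rfl⟩ := (Ext.mk₀_bijective _ _).2 z
      rw [Ext.mk₀_comp_mk₀] at hz
      have hψ : ψ ≫ S.g = φ := (Ext.mk₀_bijective _ _).1 hz
      let ψ' := SSExist.ofSec U (ModSite.toAb S.X₂) (ModGroth.FreeOn.homEquiv O U S.X₂ ψ)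
      have hψ' : ψ' ≫ (S.map (SSExist.toAbF O)).g = φ' := by
        refine (SSExist.evalGen_bijective J U (ModSite.toAb S.X₃)).1 ?_
        have h1 := ModGroth.FreeOn.homEquiv_comp O U ψ S.g
        rw [hψ] at h1
        refine Eq.trans ?_ ((ModGroth.FreeOn.homEquiv O U S.X₃).apply_symm_apply _)
        refine Eq.trans ?_ h1.symm
        exact congrArg (S.g.val.app (op U)) (SSExist.evalGen_ofSec U (ModSite.toAb S.X₂) _)
      rw [← hψ', ← Ext.mk₀_comp_mk₀, Ext.comp_assoc_of_second_deg_zero]
      exact (congrArg (fun z => (Ext.mk₀ ψ').comp z (zero_add _)) hS'.comp_extClass).trans (Ext.comp_zero ..)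
    · haveI : Subsingleton (Ext.{w} (ModSite.freeOn O U) S.X₃ (k + 1)) := subsingleton_of_forall_eq 0 fun z => by
        obtain ⟨w', hw⟩ := Ext.covariant_sequence_exact₃ (ModSite.freeOn O U) hS z (n₁ := k + 1 + 1) rfl
          (Subsingleton.elim _ _)
        rw [← hw, Ext.eq_zero_of_injective w', Ext.zero_comp]
      haveI : Subsingleton (ModSite.HU O S.X₃ (k + 1) U) := ih S.X₃ this
      rw [show y = 0 from (Subsingleton.elim (α := ModSite.HU O S.X₃ (k + 1) U) y 0)]
      exact Ext.zero_comp ..

end Groth.Agent.RlimLib
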