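import Groth.Agent.TriH.TruncFactor
import Groth.Agent.DerAdj.Devissage
import Mathlib.CategoryTheory.Sites.Grothendieck
import Mathlib.Algebra.Homology.DerivedCategory.Fractions
import Mathlib.Algebra.Homology.DerivedCategory.FullyFaithful
import Mathlib.Algebra.Homology.DerivedCategory.Ext.Basic

/-!
# Families of generators on a site and local maps out of them in the derived category

`η` sends a map `x : P_U ⟶ M` in the derived category to the section of `H⁰ M` it gives.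
Every section lifts locally, and a map with zero section vanishes locally after composing to `τ_{≥ 0}`.
-/

set_option autoImplicit false
set_option linter.style.haveILetI false

universe w v u u'

open CategoryTheory CategoryTheory.Limits CategoryTheory.Pretriangulated DerivedCategory

namespace Groth.Agent.RlimLib

variable {C : Type u'} [Category.{v} C] (J : GrothendieckTopology C)
  (A : Type u) [Category.{v} A] [Abelian A]

/-- A family of objects of `A` indexed by a site, behaving like free sheaves on representables. -/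
structure Gen where
  /-- The generators. -/
  P : C ⥤ A
  sep : ∀ {U : C} {F : A} (φ : P.obj U ⟶ F) (S : Sieve U), S ∈ J U →
    (∀ ⦃V : C⦄ (f : V ⟶ U), S f → P.map f ≫ φ = 0) → φ = 0
  lift : ∀ {U : C} {E F : A} (g : E ⟶ F), Epi g → ∀ φ : P.obj U ⟶ F, ∃ S ∈ J U,
    ∀ ⦃V : C⦄ (f : V ⟶ U), S f → ∃ ψ : P.obj V ⟶ E, ψ ≫ g = P.map f ≫ φ
  gen : ∀ {M N : A} (φ : M ⟶ N), (∀ (U : C) (s : P.obj U ⟶ M), s ≫ φ = 0) → φ = 0

variable {J A}

/-- Objects of `B` cover everything. -/
def Covers (J : GrothendieckTopology C) (B : C → Prop) : Prop :=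
  ∀ U : C, ∃ S ∈ J U, ∀ ⦃V : C⦄ (f : V ⟶ U), S f → ∃ (W : C) (g : V ⟶ W) (h : W ⟶ U), B W ∧ g ≫ h = f

namespace Gen

variable (G : Gen J A)

lemma mono_of_injective {M N : A} (φ : M ⟶ N) (B : C → Prop) (hB : Covers J B)
    (h : ∀ U, B U → ∀ s : G.P.obj U ⟶ M, s ≫ φ = 0 → s = 0) : Mono φ := by
  rw [Preadditive.mono_iff_cancel_zero]
  intro W g hg
  refine G.gen g fun U s => ?_
  obtain ⟨S, hS, hS'⟩ := hB U
  refine G.sep _ S hS fun V f hf => ?_
  obtain ⟨W', a, b, hW, rfl⟩ := hS' f hf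
  rw [Functor.map_comp, Category.assoc, h W' hW (G.P.map b ≫ s ≫ g) (by simp [hg]), comp_zero]

lemma epi_of_lifts {M N : A} (φ : M ⟶ N) (B : C → Prop) (hB : Covers J B)
    (h : ∀ U, B U → ∀ t : G.P.obj U ⟶ N, ∃ S ∈ J U,
      ∀ ⦃V : C⦄ (f : V ⟶ U), S f → ∃ ψ : G.P.obj V ⟶ M, ψ ≫ φ = G.P.map f ≫ t) : Epi φ := by
  rw [Preadditive.epi_iff_cancel_zero]
  intro W g hg
  refine G.gen g fun U s => ?_
  obtain ⟨S, hS, hS'⟩ := hB U
  refine G.sep _ S hS fun V f hf => ?_
  obtain ⟨W', a, b, hW, rfl⟩ := hS' f hf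
  obtain ⟨T, hT, hT'⟩ := h W' hW (G.P.map b ≫ s)
  rw [Functor.map_comp, Category.assoc,
    G.sep (G.P.map b ≫ s ≫ g) T hT fun V' f' hf' => ?_, comp_zero]
  obtain ⟨ψ, hψ⟩ := hT' f' hf'
  rw [← Category.assoc (G.P.map b), ← Category.assoc, ← hψ, Category.assoc, hg, comp_zero]

lemma isIso_of_bijective {M N : A} (φ : M ⟶ N) (B : C → Prop) (hB : Covers J B)
    (h : ∀ U, B U → Function.Bijective fun s : G.P.obj U ⟶ M => s ≫ φ) : IsIso φ := by
  haveI := G.mono_of_injective φ B hB fun U hU s hs => (h U hU).1 (by simpa using hs)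
  haveI := G.epi_of_lifts φ B hB fun U hU t => by
    obtain ⟨s, hs⟩ := (h U hU).2 t
    exact ⟨⊤, J.top_mem U, fun V f _ => ⟨G.P.map f ≫ s, by rw [Category.assoc]; exact congrArg _ hs⟩⟩
  exact isIso_of_mono_of_epi φ

variable [HasDerivedCategory.{w} A]

/-- The generator in degree zero. -/
noncomputable abbrev SP (U : C) : DerivedCategory A := (singleFunctor A 0).obj (G.P.obj U)

/-- Restriction. -/
noncomputable abbrev res {U V : C} (f : V ⟶ U) : G.SP V ⟶ G.SP U := (singleFunctor A 0).map (G.P.map f)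

lemma res_comp {U V W : C} (g : W ⟶ V) (f : V ⟶ U) : G.res (g ≫ f) = G.res g ≫ G.res f := by
  rw [res, Functor.map_comp, Functor.map_comp]

/-- The section of `H⁰` given by a map out of a generator. -/
noncomputable def η {U : C} {M : DerivedCategory A} (x : G.SP U ⟶ M) :
    G.P.obj U ⟶ (homologyFunctor A 0).obj M :=
  (singleFunctorCompHomologyFunctorIso A 0).inv.app (G.P.obj U) ≫ (homologyFunctor A 0).map x

lemma η_comp {U : C} {M N : DerivedCategory A} (x : G.SP U ⟶ M) (g : M ⟶ N) :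
    G.η (x ≫ g) = G.η x ≫ (homologyFunctor A 0).map g := by
  simp [η]

lemma η_res {U V : C} (f : V ⟶ U) {M : DerivedCategory A} (x : G.SP U ⟶ M) :
    G.η (G.res f ≫ x) = G.P.map f ≫ G.η x := by
  have h := (singleFunctorCompHomologyFunctorIso A 0).inv.naturality (G.P.map f)
  simp only [Functor.id_map, Functor.comp_map] at h
  simp only [η, Functor.map_comp]
  rw [← reassoc_of% h]

lemma η_zero {U : C} {M : DerivedCategory A} : G.η (0 : G.SP U ⟶ M) = 0 := by
  simp [η]

/-- Maps into objects in negative degrees vanish locally. -/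
lemma locally_zero {U : C} {N : DerivedCategory A} [N.IsLE (-1)] (y : G.SP U ⟶ N) :
    ∃ S ∈ J U, ∀ ⦃V : C⦄ (f : V ⟶ U), S f → G.res f ≫ y = 0 := by
  obtain ⟨L, hL, ⟨e⟩⟩ := N.exists_iso_Q_obj_of_isLE (-1)
  let i := (singleFunctorIsoCompQ A 0).app (G.P.obj U)
  obtain ⟨Z, hZ, s, hs, g, hg⟩ := right_fac_of_isStrictlyLE
    (X := (CochainComplex.singleFunctor A 0).obj (G.P.obj U)) (i.inv ≫ y ≫ e.hom) 0
  let X₀ := (CochainComplex.singleFunctor A 0).obj (G.P.obj U)
  haveI : QuasiIso s := (DerivedCategory.isIso_Q_map_iff_quasiIso (C := A) s).1 hs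
  have hepi : Epi (s.f 0) := by
    haveI : QuasiIsoAt s 0 := inferInstance
    haveI : IsIso (HomologicalComplex.homologyMap s 0) := inferInstance
    haveI : IsIso (Z.iCycles 0) := Z.isIso_iCycles 0 1 (by simp) ((Z.isZero_of_isStrictlyLE 0 1).eq_of_tgt _ _)
    haveI : IsIso (X₀.iCycles 0) := X₀.isIso_iCycles 0 1 (by simp)
      ((X₀.isZero_of_isStrictlyLE 0 1).eq_of_tgt _ _)
    haveI : IsIso (X₀.homologyπ 0) := X₀.isIso_homologyπ (-1) 0 (by simp)
      ((HomologicalComplex.isZero_single_obj_X (ComplexShape.up ℤ) 0 _ _ (by omega)).eq_of_src _ _)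
    haveI : Epi (HomologicalComplex.cyclesMap s 0) := by
      haveI : Epi (HomologicalComplex.cyclesMap s 0 ≫ X₀.homologyπ 0) := by
        rw [← HomologicalComplex.homologyπ_naturality]
        infer_instance
      exact (epi_comp_iff_of_isIso _ (X₀.homologyπ 0)).1 inferInstance
    haveI : Epi (Z.iCycles 0 ≫ s.f 0) := by
      rw [← HomologicalComplex.cyclesMap_i]
      infer_instance
    exact epi_of_epi (Z.iCycles 0) _
  obtain ⟨S, hS, hS'⟩ := G.lift (s.f 0) hepi (HomologicalComplex.singleObjXSelf (ComplexShape.up ℤ) 0 _).inv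
  refine ⟨S, hS, fun V f hf => ?_⟩
  obtain ⟨ψ, hψ⟩ := hS' f hf
  let σ : (CochainComplex.singleFunctor A 0).obj (G.P.obj V) ⟶ Z :=
    HomologicalComplex.mkHomFromSingle ψ (fun j hj => by
      obtain rfl : 0 + 1 = j := hj
      exact (Z.isZero_of_isStrictlyLE 0 (0 + 1) (by omega)).eq_of_tgt _ _)
  have h1 : σ ≫ s = (CochainComplex.singleFunctor A 0).map (G.P.map f) := by
    refine HomologicalComplex.from_single_hom_ext ?_
    simp only [σ, HomologicalComplex.comp_f, HomologicalComplex.mkHomFromSingle_f, Category.assoc, hψ]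
    refine (Category.assoc _ _ _).trans ((congrArg (_ ≫ ·) hψ).trans ?_)
    exact (HomologicalComplex.single_map_f_self _ _ _).symm
  have h2 : σ ≫ g = 0 := by
    refine HomologicalComplex.from_single_hom_ext ((L.isZero_of_isStrictlyLE (-1) 0 (by omega)).eq_of_tgt _ _)
  have h3 : Q.map ((CochainComplex.singleFunctor A 0).map (G.P.map f)) ≫ i.inv ≫ y ≫ e.hom = 0 := by
    rw [hg, ← h1, Functor.map_comp, Category.assoc, IsIso.hom_inv_id_assoc, ← Functor.map_comp, h2,
      Functor.map_zero]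
  have hn := (singleFunctorIsoCompQ A 0).inv.naturality (G.P.map f)
  simp only [Functor.comp_map] at hn
  rw [← cancel_mono e.hom, zero_comp, ← cancel_epi ((singleFunctorIsoCompQ A 0).inv.app (G.P.obj V)),
    comp_zero, Category.assoc, ← Category.assoc, ← hn]
  exact (Category.assoc _ _ _).trans h3

lemma η_injective_of_isGE {U : C} {M : DerivedCategory A} [M.IsGE 0] {x : G.SP U ⟶ M} (hx : G.η x = 0) :
    x = 0 := by
  refine TriH.TruncFactor.eq_zero_of_homology 0 x ?_
  rw [← cancel_epi ((singleFunctorCompHomologyFunctorIso A 0).inv.app (G.P.obj U)), comp_zero]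
  exact hx

lemma η_surjective_of_isGE {U : C} {M : DerivedCategory A} [M.IsGE 0] (φ : G.P.obj U ⟶ (homologyFunctor A 0).obj M) :
    ∃ x : G.SP U ⟶ M, G.η x = φ := by
  let T := (TStructure.t.triangleLEGE 0 1 rfl).obj M
  have hT : T ∈ distinguishedTriangles := TStructure.t.triangleLEGE_distinguished 0 1 rfl M
  haveI : T.obj₁.IsLE 0 := inferInstanceAs (TStructure.t.IsLE ((TStructure.t.truncLE 0).obj M) 0)
  haveI : T.obj₃.IsGE (0 + 1) := inferInstanceAs (TStructure.t.IsGE ((TStructure.t.truncGE 1).obj M) 1)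
  haveI : T.obj₂.IsGE 0 := inferInstanceAs (M.IsGE 0)
  haveI : T.obj₁.IsGE 0 := DerAdj.isGE_obj₁ hT 0 0
  haveI : IsIso ((homologyFunctor A 0).map T.mor₁) := DerAdj.isIso_homology_mor₁ hT (0 + 1) 0 (by omega)
  obtain ⟨Y, ⟨e⟩⟩ := T.obj₁.exists_iso_singleFunctor_obj_of_isGE_of_isLE 0
  let j : (singleFunctor A 0).obj Y ⟶ M := e.inv ≫ T.mor₁
  haveI : IsIso ((homologyFunctor A 0).map j) := by
    simp only [j, Functor.map_comp]
    exact IsIso.comp_isIso' inferInstance this
  let ε := (singleFunctorCompHomologyFunctorIso A 0).app Y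
  refine ⟨(singleFunctor A 0).map (φ ≫ inv ((homologyFunctor A 0).map j) ≫ ε.hom) ≫ j, ?_⟩
  have h := (singleFunctorCompHomologyFunctorIso A 0).inv.naturality
    (φ ≫ inv ((homologyFunctor A 0).map j) ≫ ε.hom)
  simp only [Functor.id_map, Functor.comp_map] at h
  simp only [η, Functor.map_comp, Category.assoc] at h ⊢
  rw [← reassoc_of% h]
  simp [ε]

/-- The two truncations around `0`. -/
lemma exists_triangle (M : DerivedCategory A) :
    ∃ (N N' : DerivedCategory A) (ι : N ⟶ M) (π : M ⟶ N') (δ : N' ⟶ N⟦(1 : ℤ)⟧),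
      Triangle.mk ι π δ ∈ distinguishedTriangles ∧ N.IsLE (-1) ∧ N'.IsGE 0 ∧
        IsIso ((homologyFunctor A 0).map π) :=
  ⟨_, _, _, _, _, TStructure.t.triangleLEGE_distinguished (-1) 0 rfl M,
    inferInstanceAs (TStructure.t.IsLE ((TStructure.t.truncLE (-1)).obj M) (-1)),
    inferInstanceAs (TStructure.t.IsGE ((TStructure.t.truncGE 0).obj M) 0),
    TriH.EndNilp.isIso_homology_π M (-1) 0 0 rfl le_rfl⟩

/-- Every section of `H⁰` lifts locally. -/
lemma η_lift {U : C} {M : DerivedCategory A} (φ : G.P.obj U ⟶ (homologyFunctor A 0).obj M) :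
    ∃ S ∈ J U, ∀ ⦃V : C⦄ (f : V ⟶ U), S f → ∃ x : G.SP V ⟶ M, G.η x = G.P.map f ≫ φ := by
  obtain ⟨N, N', ι, π, δ, hT, hN, hN', hπ⟩ := exists_triangle M
  obtain ⟨x₀, hx₀⟩ := G.η_surjective_of_isGE (φ ≫ (homologyFunctor A 0).map π)
  haveI : (N⟦(1 : ℤ)⟧).IsLE (-1) := by
    haveI : TStructure.t.IsLE (N⟦(1 : ℤ)⟧) (-2) := TStructure.t.isLE_shift N (-1) 1 (-2) (by omega)
    exact TStructure.t.isLE_of_le (N⟦(1 : ℤ)⟧) (-2) (-1) (by omega)
  obtain ⟨S, hS, hS'⟩ := G.locally_zero (x₀ ≫ δ)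
  refine ⟨S, hS, fun V f hf => ?_⟩
  obtain ⟨x, hx⟩ := Triangle.coyoneda_exact₃ _ hT (G.res f ≫ x₀) ((Category.assoc _ _ _).trans (hS' f hf))
  refine ⟨x, ?_⟩
  rw [← cancel_mono ((homologyFunctor A 0).map π), ← η_comp, Category.assoc, ← hx₀, ← η_res]
  exact congrArg G.η hx.symm

/-- A map with vanishing section vanishes locally. -/
lemma η_locally_zero {U : C} {M : DerivedCategory A} {x : G.SP U ⟶ M} (hx : G.η x = 0) :
    ∃ S ∈ J U, ∀ ⦃V : C⦄ (f : V ⟶ U), S f → G.res f ≫ x = 0 := by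
  obtain ⟨N, N', ι, π, δ, hT, hN, hN', hπ⟩ := exists_triangle M
  have h0 : x ≫ π = 0 := G.η_injective_of_isGE (by rw [η_comp, hx, zero_comp])
  obtain ⟨y, hy⟩ := Triangle.coyoneda_exact₂ _ hT x h0
  haveI : (Triangle.mk ι π δ).obj₁.IsLE (-1) := hN
  obtain ⟨S, hS, hS'⟩ := G.locally_zero y
  refine ⟨S, hS, fun V f hf => ?_⟩
  rw [hy]
  exact (Category.assoc _ _ _).symm.trans ((congrArg (· ≫ _) (hS' f hf)).trans zero_comp)

/-- The sieve where a section lifts to a map killed by `g`. -/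
def liftSieve {U : C} {M K : DerivedCategory A} (g : M ⟶ K) (φ : G.P.obj U ⟶ (homologyFunctor A 0).obj M) :
    Sieve U where
  arrows V f := ∃ x : G.SP V ⟶ M, G.η x = G.P.map f ≫ φ ∧ x ≫ g = 0
  downward_closed := by
    rintro V W f ⟨x, h1, h2⟩ k
    exact ⟨G.res k ≫ x, by rw [η_res, h1, Functor.map_comp, Category.assoc],
      by rw [Category.assoc, h2, comp_zero]⟩

lemma liftSieve_mem {U : C} {M K : DerivedCategory A} (g : M ⟶ K) (φ : G.P.obj U ⟶ (homologyFunctor A 0).obj M)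
    (hφ : φ ≫ (homologyFunctor A 0).map g = 0) : G.liftSieve g φ ∈ J U := by
  obtain ⟨S, hS, hS'⟩ := G.η_lift φ
  refine J.transitive hS _ fun V f hf => ?_
  obtain ⟨x, hx⟩ := hS' f hf
  obtain ⟨T, hT, hT'⟩ := G.η_locally_zero (x := x ≫ g) (by rw [η_comp, hx, Category.assoc, hφ, comp_zero])
  refine J.superset_covering (fun W k hk => ?_) hT
  exact ⟨G.res k ≫ x, by rw [η_res, hx, Functor.map_comp, Category.assoc],
    (Category.assoc _ _ _).trans (hT' k hk)⟩

end Gen

end Groth.Agent.RlimLib
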