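import Groth.Agent.TriH.DerivedProducts
import Mathlib.Algebra.Homology.DerivedCategory.ExactFunctor

/-!
# Maps out of an object in degree zero and exact functors preserving K-injectives
-/

set_option autoImplicit false
set_option linter.style.haveILetI false

universe w w' v v' u u'

open CategoryTheory CategoryTheory.Limits HomologicalComplex

namespace Groth.Agent.RlimLib

variable {A : Type u} [Category.{v} A] [Abelian A] {A' : Type u'} [Category.{v'} A'] [Abelian A']
  (F : A ⥤ A') [F.Additive] {X : A} {X' : A'} (a : X' ⟶ F.obj X)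

/-- The map of single complexes. -/
noncomputable def a₀ : (single A' (ComplexShape.up ℤ) (0 : ℤ)).obj X' ⟶
    (F.mapHomologicalComplex (ComplexShape.up ℤ)).obj ((single A (ComplexShape.up ℤ) (0 : ℤ)).obj X) :=
  (single A' (ComplexShape.up ℤ) (0 : ℤ)).map a ≫
    (singleMapHomologicalComplex F (ComplexShape.up ℤ) (0 : ℤ)).inv.app X

lemma a₀_comp_f {I : CochainComplex A ℤ} (φ : (single A (ComplexShape.up ℤ) (0 : ℤ)).obj X ⟶ I) :
    (singleObjXSelf (ComplexShape.up ℤ) (0 : ℤ) X').inv ≫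
        (a₀ F a ≫ (F.mapHomologicalComplex (ComplexShape.up ℤ)).map φ).f 0 =
      a ≫ F.map ((singleObjXSelf (ComplexShape.up ℤ) (0 : ℤ) X).inv ≫ φ.f 0) := by
  simp [a₀, single_map_f_self]
  exact congrArg (a ≫ ·) ((congrArg (_ ≫ ·) (Category.assoc _ _ _)).trans (Iso.inv_hom_id_assoc _ _))

variable [HasDerivedCategory.{w} A] [HasDerivedCategory.{w'} A'] [PreservesFiniteLimits F] [PreservesFiniteColimits F]

open DerivedCategory in
theorem bijective_map_single (hbij : ∀ M : A, Function.Bijective fun z : X ⟶ M => a ≫ F.map z)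
    (hF : ∀ I : CochainComplex A ℤ, I.IsKInjective →
      CochainComplex.IsKInjective ((F.mapHomologicalComplex (ComplexShape.up ℤ)).obj I))
    (I : CochainComplex A ℤ) [I.IsKInjective] :
    Function.Bijective fun x : Q.obj ((single A (ComplexShape.up ℤ) (0 : ℤ)).obj X) ⟶ Q.obj I =>
      (Q.map (a₀ F a) ≫ F.mapDerivedCategoryFactors.inv.app _) ≫ F.mapDerivedCategory.map x := by
  haveI := hF I inferInstance
  let FI := (F.mapHomologicalComplex (ComplexShape.up ℤ)).obj I
  have key : ∀ φ : (single A (ComplexShape.up ℤ) (0 : ℤ)).obj X ⟶ I,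
      (Q.map (a₀ F a) ≫ F.mapDerivedCategoryFactors.inv.app _) ≫ F.mapDerivedCategory.map (Q.map φ) =
        Q.map (a₀ F a ≫ (F.mapHomologicalComplex (ComplexShape.up ℤ)).map φ) ≫
          F.mapDerivedCategoryFactors.inv.app I := fun φ => by
    have h := F.mapDerivedCategoryFactors.inv.naturality φ
    simp only [Functor.comp_map] at h
    rw [Category.assoc, Functor.map_comp, Category.assoc, h]
  constructor
  · intro x x' hxx
    obtain ⟨φ, rfl⟩ := TriH.Q_map_surjective_of_isKInjective _ I x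
    obtain ⟨φ', rfl⟩ := TriH.Q_map_surjective_of_isKInjective _ I x'
    have h := (key φ).symm.trans (hxx.trans (key φ'))
    rw [cancel_mono, ← sub_eq_zero, ← Functor.map_sub, ← Preadditive.comp_sub, ← Functor.map_sub] at h
    rw [← sub_eq_zero, ← Functor.map_sub, TriH.Q_map_eq_zero_iff_of_isKInjective]
    obtain ⟨H⟩ := (TriH.Q_map_eq_zero_iff_of_isKInjective _).1 h
    have hd := H.comm 0
    rw [prevD_eq H.hom (show (ComplexShape.up ℤ).Rel (-1) 0 by simp),
      dNext_eq H.hom (show (ComplexShape.up ℤ).Rel 0 1 by simp)] at hd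
    have hs0 : (singleObjXSelf (ComplexShape.up ℤ) (0 : ℤ) X').inv ≫
        ((single A' (ComplexShape.up ℤ) (0 : ℤ)).obj X').d 0 1 = 0 := by simp
    have hd' := congrArg ((singleObjXSelf (ComplexShape.up ℤ) (0 : ℤ) X').inv ≫ ·) hd
    rw [a₀_comp_f, Preadditive.comp_add, Preadditive.comp_add, reassoc_of% hs0, zero_comp, zero_add,
      zero_f, comp_zero, add_zero] at hd'
    obtain ⟨wz, hwz⟩ := (hbij (I.X (-1))).2 ((singleObjXSelf (ComplexShape.up ℤ) (0 : ℤ) X').inv ≫ H.hom 0 (-1))
    change a ≫ F.map wz = _ at hwz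
    have hz : (singleObjXSelf (ComplexShape.up ℤ) (0 : ℤ) X).inv ≫ (φ - φ').f 0 = wz ≫ I.d (-1) 0 := by
      refine (hbij (I.X 0)).1 ?_
      change a ≫ F.map _ = a ≫ F.map _
      rw [hd', F.map_comp, reassoc_of% hwz]
      simp
      rfl
    let h' : ∀ i j, (ComplexShape.up ℤ).Rel j i →
        (((single A (ComplexShape.up ℤ) (0 : ℤ)).obj X).X i ⟶ I.X j) := fun i j r =>
      if hi : i = 0 then eqToHom (by rw [hi]) ≫ (singleObjXSelf (ComplexShape.up ℤ) (0 : ℤ) X).hom ≫ wz ≫
        eqToHom (by simp at r; rw [show (-1 : ℤ) = j by omega]) else 0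
    have : φ - φ' = Homotopy.nullHomotopicMap' h' := by
      refine from_single_hom_ext ?_
      rw [Homotopy.nullHomotopicMap'_f (k₂ := -1) (k₁ := 0) (k₀ := 1) (by simp) (by simp)]
      simp only [h']
      rw [dif_pos trivial, ← cancel_epi (singleObjXSelf (ComplexShape.up ℤ) (0 : ℤ) X).inv]
      simp [← hz]
    rw [this]
    exact ⟨Homotopy.nullHomotopy' h'⟩
  · intro y
    obtain ⟨ψ, hψ⟩ := TriH.Q_map_surjective_of_isKInjective _ FI (y ≫ F.mapDerivedCategoryFactors.hom.app I)
    obtain ⟨z, hz⟩ := (hbij (I.X 0)).2 ((singleObjXSelf (ComplexShape.up ℤ) (0 : ℤ) X').inv ≫ ψ.f 0)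
    change a ≫ F.map z = _ at hz
    let φ : (single A (ComplexShape.up ℤ) (0 : ℤ)).obj X ⟶ I := mkHomFromSingle z fun j hj => by
      refine (hbij (I.X j)).1 ?_
      change a ≫ F.map _ = a ≫ F.map _
      rw [F.map_comp, reassoc_of% hz, F.map_zero, comp_zero]
      have h := ψ.comm 0 j
      change (singleObjXSelf (ComplexShape.up ℤ) (0 : ℤ) X').inv ≫ ψ.f 0 ≫ FI.d 0 j = 0
      rw [h]
      simp
    refine ⟨Q.map φ, ?_⟩
    have hφ : a₀ F a ≫ (F.mapHomologicalComplex (ComplexShape.up ℤ)).map φ = ψ := by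
      refine from_single_hom_ext ?_
      rw [← cancel_epi (singleObjXSelf (ComplexShape.up ℤ) (0 : ℤ) X').inv, a₀_comp_f]
      refine Eq.trans ?_ hz
      simp [φ]
    refine (key φ).trans ?_
    rw [hφ, hψ, Category.assoc, Iso.hom_inv_id_app]
    exact Category.comp_id _

open DerivedCategory in
/-- An exact functor preserving K-injectives with a universal element at `X` identifies maps out of `X[0]`. -/
theorem nonempty_addEquiv_single (hbij : ∀ M : A, Function.Bijective fun z : X ⟶ M => a ≫ F.map z)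
    (hF : ∀ I : CochainComplex A ℤ, I.IsKInjective →
      CochainComplex.IsKInjective ((F.mapHomologicalComplex (ComplexShape.up ℤ)).obj I))
    (hKA : ∀ K : CochainComplex A ℤ, ∃ (I : CochainComplex A ℤ) (f : K ⟶ I), I.IsKInjective ∧ QuasiIso f)
    (K : DerivedCategory A) (p : ℤ) :
    Nonempty (((singleFunctor A 0).obj X ⟶ K⟦p⟧) ≃+
      ((singleFunctor A' 0).obj X' ⟶ (F.mapDerivedCategory.obj K)⟦p⟧)) := by
  let eA : (singleFunctor A 0).obj X ≅ Q.obj ((single A (ComplexShape.up ℤ) (0 : ℤ)).obj X) :=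
    (singleFunctorIsoCompQ A 0).app X
  let eA' : (singleFunctor A' 0).obj X' ≅ Q.obj ((single A' (ComplexShape.up ℤ) (0 : ℤ)).obj X') :=
    (singleFunctorIsoCompQ A' 0).app X'
  let b : (singleFunctor A' 0).obj X' ⟶ F.mapDerivedCategory.obj ((singleFunctor A 0).obj X) :=
    eA'.hom ≫ (Q.map (a₀ F a) ≫ F.mapDerivedCategoryFactors.inv.app _) ≫ F.mapDerivedCategory.map eA.inv
  have hb : ∀ Y, Function.Bijective fun x : (singleFunctor A 0).obj X ⟶ Y =>
      b ≫ F.mapDerivedCategory.map x := fun Y => by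
    obtain ⟨I, f, hI, hf⟩ := hKA (Q.objPreimage Y)
    haveI := hI
    haveI := hf
    let e : Q.obj I ≅ Y := (asIso (Q.map f)).symm ≪≫ Q.objObjPreimageIso Y
    have h := bijective_map_single F a hbij hF I
    let M := Q.map (a₀ F a) ≫ F.mapDerivedCategoryFactors.inv.app ((single A (ComplexShape.up ℤ) (0 : ℤ)).obj X)
    have hb' : ∀ x : (singleFunctor A 0).obj X ⟶ Y, b ≫ F.mapDerivedCategory.map x =
        eA'.hom ≫ (M ≫ F.mapDerivedCategory.map (eA.inv ≫ x ≫ e.inv)) ≫ F.mapDerivedCategory.map e.hom := by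
      intro x
      rw [Category.assoc M, ← Functor.map_comp]
      simp [b, M, Category.assoc]
    constructor
    · intro x x' hxx
      have h2 := (hb' x).symm.trans (hxx.trans (hb' x'))
      rw [cancel_epi, cancel_mono] at h2
      simpa using h.1 h2
    · intro y
      obtain ⟨x, hx⟩ := h.2 (eA'.inv ≫ y ≫ F.mapDerivedCategory.map e.inv)
      refine ⟨eA.hom ≫ x ≫ e.hom, (hb' _).trans ?_⟩
      rw [show eA.inv ≫ (eA.hom ≫ x ≫ e.hom) ≫ e.inv = x by simp]
      refine (congrArg (fun t => eA'.hom ≫ t ≫ _) hx).trans ?_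
      simp [← Functor.map_comp]
  let c := (F.mapDerivedCategory.commShiftIso p).app K
  exact ⟨AddEquiv.ofBijective
    (AddMonoidHom.mk' (fun x => (b ≫ F.mapDerivedCategory.map x) ≫ c.hom) fun x x' => by
      simp only [Functor.map_add, Preadditive.comp_add, Preadditive.add_comp])
    ((Function.Bijective.comp (g := fun y => y ≫ c.hom)
      ⟨fun y y' h => (cancel_mono c.hom).1 h, fun y => ⟨y ≫ c.inv, by simp⟩⟩ (hb _)))⟩

end Groth.Agent.RlimLib
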