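import Mathlib.CategoryTheory.Functor.Flat
import Mathlib.CategoryTheory.Abelian.GrothendieckAxioms.Basic
import Mathlib.CategoryTheory.EssentiallySmall

/-!
# Left Kan extensions along flat functors between essentially small categories are left exact
-/

set_option autoImplicit false
set_option linter.style.haveILetI false

universe t v₁ v₂ u₁ u₂ w w'

open CategoryTheory CategoryTheory.Limits Opposite

namespace Groth.Agent.RlimLib

variable {C : Type u₁} [Category.{v₁} C] {D : Type u₂} [Category.{v₂} D] {E : Type w} [Category.{w'} E]

set_option backward.defeqAttrib.useBackward true in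
set_option backward.isDefEq.respectTransparency false in
/-- The value of a left Kan extension at an object is the colimit over costructured arrows. -/
noncomputable def lanEvalIso (F : C ⥤ D) (X : D)
    [∀ X : D, HasColimitsOfShape (CostructuredArrow F X) E] :
    F.lan ⋙ (evaluation D E).obj X ≅
      (Functor.whiskeringLeft _ _ E).obj (CostructuredArrow.proj F X) ⋙ colim :=
  NatIso.ofComponents (fun G =>
    IsColimit.coconePointUniqueUpToIso
    (Functor.isPointwiseLeftKanExtensionLeftKanExtensionUnit F G X)
    (colimit.isColimit _)) (fun {G₁ G₂} φ => by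
      apply (Functor.isPointwiseLeftKanExtensionLeftKanExtensionUnit F G₁ X).hom_ext
      intro T
      have h₁ := fun (G : C ⥤ E) => IsColimit.comp_coconePointUniqueUpToIso_hom
        (Functor.isPointwiseLeftKanExtensionLeftKanExtensionUnit F G X) (colimit.isColimit _) T
      have h₂ := congr_app (F.lanUnit.naturality φ) T.left
      dsimp at h₁ h₂ ⊢
      simp only [Category.assoc] at h₁ ⊢
      simp only [Functor.lan, Functor.lanUnit] at h₂ ⊢
      rw [reassoc_of% h₁, NatTrans.naturality_assoc, ← reassoc_of% h₂, h₁,
        ι_colimMap, Functor.whiskerLeft_app]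
      rfl)

/-- `Lan` along a flat functor is left exact when filtered colimits of the relevant size are exact. -/
theorem preservesFiniteLimits_lan_of_flat (F : C ⥤ D) [RepresentablyFlat F] [HasFiniteLimits E]
    [∀ X : Dᵒᵖ, EssentiallySmall.{t} (CostructuredArrow F.op X)]
    [HasFilteredColimitsOfSize.{t, t} E] [AB5OfSize.{t, t} E]
    [∀ X : Dᵒᵖ, HasColimitsOfShape (CostructuredArrow F.op X) E] :
    PreservesFiniteLimits (F.op.lan : (Cᵒᵖ ⥤ E) ⥤ Dᵒᵖ ⥤ E) := by
  refine ⟨fun I _ _ => preservesLimitsOfShape_of_evaluation _ I fun K => ?_⟩
  haveI : IsFiltered (CostructuredArrow F.op K) :=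
    IsFiltered.of_equivalence (structuredArrowOpEquivalence F (unop K))
  haveI : IsFiltered (SmallModel.{t} (CostructuredArrow F.op K)) :=
    IsFiltered.of_equivalence (equivSmallModel.{t} (CostructuredArrow F.op K))
  haveI : HasExactColimitsOfShape (CostructuredArrow F.op K) E :=
    HasExactColimitsOfShape.of_domain_equivalence E (equivSmallModel.{t} (CostructuredArrow F.op K)).symm
  exact preservesLimitsOfShape_of_natIso (lanEvalIso _ _).symm

end Groth.Agent.RlimLib
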