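import Groth.Agent.RlimLib.Tower

/-!
# Surjective systems have vanishing `lim¹`, in a preadditive category
-/

set_option autoImplicit false

open CategoryTheory

namespace Groth.Agent.RlimLib

lemma limOne_of_surjective_preadditive {T : Type*} [Category T] [Preadditive T] {X : T} (M : ℕ → T) (s : ∀ n, M (n + 1) ⟶ M n) (N : ℕ)
    (h : ∀ n, N ≤ n → ∀ g : X ⟶ M n, ∃ g', g' ≫ s n = g) : LimOne (X := X) M s := by
  intro b
  choose f hf using fun n => h (N + n) (Nat.le_add_right _ _)
  let up : ∀ k, X ⟶ M (N + k) := Nat.rec 0 fun k r => f k (r - b (N + k))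
  suffices key : ∀ j : ℕ, j ≤ N → ∃ c : ∀ n, X ⟶ M n, ∀ n, N - j ≤ n → c n - c (n + 1) ≫ s n = b n by
    obtain ⟨c, hc⟩ := key N le_rfl
    exact ⟨c, fun n => hc n (by omega)⟩
  intro j
  induction j with
  | zero =>
    intro _
    refine ⟨fun n => if hn : N ≤ n then up (n - N) ≫ eqToHom (congrArg M (by omega)) else 0, fun n hn => ?_⟩
    obtain ⟨k, rfl⟩ : ∃ k, n = N + k := ⟨n - N, by omega⟩
    have e1 : ∀ (p q : ℕ) (e : p = q), up p ≫ eqToHom (congrArg (fun i => M (N + i)) e) = up q := by
      rintro p q rfl; simp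
    simp only [dif_pos (Nat.le_add_right N k), dif_pos (show N ≤ N + k + 1 by omega)]
    rw [show up (N + k - N) ≫ eqToHom _ = up k from e1 _ _ (by omega),
      show up (N + k + 1 - N) ≫ eqToHom _ = up (k + 1) from e1 _ _ (by omega)]
    change up k - f k (up k - b (N + k)) ≫ s (N + k) = b (N + k)
    rw [hf]
    abel
  | succ j ih =>
    intro hj
    obtain ⟨c, hc⟩ := ih (by omega)
    refine ⟨Function.update c (N - (j + 1)) (b (N - (j + 1)) + c (N - (j + 1) + 1) ≫ s (N - (j + 1))),
      fun n hn => ?_⟩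
    by_cases he : n = N - (j + 1)
    · subst he
      rw [Function.update_self, Function.update_of_ne (by omega)]
      abel
    · rw [Function.update_of_ne he, Function.update_of_ne (by omega)]
      exact hc n (by omega)

end Groth.Agent.RlimLib
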