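import Groth.Agent.RlimLib.SheafGen
import Mathlib.CategoryTheory.Sites.Spaces

/-!
# Local conditions from covering families
-/

set_option autoImplicit false
set_option linter.style.haveILetI false

universe u v u'

open CategoryTheory CategoryTheory.Limits

namespace Groth.Agent.RlimLib

variable {C : Type u'} [Category.{v} C] {J : GrothendieckTopology C}

/-- The sieve of arrows factoring through a good object lying in the prescribed sieves. -/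
def goodSieve {U : C} (Good : ℕ → C → Prop) (N₀ : ℕ) (T : ℕ → Sieve U) : Sieve U where
  arrows V f := ∃ (W : C) (g : V ⟶ W) (h : W ⟶ U), g ≫ h = f ∧ ∃ N : ℕ, N₀ ≤ N ∧ T N h ∧ Good N W
  downward_closed := by
    rintro V V' f ⟨W, g, h, rfl, N, hN, hT, hG⟩ k
    exact ⟨W, k ≫ g, h, Category.assoc _ _ _, N, hN, hT, hG⟩

lemma goodSieve_mem (Good : ℕ → C → Prop) (N₀ : ℕ) (B : C → Prop) (hB : Covers J B)
    (hV : ∀ V, B V → ∃ N, N₀ ≤ N ∧ ∀ T ∈ J V, ∃ R ∈ J V, ∀ ⦃W : C⦄ (f : W ⟶ V), R f →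
      ∃ (W' : C) (g : W ⟶ W') (h : W' ⟶ V), g ≫ h = f ∧ T h ∧ Good N W')
    {U : C} (T : ℕ → Sieve U) (hT : ∀ N, N₀ ≤ N → T N ∈ J U) : goodSieve Good N₀ T ∈ J U := by
  obtain ⟨S, hS, hS'⟩ := hB U
  refine J.transitive hS _ fun V f hf => ?_
  obtain ⟨W, g, h, hW, rfl⟩ := hS' f hf
  rw [Sieve.pullback_comp]
  refine J.pullback_stable g ?_
  obtain ⟨N, hN, hN'⟩ := hV W hW
  obtain ⟨R, hR, hR'⟩ := hN' _ (J.pullback_stable h (hT N hN))
  refine J.superset_covering (fun Z k hk => ?_) hR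
  obtain ⟨W', a, b, rfl, hb, hG⟩ := hR' k hk
  exact ⟨W', a, b ≫ h, (Category.assoc _ _ _).symm, N, hN, hb, hG⟩

lemma covers_of_families {C : Type u} [SmallCategory C] {J : GrothendieckTopology C} (B : Set C)
    (hB : ∀ U : C, ∃ (ι : Type u) (Y : ι → C) (f : ∀ i, Y i ⟶ U), Sieve.ofArrows Y f ∈ J U ∧ ∀ i, Y i ∈ B) :
    Covers J (fun U => U ∈ B) := fun U => by
  obtain ⟨ι, Y, f, hf, hY⟩ := hB U
  refine ⟨_, hf, fun V k hk => ?_⟩
  obtain ⟨W, a, b, ⟨i⟩, rfl⟩ := hk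
  exact ⟨_, a, _, hY i, rfl⟩

lemma covers_of_basis {X : TopCat.{u}} (B : Set (TopologicalSpace.Opens X)) (hB : TopologicalSpace.Opens.IsBasis B) :
    Covers (Opens.grothendieckTopology X) (fun U => U ∈ B) := fun U => by
  refine ⟨⟨fun V f => ∃ (W : TopologicalSpace.Opens X) (_ : V ⟶ W) (_ : W ⟶ U), W ∈ B, ?_⟩, fun x hx => ?_,
    fun V f hf => ?_⟩
  · rintro V V' f ⟨W, a, b, h⟩ k
    exact ⟨W, k ≫ a, b, h⟩
  · obtain ⟨W, hW, hxW, hWU⟩ := (TopologicalSpace.Opens.isBasis_iff_nbhd.1 hB) hx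
    exact ⟨W, homOfLE hWU, ⟨W, 𝟙 _, homOfLE hWU, hW⟩, hxW⟩
  · obtain ⟨W, a, b, h⟩ := hf
    exact ⟨W, a, b, h, Subsingleton.elim _ _⟩

namespace Gen

open DerivedCategory Abelian

variable {C : Type u'} [Category.{u} C] {J : GrothendieckTopology C} {A : Type (u + 1)} [Category.{u} A] [Abelian A]

universe w w'

variable [HasExt.{w'} A] [HasDerivedCategory.{w} A] (G : Gen J A)

/-- The truncation criterion with a class of objects having cofinal good coverings. -/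
theorem isRlimVia_of_cofinal (E : DerivedCategory A) [HasProduct (CohCx.truncTower E)] (B : C → Prop)
    (hB : Covers J B)
    (hV : ∀ (m : ℤ) (V : C), B V → ∃ N₁ : ℕ, ∀ T ∈ J V, ∃ R ∈ J V, ∀ ⦃W : C⦄ (f : W ⟶ V), R f →
      ∃ (W' : C) (g : W ⟶ W') (h : W' ⟶ V), g ≫ h = f ∧ T h ∧
        ∀ n : ℕ, N₁ ≤ n → ∀ k : ℕ, (k : ℤ) = m + (n : ℤ) + 1 →
          Subsingleton (Ext.{w'} (G.P.obj W') ((homologyFunctor A (-((n : ℤ) + 1))).obj E) k)) :
    CohCx.IsRlimVia (CohCx.truncTower E) (CohCx.truncTowerMap E) E (CohCx.toTruncTower E) :=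
  G.isRlimVia_truncTower E fun m U T hT =>
    ⟨_, goodSieve_mem (fun N W => ∀ n : ℕ, N ≤ n → ∀ k : ℕ, (k : ℤ) = m + (n : ℤ) + 1 →
        Subsingleton (Ext.{w'} (G.P.obj W) ((homologyFunctor A (-((n : ℤ) + 1))).obj E) k)) (-m).toNat B hB
      (fun V hVB => by
        obtain ⟨N₁, hN₁⟩ := hV m V hVB
        refine ⟨max (-m).toNat N₁, le_max_left _ _, fun S hS => ?_⟩
        obtain ⟨R, hR, hR'⟩ := hN₁ S hS
        refine ⟨R, hR, fun W f hf => ?_⟩
        obtain ⟨W', g, h, h1, h2, h3⟩ := hR' f hf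
        exact ⟨W', g, h, h1, h2, fun n hn => h3 n ((le_max_right _ _).trans hn)⟩) T hT,
      fun _ _ hf => hf⟩

/-- The truncation criterion with a uniform bound on a covering class. -/
theorem isRlimVia_of_uniform (E : DerivedCategory A) [HasProduct (CohCx.truncTower E)] (B : C → Prop)
    (hB : Covers J B)
    (hV : ∀ (m : ℤ), ∃ N₁ : ℕ, ∀ W : C, B W → ∀ n : ℕ, N₁ ≤ n → ∀ k : ℕ, (k : ℤ) = m + (n : ℤ) + 1 →
      Subsingleton (Ext.{w'} (G.P.obj W) ((homologyFunctor A (-((n : ℤ) + 1))).obj E) k)) :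
    CohCx.IsRlimVia (CohCx.truncTower E) (CohCx.truncTowerMap E) E (CohCx.toTruncTower E) :=
  G.isRlimVia_of_cofinal E B hB fun m V _ => by
    obtain ⟨N₁, hN₁⟩ := hV m
    refine ⟨N₁, fun T hT => ⟨_, goodSieve_mem (fun _ W => B W) 0 (fun _ => True)
      (fun U => ⟨⊤, J.top_mem U, fun Z f _ => ⟨U, f, 𝟙 U, trivial, Category.comp_id f⟩⟩)
      (fun V' _ => ⟨0, le_rfl, fun T' hT' => ?_⟩) (fun _ => T) (fun _ _ => hT), fun W f hf => ?_⟩⟩
    · refine ⟨⟨fun Z f => ∃ (W' : C) (g : Z ⟶ W') (h : W' ⟶ V'), g ≫ h = f ∧ T' h ∧ B W', ?_⟩, ?_, fun Z f hf => hf⟩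
      · rintro Z Z' f ⟨W', g, h, rfl, h1, h2⟩ k
        exact ⟨W', k ≫ g, h, Category.assoc _ _ _, h1, h2⟩
      · refine J.transitive hT' _ fun Z f hf => ?_
        obtain ⟨S, hS, hS'⟩ := hB Z
        refine J.superset_covering (fun Z' k hk => ?_) hS
        obtain ⟨W', a, b, hW', rfl⟩ := hS' k hk
        exact ⟨W', a, b ≫ f, (Category.assoc _ _ _).symm, T'.downward_closed hf b, hW'⟩
    · obtain ⟨W', g, h, hgh, N, -, h1, h2⟩ := hf
      exact ⟨W', g, h, hgh, h1, hN₁ W' h2⟩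

end Gen

end Groth.Agent.RlimLib
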