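import Groth.Agent.KFlat.Pro.Basic
import Groth.Agent.TriH.TruncFactor

/-!
# Pro-isomorphisms in the derived category from pro-isomorphisms on cohomology
-/

set_option autoImplicit false

universe w v u

open CategoryTheory CategoryTheory.Limits CategoryTheory.Pretriangulated DerivedCategory Opposite
open Groth.Agent.KFlat.Pro (tr_comp tr_comp_assoc tr_naturality)

namespace Groth.Agent.RlimLib.ProBounded

variable {A : Type u} [Category.{v} A] [Abelian A] [HasDerivedCategory.{w} A]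

/-- Levelwise cones of a map of inverse systems. -/
structure Cones {X Y : ARSys.PS (DerivedCategory A)} (f : X ⟶ Y) where
  C : ℕ → DerivedCategory A
  g : ∀ n, Y.obj (op n) ⟶ C n
  δ : ∀ n, C n ⟶ (X.obj (op n))⟦(1 : ℤ)⟧
  dist : ∀ n, Triangle.mk (f.app (op n)) (g n) (δ n) ∈ distTriang (DerivedCategory A)

variable {X Y : ARSys.PS (DerivedCategory A)} {f : X ⟶ Y}

lemma exists_cones (f : X ⟶ Y) : Nonempty (Cones f) := by
  choose C g δ h using fun n : ℕ => distinguished_cocone_triangle (f.app (op n))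
  exact ⟨⟨C, g, δ, h⟩⟩

namespace Cones

variable (T : Cones f)

/-- A map between two cones compatible with the transition maps. -/
def Compat {n m : ℕ} (h : n ≤ m) (c : T.C m ⟶ T.C n) : Prop :=
  T.g m ≫ c = ARSys.tr Y h ≫ T.g n ∧ c ≫ T.δ n = T.δ m ≫ (ARSys.tr X h)⟦(1 : ℤ)⟧'

lemma exists_compat {n m : ℕ} (h : n ≤ m) : ∃ c, T.Compat h c := by
  obtain ⟨c, h1, h2⟩ := complete_distinguished_triangle_morphism _ _ (T.dist m) (T.dist n)
    (ARSys.tr X h) (ARSys.tr Y h) (tr_naturality f h).symm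
  exact ⟨c, h1, h2.symm⟩

variable {T}

lemma Compat.comp {n j m : ℕ} {h : n ≤ j} {h' : j ≤ m} {c : T.C j ⟶ T.C n} {c' : T.C m ⟶ T.C j}
    (hc : T.Compat h c) (hc' : T.Compat h' c') : T.Compat (h.trans h') (c' ≫ c) := by
  constructor
  · rw [reassoc_of% hc'.1, hc.1, tr_comp_assoc]
  · rw [Category.assoc, hc.2, reassoc_of% hc'.2, ← Functor.map_comp, tr_comp]

lemma compat_homology_δ {n m : ℕ} {h : n ≤ m} {c : T.C m ⟶ T.C n} (hc : T.Compat h c)
    (i j : ℤ) (hij : i + 1 = j) :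
    (homologyFunctor A i).map c ≫ HomologySequence.δ (Triangle.mk (f.app (op n)) (T.g n) (T.δ n)) i j hij =
      HomologySequence.δ (Triangle.mk (f.app (op m)) (T.g m) (T.δ m)) i j hij ≫
        (homologyFunctor A j).map (ARSys.tr X h) := by
  exact ((homologyFunctor A 0).shiftMap_comp' c (T.δ n) i j (by omega)).symm.trans
    ((congrArg (fun φ => (homologyFunctor A 0).shiftMap φ i j (by omega)) hc.2).trans
      ((homologyFunctor A 0).shiftMap_comp (T.δ m) (ARSys.tr X h) i j (by omega)))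

variable (T)

/-- For large enough indices compatible maps of cones vanish on a given cohomology. -/
lemma exists_compat_homology_zero (hH : ∀ i : ℤ, DerCA.IsProIso (Functor.whiskerRight f (homologyFunctor A i)))
    (i : ℤ) (n : ℕ) :
    ∃ (m : ℕ) (h : n ≤ m) (c : T.C m ⟶ T.C n), T.Compat h c ∧ (homologyFunctor A i).map c = 0 := by
  obtain ⟨m₁, h₁, b₁, _, hb₁⟩ := hH i n
  obtain ⟨m₂, h₂, b₂, hb₂, _⟩ := hH (i + 1) m₁
  simp only [ARSys.tr, Functor.comp_map, Functor.whiskerRight_app] at hb₁ hb₂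
  obtain ⟨c₁, hc₁⟩ := T.exists_compat h₁
  obtain ⟨c₂, hc₂⟩ := T.exists_compat h₂
  refine ⟨m₂, h₁.trans h₂, c₂ ≫ c₁, hc₁.comp hc₂, ?_⟩
  have z₁ : (homologyFunctor A i).map (T.g m₁) ≫ (homologyFunctor A i).map c₁ = 0 := by
    rw [← Functor.map_comp, hc₁.1, Functor.map_comp, ← hb₁, Category.assoc, ← Functor.map_comp,
      show f.app (op n) ≫ T.g n = 0 from comp_distTriang_mor_zero₁₂ _ (T.dist n), Functor.map_zero, comp_zero]
  have z₂ : (homologyFunctor A i).map c₂ ≫
      HomologySequence.δ (Triangle.mk (f.app (op m₁)) (T.g m₁) (T.δ m₁)) i (i + 1) rfl = 0 := by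
    refine (compat_homology_δ hc₂ i (i + 1) rfl).trans ((congrArg (_ ≫ ·) hb₂.symm).trans ?_)
    exact (Category.assoc _ _ _).symm.trans
      (((congrArg (· ≫ b₂) (HomologySequence.δ_comp _ (T.dist m₂) i (i + 1) rfl))).trans zero_comp)
  let S := ShortComplex.mk _ _ (HomologySequence.comp_δ _ (T.dist m₁) i (i + 1) rfl)
  have hS : S.Exact := HomologySequence.exact₃ _ (T.dist m₁) i (i + 1) rfl
  haveI := hS.epi_kernelLift
  have z₃ : kernel.ι S.g ≫ (homologyFunctor A i).map c₁ = 0 := by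
    rw [← cancel_epi (kernel.lift S.g S.f S.zero), kernel.lift_ι_assoc, comp_zero]
    exact z₁
  rw [Functor.map_comp, ← show kernel.lift S.g ((homologyFunctor A i).map c₂) z₂ ≫ kernel.ι S.g =
      (homologyFunctor A i).map c₂ from kernel.lift_ι _ _ _]
  exact (Category.assoc _ _ _).trans ((congrArg (_ ≫ ·) z₃).trans comp_zero)

lemma exists_compat_homology_zero_range
    (hH : ∀ i : ℤ, DerCA.IsProIso (Functor.whiskerRight f (homologyFunctor A i))) (a : ℤ) :
    ∀ (N : ℕ) (n : ℕ), ∃ (m : ℕ) (h : n ≤ m) (c : T.C m ⟶ T.C n), T.Compat h c ∧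
      ∀ i : ℤ, a ≤ i → i < a + N → (homologyFunctor A i).map c = 0
  | 0, n => by
    obtain ⟨c, hc⟩ := T.exists_compat (le_refl n)
    exact ⟨n, le_rfl, c, hc, fun i h1 h2 => absurd h2 (by simpa using h1)⟩
  | N + 1, n => by
    obtain ⟨j, hj, c, hc, hz⟩ := exists_compat_homology_zero_range hH a N n
    obtain ⟨m, hm, c', hc', hz'⟩ := T.exists_compat_homology_zero hH (a + N) j
    refine ⟨m, hj.trans hm, c' ≫ c, hc.comp hc', fun i h1 h2 => ?_⟩
    rw [Functor.map_comp]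
    by_cases hi : i < a + N
    · rw [hz i h1 hi, comp_zero]
    · obtain rfl : i = a + N := by push_cast at h2; omega
      rw [hz', zero_comp]

lemma isZero_homology {a b : ℤ}
    (hX : ∀ (n : ℕ) (i : ℤ), i < a ∨ b < i → IsZero ((homologyFunctor A i).obj (X.obj (op n))))
    (hY : ∀ (n : ℕ) (i : ℤ), i < a ∨ b < i → IsZero ((homologyFunctor A i).obj (Y.obj (op n))))
    (n : ℕ) (i : ℤ) (hi : i < a - 1 ∨ b < i) : IsZero ((homologyFunctor A i).obj (T.C n)) :=
  (HomologySequence.exact₃ _ (T.dist n) i (i + 1) rfl).isZero_of_both_zeros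
    ((hY n i (by omega)).eq_of_src _ _) ((hX n (i + 1) (by omega)).eq_of_tgt _ _)

/-- Enough ghost maps compose to a map factoring through objects of low amplitude. -/
lemma exists_compat_factor {a b : ℤ}
    (hX : ∀ (n : ℕ) (i : ℤ), i < a ∨ b < i → IsZero ((homologyFunctor A i).obj (X.obj (op n))))
    (hY : ∀ (n : ℕ) (i : ℤ), i < a ∨ b < i → IsZero ((homologyFunctor A i).obj (Y.obj (op n))))
    (hH : ∀ i : ℤ, DerCA.IsProIso (Functor.whiskerRight f (homologyFunctor A i))) :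
    ∀ (j : ℕ) (n : ℕ), ∃ (m : ℕ) (h : n ≤ m) (c : T.C m ⟶ T.C n), T.Compat h c ∧
      ∃ (W : DerivedCategory A) (_ : W.IsLE (b - j)) (p : T.C m ⟶ W) (q : W ⟶ T.C n), c = p ≫ q
  | 0, n => by
    obtain ⟨c, hc⟩ := T.exists_compat (le_refl n)
    exact ⟨n, le_rfl, c, hc, T.C n,
      ((T.C n).isLE_iff _).2 fun i hi => T.isZero_homology hX hY n i (Or.inr (by simpa using hi)),
      c, 𝟙 _, (Category.comp_id c).symm⟩
  | j + 1, n => by
    obtain ⟨k, hk, c₁, hc₁, hz⟩ :=
      T.exists_compat_homology_zero_range hH (a - 1) (b - a + 2).toNat n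
    obtain ⟨m, hm, c₂, hc₂, W, hW, p, q, rfl⟩ := exists_compat_factor hX hY hH j k
    refine ⟨m, hk.trans hm, (p ≫ q) ≫ c₁, hc₁.comp hc₂, ?_⟩
    have hq : (homologyFunctor A (b - j)).map (q ≫ c₁) = 0 := by
      rw [Functor.map_comp]
      by_cases hi : a - 1 ≤ b - j
      · rw [hz _ hi (by omega), comp_zero]
      · exact (T.isZero_homology hX hY n (b - j) (Or.inl (by omega))).eq_of_tgt _ _
    let t := TStructure.t (C := A)
    haveI : ((t.truncGE (b - j)).obj (T.C n)).IsGE (b - j) :=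
      inferInstanceAs (t.IsGE ((t.truncGE (b - (j : ℤ))).obj (T.C n)) (b - j))
    have h0 : (q ≫ c₁) ≫ (t.truncGEπ (b - (j : ℤ))).app (T.C n) = 0 :=
      TriH.TruncFactor.eq_zero_of_homology (b - (j : ℤ)) _ (by rw [Functor.map_comp, hq, zero_comp])
    obtain ⟨ψ, hψ⟩ := Triangle.coyoneda_exact₂ _
      (t.triangleLTGE_distinguished (b - (j : ℤ)) (T.C n)) (q ≫ c₁) h0
    exact ⟨(t.truncLT (b - (j : ℤ))).obj (T.C n), t.isLE_truncLT_obj _ _ _ (by omega),
      p ≫ ψ, (t.truncLTι (b - (j : ℤ))).app (T.C n),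
      (Category.assoc p q c₁).trans (((congrArg (p ≫ ·) hψ)).trans (Category.assoc _ _ _).symm)⟩

lemma exists_compat_zero {a b : ℤ}
    (hX : ∀ (n : ℕ) (i : ℤ), i < a ∨ b < i → IsZero ((homologyFunctor A i).obj (X.obj (op n))))
    (hY : ∀ (n : ℕ) (i : ℤ), i < a ∨ b < i → IsZero ((homologyFunctor A i).obj (Y.obj (op n))))
    (hH : ∀ i : ℤ, DerCA.IsProIso (Functor.whiskerRight f (homologyFunctor A i))) (n : ℕ) :
    ∃ (m : ℕ) (h : n ≤ m), T.Compat h 0 := by
  obtain ⟨m, h, c, hc, W, hW, p, q, rfl⟩ := T.exists_compat_factor hX hY hH (b - a + 2).toNat n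
  haveI : TStructure.t.IsLE W (b - ((b - a + 2).toNat : ℤ)) := hW
  haveI : (T.C n).IsGE (a - 1) :=
    ((T.C n).isGE_iff _).2 fun i hi => T.isZero_homology hX hY n i (Or.inl hi)
  have : q = 0 := TStructure.t.zero q (b - ((b - a + 2).toNat : ℤ)) (a - 1) (by omega)
  rw [this, comp_zero] at hc
  exact ⟨m, h, hc⟩

end Cones

theorem isProIso_of_homology (f : X ⟶ Y) (a b : ℤ)
    (hX : ∀ (n : ℕ) (i : ℤ), i < a ∨ b < i → IsZero ((homologyFunctor A i).obj (X.obj (op n))))
    (hY : ∀ (n : ℕ) (i : ℤ), i < a ∨ b < i → IsZero ((homologyFunctor A i).obj (Y.obj (op n))))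
    (hH : ∀ i : ℤ, DerCA.IsProIso (Functor.whiskerRight f (homologyFunctor A i))) :
    DerCA.IsProIso f := fun n => by
  obtain ⟨T⟩ := exists_cones f
  obtain ⟨k, hk, hck⟩ := T.exists_compat_zero hX hY hH n
  obtain ⟨m, hm, hcm⟩ := T.exists_compat_zero hX hY hH k
  obtain ⟨b₀, hb₀⟩ := Triangle.coyoneda_exact₂ _ (T.dist k) (ARSys.tr Y hm)
    (hcm.1.symm.trans comp_zero)
  change Y.obj (op m) ⟶ X.obj (op k) at b₀
  change ARSys.tr Y hm = b₀ ≫ f.app (op k) at hb₀
  refine ⟨m, hk.trans hm, b₀ ≫ ARSys.tr X hk, ?_, ?_⟩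
  · have he : (f.app (op m) ≫ b₀ - ARSys.tr X hm) ≫ f.app (op k) = 0 := by
      rw [Preadditive.sub_comp, Category.assoc, ← hb₀, tr_naturality, sub_self]
    obtain ⟨z, hz⟩ := Triangle.coyoneda_exact₁ _ (T.dist k)
      ((f.app (op m) ≫ b₀ - ARSys.tr X hm)⟦(1 : ℤ)⟧')
      ((Functor.map_comp _ _ _).symm.trans ((congrArg _ he).trans (Functor.map_zero _ _ _)))
    change _ = z ≫ T.δ k at hz
    have : (f.app (op m) ≫ b₀ - ARSys.tr X hm) ≫ ARSys.tr X hk = 0 :=
      (shiftFunctor (DerivedCategory A) (1 : ℤ)).map_injective (by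
        refine ((Functor.map_comp _ _ _).trans ((congrArg (· ≫ _) hz).trans ?_)).trans (Functor.map_zero _ _ _).symm
        exact (Category.assoc _ _ _).trans ((congrArg (z ≫ ·) (hck.2.symm.trans zero_comp)).trans comp_zero))
    rw [Preadditive.sub_comp, sub_eq_zero, Category.assoc, tr_comp] at this
    exact this
  · rw [Category.assoc, tr_naturality, ← Category.assoc, ← hb₀, tr_comp]

end Groth.Agent.RlimLib.ProBounded
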