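import Groth.Agent.RlimLib.ProBounded
import Mathlib.CategoryTheory.Functor.OfSequence

/-!
# Essentially constant inverse systems in the derived category
-/

set_option autoImplicit false

universe w v u v' u'

open CategoryTheory CategoryTheory.Limits CategoryTheory.Pretriangulated DerivedCategory Opposite
open Groth.Agent.KFlat.Pro (tr_comp tr_comp_assoc tr_naturality)

namespace Groth.Agent.RlimLib.ProEssConst

section General

variable {C : Type u'} [Category.{v'} C] {X : ARSys.PS C} {B : C}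

lemma cone_tr (c : (Functor.const ℕᵒᵖ).obj B ⟶ X) {n m : ℕ} (h : n ≤ m) :
    c.app (op m) ≫ ARSys.tr X h = c.app (op n) :=
  (c.naturality (homOfLE h).op).symm.trans (Category.id_comp _)

lemma isProIso_of_isEssConstant {c : (Functor.const ℕᵒᵖ).obj B ⟶ X} (hc : DerCA.IsEssConstant X B c) :
    DerCA.IsProIso c := fun n => by
  obtain ⟨i, s, hs, hk⟩ := hc
  obtain ⟨k, hi, hn, e⟩ := hk n
  refine ⟨k, hn, ARSys.tr X hi ≫ s, ?_, ?_⟩
  · exact ((Category.assoc _ _ _).symm.trans (congrArg (· ≫ s) (cone_tr c hi))).trans hs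
  · exact (Category.assoc _ _ _).trans e.symm

lemma isEssConstant_of_isProIso {c : (Functor.const ℕᵒᵖ).obj B ⟶ X} (hc : DerCA.IsProIso c) :
    DerCA.IsEssConstant X B c := by
  obtain ⟨i, hi, s, hs, -⟩ := hc 0
  refine ⟨i, s, hs, fun j => ?_⟩
  obtain ⟨m, hm, b, hb, hb'⟩ := hc j
  obtain ⟨k, hk, b', -, hb''⟩ := hc (max i m)
  change _ = ARSys.tr X hk at hb''
  change c.app (op m) ≫ b = 𝟙 _ at hb
  change c.app (op i) ≫ s = 𝟙 _ at hs
  have e1 : ARSys.tr X ((le_max_left i m).trans hk) ≫ s = b' := by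
    rw [← tr_comp X (le_max_left i m) hk, ← hb'', Category.assoc, Category.assoc,
      reassoc_of% (cone_tr c (le_max_left i m)), hs]
    exact Category.comp_id _
  have e2 : ARSys.tr X ((le_max_right i m).trans hk) ≫ b = b' := by
    rw [← tr_comp X (le_max_right i m) hk, ← hb'', Category.assoc, Category.assoc,
      reassoc_of% (cone_tr c (le_max_right i m)), hb]
    exact Category.comp_id _
  refine ⟨k, (le_max_left i m).trans hk, hm.trans ((le_max_right i m).trans hk), ?_⟩
  rw [← Category.assoc, e1, ← e2, Category.assoc, hb', tr_comp]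

/-- A cone over an essentially constant system factors through the value. -/
lemma exists_factor {c : (Functor.const ℕᵒᵖ).obj B ⟶ X} (hc : DerCA.IsEssConstant X B c) {W : C}
    (d : (Functor.const ℕᵒᵖ).obj W ⟶ X) : ∃ e : W ⟶ B, ∀ n : ℕ, d.app (op n) = e ≫ c.app (op n) := by
  obtain ⟨i, s, -, hk⟩ := hc
  refine ⟨d.app (op i) ≫ s, fun n => ?_⟩
  obtain ⟨k, hi, hn, e⟩ := hk n
  rw [← cone_tr d hn, e, ← cone_tr d hi]
  simp only [Category.assoc]

/-- A pro-isomorphism from a constant system splits some component. -/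
lemma isZero_of_isProIso [HasZeroMorphisms C] {c : (Functor.const ℕᵒᵖ).obj B ⟶ X} (hc : DerCA.IsProIso c)
    (h : ∀ n : ℕ, IsZero (X.obj (op n))) : IsZero B := by
  obtain ⟨m, hm, b, hb, -⟩ := hc 0
  change c.app (op m) ≫ b = 𝟙 B at hb
  rw [(h m).eq_of_src b 0, comp_zero] at hb
  exact (IsZero.iff_id_eq_zero B).2 hb.symm

lemma isProIso_of_isZero {Y : ARSys.PS C} [HasZeroMorphisms C] (a : X ⟶ Y) (hX : ∀ n : ℕ, IsZero (X.obj (op n)))
    (hY : ∀ n : ℕ, IsZero (Y.obj (op n))) : DerCA.IsProIso a := fun n =>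
  ⟨n, le_rfl, 0, (hX n).eq_of_src _ _, (hY n).eq_of_src _ _⟩

end General

variable {A : Type u} [Category.{v} A] [Abelian A] [HasDerivedCategory.{w} A]

local notation "H" => homologyFunctor A

/-- Amplitude of the value. -/
lemma isZero_homology_value {X : ARSys.PS (DerivedCategory A)} {L : DerivedCategory A}
    {c : (Functor.const ℕᵒᵖ).obj L ⟶ X} (hc : DerCA.IsProIso c) (i : ℤ)
    (h : ∀ n : ℕ, IsZero ((H i).obj (X.obj (op n)))) : IsZero ((H i).obj L) := by
  obtain ⟨m, hm, b, hb, -⟩ := hc 0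
  change c.app (op m) ≫ b = 𝟙 L at hb
  have := congrArg (fun g => (H i).map g) hb
  simp only [Functor.map_comp] at this
  rw [ (h m).eq_of_src ((H i).map b) 0, comp_zero] at this
  exact (IsZero.iff_id_eq_zero _).2 (this.trans ((homologyFunctor A i).map_id L)).symm

/-- The concentrated case. -/
lemma exists_of_concentrated (X : ARSys.PS (DerivedCategory A)) (a : ℤ)
    (hX : ∀ (n : ℕ) (i : ℤ), i ≠ a → IsZero ((H i).obj (X.obj (op n))))
    (hH : ∃ (B : A) (c : (Functor.const ℕᵒᵖ).obj B ⟶ X ⋙ H a), DerCA.IsProIso c) :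
    ∃ (L : DerivedCategory A) (c : (Functor.const ℕᵒᵖ).obj L ⟶ X), DerCA.IsProIso c := by
  obtain ⟨B, c, hc⟩ := hH
  let τ := (singleFunctorCompHomologyFunctorIso A a).app B
  haveI hge : ∀ n : ℕ, (X.obj (op n)).IsGE a := fun n =>
    ((X.obj (op n)).isGE_iff a).2 fun i hi => hX n i (by omega)
  haveI hle : ∀ n : ℕ, (X.obj (op n)).IsLE a := fun n =>
    ((X.obj (op n)).isLE_iff a).2 fun i hi => hX n i (by omega)
  have key : ∀ n : ℕ, ∃ φ : (singleFunctor A a).obj B ⟶ X.obj (op n),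
      (H a).map φ = τ.hom ≫ c.app (op n) := fun n => by
    obtain ⟨Y, ⟨e⟩⟩ := (X.obj (op n)).exists_iso_singleFunctor_obj_of_isGE_of_isLE a
    let σ := (singleFunctorCompHomologyFunctorIso A a).app Y
    refine ⟨(singleFunctor A a).map (c.app (op n) ≫ (H a).map e.hom ≫ σ.hom) ≫ e.inv, ?_⟩
    have h := (singleFunctorCompHomologyFunctorIso A a).hom.naturality (c.app (op n) ≫ (H a).map e.hom ≫ σ.hom)
    simp only [Functor.comp_map, Functor.id_map] at h
    rw [Functor.map_comp, ← cancel_mono ((H a).map e.hom ≫ σ.hom)]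
    simp only [Category.assoc]
    refine (congrArg (_ ≫ ·) (((H a).map_comp_assoc e.inv e.hom σ.hom).symm.trans
      ((congrArg (fun g => (H a).map g ≫ σ.hom) e.inv_hom_id).trans
        ((congrArg (· ≫ σ.hom) ((H a).map_id _)).trans (Category.id_comp _))))).trans ?_
    exact h
  choose φ hφ using key
  have ext : ∀ (n : ℕ) (p q : (singleFunctor A a).obj B ⟶ X.obj (op n)),
      (H a).map p = (H a).map q → p = q := fun n p q h =>
    sub_eq_zero.1 (TriH.TruncFactor.eq_zero_of_homology a _ (by rw [Functor.map_sub, h, sub_self]))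
  refine ⟨(singleFunctor A a).obj B,
    NatTrans.ofOpSequence (fun n => φ n) (fun n => (Category.id_comp _).trans (ext n _ _ ?_)), ?_⟩
  · rw [hφ n]
    refine Eq.trans ?_ (((H a).map_comp (φ (n + 1)) (ARSys.tr X (Nat.le_add_right n 1))).trans
      (congrArg (· ≫ _) (hφ (n + 1)))).symm
    rw [Category.assoc]
    exact (congrArg (τ.hom ≫ ·) (cone_tr c (Nat.le_add_right n 1))).symm
  refine ProBounded.isProIso_of_homology _ a a (fun n i hi => ?_) (fun n i hi => hX n i (by omega)) fun i => ?_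
  · rcases hi with hi | hi
    · exact DerivedCategory.isZero_of_isGE ((singleFunctor A a).obj B) a i hi
    · exact DerivedCategory.isZero_of_isLE ((singleFunctor A a).obj B) a i hi
  by_cases hi : i = a
  · subst hi
    refine KFlat.Pro.iff_of_iso (NatIso.ofComponents (fun _ => τ.symm) (fun _ => by
      simp only [Functor.const_obj_map, Functor.comp_map]
      exact (Category.id_comp _).trans ((congrArg (_ ≫ ·) ((H i).map_id _)).trans (Category.comp_id _)).symm))
      (Iso.refl _) ?_ hc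
    ext n
    change c.app n ≫ 𝟙 _ = τ.inv ≫ (H i).map (φ n.unop)
    rw [hφ, τ.inv_hom_id_assoc, Category.comp_id]
  · refine isProIso_of_isZero _ (fun n => ?_) (fun n => hX n i hi)
    rcases lt_or_gt_of_ne hi with hi | hi
    · exact DerivedCategory.isZero_of_isGE ((singleFunctor A a).obj B) a i hi
    · exact DerivedCategory.isZero_of_isLE ((singleFunctor A a).obj B) a i hi

section Glue

variable (X : ARSys.PS (DerivedCategory A)) (m : ℤ)

local notation "t" => (TStructure.t (C := A))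

/-- The lower part of the truncation. -/
noncomputable abbrev lo : ARSys.PS (DerivedCategory A) := X ⋙ TStructure.t.truncLT m

/-- The upper part of the truncation. -/
noncomputable abbrev hi : ARSys.PS (DerivedCategory A) := X ⋙ TStructure.t.truncGE m

/-- Glueing the values of the two truncations. -/
lemma exists_glue {L₁ L₂ : DerivedCategory A} (c₁ : (Functor.const ℕᵒᵖ).obj L₁ ⟶ lo X m)
    (c₂ : (Functor.const ℕᵒᵖ).obj L₂ ⟶ hi X m) (h₁ : DerCA.IsProIso c₁)
    [L₁.IsLE (m - 1)] [L₂.IsGE m] :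
    ∃ (L : DerivedCategory A) (p : L₁ ⟶ L) (q : L ⟶ L₂) (d : L₂ ⟶ L₁⟦(1 : ℤ)⟧)
      (_ : Triangle.mk p q d ∈ distTriang (DerivedCategory A)) (c : (Functor.const ℕᵒᵖ).obj L ⟶ X),
      ∀ n : ℕ, p ≫ c.app (op n) = c₁.app (op n) ≫ ((t).truncLTι m).app (X.obj (op n)) ∧
        c.app (op n) ≫ ((t).truncGEπ m).app (X.obj (op n)) = q ≫ c₂.app (op n) := by
  let ι : ∀ n : ℕ, (lo X m).obj (op n) ⟶ X.obj (op n) := fun n => ((t).truncLTι m).app _
  let π : ∀ n : ℕ, X.obj (op n) ⟶ (hi X m).obj (op n) := fun n => ((t).truncGEπ m).app _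
  have ιn : ∀ {n k : ℕ} (h : n ≤ k), ARSys.tr (lo X m) h ≫ ι n = ι k ≫ ARSys.tr X h := fun h =>
    ((t).truncLTι m).naturality _
  have πn : ∀ {n k : ℕ} (h : n ≤ k), ARSys.tr X h ≫ π n = π k ≫ ARSys.tr (hi X m) h := fun h =>
    ((t).truncGEπ m).naturality _
  have hdist : ∀ n : ℕ, Triangle.mk (ι n) (π n) (((t).truncGEδLT m).app (X.obj (op n))) ∈
      distTriang (DerivedCategory A) := fun n => (t).triangleLTGE_distinguished m _
  have e₁ := isEssConstant_of_isProIso h₁
  let cs : (Functor.const ℕᵒᵖ).obj (L₁⟦(1 : ℤ)⟧) ⟶ lo X m ⋙ shiftFunctor (DerivedCategory A) (1 : ℤ) :=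
    { app := fun n => (c₁.app n)⟦(1 : ℤ)⟧'
      naturality := fun n k g => by
        refine (Category.id_comp _).trans ?_
        exact ((congrArg (fun φ => φ⟦(1 : ℤ)⟧') ((c₁.naturality g).symm.trans (Category.id_comp _))).symm.trans
          (Functor.map_comp _ _ _)) }
  have hcs : DerCA.IsProIso cs := fun n => by
    obtain ⟨k, hk, b, hb, hb'⟩ := h₁ n
    exact ⟨k, hk, b⟦(1 : ℤ)⟧', (Functor.map_comp _ _ _).symm.trans
        ((congrArg (fun φ => φ⟦(1 : ℤ)⟧') hb).trans ((shiftFunctor (DerivedCategory A) (1 : ℤ)).map_id L₁)),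
      (Functor.map_comp _ _ _).symm.trans (congrArg (fun φ => φ⟦(1 : ℤ)⟧') hb')⟩
  obtain ⟨d, hd⟩ := exists_factor (isEssConstant_of_isProIso hcs)
    (c₂ ≫ Functor.whiskerLeft X ((t).truncGEδLT m))
  change ∀ n : ℕ, c₂.app (op n) ≫ ((t).truncGEδLT m).app (X.obj (op n)) = d ≫ (c₁.app (op n))⟦(1 : ℤ)⟧' at hd
  obtain ⟨L, p, q, hT⟩ := distinguished_cocone_triangle₂ d
  let S : ∀ n : ℕ, Set (L ⟶ X.obj (op n)) := fun n =>
    {φ | p ≫ φ = c₁.app (op n) ≫ ι n ∧ φ ≫ π n = q ≫ c₂.app (op n)}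
  have hne : ∀ n, ∃ φ, φ ∈ S n := fun n => by
    obtain ⟨φ, h1, h2⟩ := complete_distinguished_triangle_morphism₂ _ _ hT (hdist n)
      (c₁.app (op n)) (c₂.app (op n)) (hd n).symm
    exact ⟨φ, h1, h2.symm⟩
  have htr : ∀ {n k : ℕ} (h : n ≤ k) {φ : L ⟶ X.obj (op k)}, φ ∈ S k → φ ≫ ARSys.tr X h ∈ S n := by
    intro n k h φ hφ
    constructor
    · rw [reassoc_of% hφ.1, ← ιn h]
      exact (Category.assoc _ _ _).symm.trans (congrArg (· ≫ ι n) (cone_tr c₁ h))
    · rw [Category.assoc, πn h, reassoc_of% hφ.2]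
      exact congrArg (q ≫ ·) (cone_tr c₂ h)
  have hadd : ∀ (n : ℕ) (z : L₂ ⟶ L₁) {φ : L ⟶ X.obj (op n)}, φ ∈ S n →
      φ + q ≫ z ≫ c₁.app (op n) ≫ ι n ∈ S n := by
    intro n z φ hφ
    have hpq : p ≫ q = 0 := comp_distTriang_mor_zero₁₂ _ hT
    have hιπ : ι n ≫ π n = 0 := comp_distTriang_mor_zero₁₂ _ (hdist n)
    constructor
    · rw [Preadditive.comp_add, reassoc_of% hpq, zero_comp, add_zero, hφ.1]
    · simp only [Preadditive.add_comp, Category.assoc]
      rw [show ι n ≫ π n = 0 from hιπ]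
      simp only [comp_zero, add_zero]
      exact hφ.2
  have hdiff : ∀ j : ℕ, ∃ (k : ℕ) (h : j ≤ k), ∀ {φ ψ : L ⟶ X.obj (op k)}, φ ∈ S k → ψ ∈ S k →
      ∃ z : L₂ ⟶ L₁, (φ - ψ) ≫ ARSys.tr X h = q ≫ z ≫ c₁.app (op j) ≫ ι j := by
    intro j
    obtain ⟨i, s, -, hk⟩ := e₁
    obtain ⟨k, hi', hj, e⟩ := hk j
    refine ⟨k, hj, fun {φ ψ} hφ hψ => ?_⟩
    obtain ⟨ω, hω⟩ := Triangle.coyoneda_exact₂ _ (hdist k) (φ - ψ)
      (show (φ - ψ) ≫ π k = 0 by rw [Preadditive.sub_comp, hφ.2, hψ.2, sub_self])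
    change L ⟶ (lo X m).obj (op k) at ω
    change φ - ψ = ω ≫ ι k at hω
    have hpω : p ≫ ω = 0 := by
      haveI : (t).IsLE L₁ (m - 1) := inferInstanceAs (L₁.IsLE (m - 1))
      refine (t).to_truncLT_obj_ext ?_
      refine (Category.assoc _ _ _).trans ((congrArg (p ≫ ·) hω.symm).trans ?_)
      rw [Preadditive.comp_sub, hφ.1, hψ.1, sub_self, zero_comp]
    obtain ⟨u, hu⟩ := Triangle.yoneda_exact₂ _ hT ω hpω
    change L₂ ⟶ (lo X m).obj (op k) at u
    change ω = q ≫ u at hu
    refine ⟨u ≫ ARSys.tr (lo X m) hi' ≫ s, ?_⟩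
    rw [hω, hu, Category.assoc, Category.assoc, ← ιn hj, e]
    simp only [Category.assoc]
  choose K hK hKd using hdiff
  let R : ∀ n : ℕ, Set (L ⟶ X.obj (op n)) := fun n =>
    {φ | ∀ (l : ℕ) (h : n ≤ l), ∃ ψ ∈ S l, ψ ≫ ARSys.tr X h = φ}
  have hR : ∀ (j : ℕ) {φ : L ⟶ X.obj (op (K j))}, φ ∈ S (K j) → φ ≫ ARSys.tr X (hK j) ∈ R j := by
    intro j φ hφ l h
    obtain ⟨ψ, hψ⟩ := hne (max l (K j))
    obtain ⟨z, hz⟩ := hKd j hφ (htr (le_max_right l (K j)) hψ)
    refine ⟨(ψ + q ≫ z ≫ c₁.app (op _) ≫ ι _) ≫ ARSys.tr X (le_max_left l (K j)),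
      htr _ (hadd _ z hψ), ?_⟩
    rw [Category.assoc, tr_comp, Preadditive.add_comp]
    simp only [Category.assoc]
    rw [← ιn (h.trans (le_max_left l (K j))), (Category.assoc (c₁.app (op _)) _ _).symm.trans
      (congrArg (· ≫ ι j) (cone_tr c₁ (h.trans (le_max_left l (K j)))))]
    rw [Preadditive.sub_comp, Category.assoc, tr_comp, sub_eq_iff_eq_add] at hz
    rw [hz, add_comm]
  have hstep : ∀ (n : ℕ) (φ : R n), ∃ ψ : R (n + 1), ψ.1 ≫ ARSys.tr X (Nat.le_add_right n 1) = φ.1 := by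
    intro n φ
    obtain ⟨ψ, hψ, e⟩ := φ.2 (K (n + 1)) ((Nat.le_add_right n 1).trans (hK _))
    refine ⟨⟨_, hR _ hψ⟩, ?_⟩
    rw [Category.assoc, tr_comp]
    exact e
  obtain ⟨φ₀, hφ₀⟩ := hne (K 0)
  choose next hnext using hstep
  let seq : ∀ n, R n := fun n => Nat.rec ⟨_, hR 0 hφ₀⟩ (fun n φ => next n φ) n
  refine ⟨L, p, q, d, hT, NatTrans.ofOpSequence (fun n => (seq n).1)
    (fun n => (Category.id_comp _).trans (hnext n (seq n)).symm), fun n => ?_⟩
  obtain ⟨ψ, hψ, e⟩ := (seq n).2 n le_rfl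
  have := htr (le_refl n) hψ
  rw [e] at this
  exact this

end Glue

lemma isIso_homology_ι' (X : DerivedCategory A) (m i : ℤ) (hi : i < m) :
    IsIso ((H i).map ((TStructure.t.truncLTι m).app X)) := by
  have hT := (TStructure.t (C := A)).triangleLTGE_distinguished m X
  have hz : ∀ j < m, IsZero ((H j).obj ((TStructure.t.truncGE m).obj X)) := fun j hj =>
    DerivedCategory.isZero_of_isGE _ m j hj
  have : Mono ((H i).map ((TStructure.t.truncLTι m).app X)) :=
    (HomologySequence.mono_homologyMap_mor₁_iff _ hT (i - 1) i (by omega)).2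
      ((hz (i - 1) (by omega)).eq_of_src _ _)
  have : Epi ((H i).map ((TStructure.t.truncLTι m).app X)) :=
    (HomologySequence.epi_homologyMap_mor₁_iff _ hT i).2 ((hz i hi).eq_of_tgt _ _)
  exact isIso_of_mono_of_epi _

theorem exists_of_amplitude : ∀ (N : ℕ) (X : ARSys.PS (DerivedCategory A)) (a : ℤ)
    (_ : ∀ (n : ℕ) (i : ℤ), i < a ∨ a + N < i → IsZero ((H i).obj (X.obj (op n))))
    (_ : ∀ i : ℤ, ∃ (B : A) (c : (Functor.const ℕᵒᵖ).obj B ⟶ X ⋙ H i), DerCA.IsProIso c),
    ∃ (L : DerivedCategory A) (c : (Functor.const ℕᵒᵖ).obj L ⟶ X), DerCA.IsProIso c := by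
  intro N
  induction N with
  | zero => exact fun X a hX hH =>
      exists_of_concentrated X a (fun n i hi => hX n i (by simp; omega)) (hH a)
  | succ N ih =>
    intro X a hX hH
    let m : ℤ := a + (N + 1 : ℕ)
    let t := TStructure.t (C := A)
    have zlo : ∀ (n : ℕ) (i : ℤ), m ≤ i → IsZero ((H i).obj ((lo X m).obj (op n))) := fun n i hi' => by
      haveI : ((lo X m).obj (op n)).IsLE (m - 1) := inferInstanceAs (t.IsLE ((t.truncLT m).obj _) (m - 1))
      exact DerivedCategory.isZero_of_isLE _ (m - 1) i (by omega)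
    have zhi : ∀ (n : ℕ) (i : ℤ), i < m → IsZero ((H i).obj ((hi X m).obj (op n))) := fun n i hi' =>
      TriH.EndNilp.isZero_homology_truncGE _ m i hi'
    let ι := Functor.whiskerLeft X (t.truncLTι m)
    let π := Functor.whiskerLeft X (t.truncGEπ m)
    haveI hι : ∀ (i : ℤ), i < m → IsIso (Functor.whiskerRight ι (H i)) := fun i hi' => by
      haveI : ∀ n, IsIso ((Functor.whiskerRight ι (H i)).app n) := fun n => isIso_homology_ι' _ m i hi'
      exact NatIso.isIso_of_isIso_app _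
    haveI hπ : ∀ (i : ℤ), m ≤ i → IsIso (Functor.whiskerRight π (H i)) := fun i hi' => by
      haveI : ∀ n, IsIso ((Functor.whiskerRight π (H i)).app n) := fun n =>
        TriH.EndNilp.isIso_homology_π _ (m - 1) m i (by omega) hi'
      exact NatIso.isIso_of_isIso_app _
    have zero : ∀ (Y : ARSys.PS A), (∀ n : ℕ, IsZero (Y.obj (op n))) →
        ∃ (B : A) (c : (Functor.const ℕᵒᵖ).obj B ⟶ Y), DerCA.IsProIso c := fun Y hY =>
      ⟨Y.obj (op 0), { app := fun n => 0 }, isProIso_of_isZero _ (fun n => hY 0) hY⟩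
    obtain ⟨L₁, c₁, h₁⟩ := ih (lo X m) a (fun n i hi' => by
        by_cases h : i < m
        · haveI := hι i h
          exact (hX n i (by omega)).of_iso ((asIso (Functor.whiskerRight ι (H i))).app (op n))
        · exact zlo n i (by omega))
      (fun i => by
        by_cases h : i < m
        · haveI := hι i h
          obtain ⟨B, c, hc⟩ := hH i
          exact ⟨B, c ≫ (asIso (Functor.whiskerRight ι (H i))).inv,
            KFlat.Pro.comp hc (KFlat.Pro.of_iso (asIso (Functor.whiskerRight ι (H i))).symm)⟩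
        · exact zero _ fun n => zlo n i (by omega))
    haveI := hπ m le_rfl
    obtain ⟨L₂, c₂, h₂⟩ := exists_of_concentrated (hi X m) m (fun n i hi' => by
        by_cases h : m ≤ i
        · haveI := hπ i h
          exact (hX n i (by omega)).of_iso ((asIso (Functor.whiskerRight π (H i))).app (op n)).symm
        · exact zhi n i (by omega))
      (by
        obtain ⟨B, c, hc⟩ := hH m
        exact ⟨B, c ≫ (asIso (Functor.whiskerRight π (H m))).hom,
          KFlat.Pro.comp hc (KFlat.Pro.of_iso (asIso (Functor.whiskerRight π (H m))))⟩)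
    have zL₁ : ∀ i, m ≤ i → IsZero ((H i).obj L₁) := fun i h =>
      isZero_homology_value h₁ i fun n => zlo n i h
    have zL₂ : ∀ i, i < m → IsZero ((H i).obj L₂) := fun i h =>
      isZero_homology_value h₂ i fun n => zhi n i h
    haveI : L₁.IsLE (m - 1) := (L₁.isLE_iff _).2 fun i h => zL₁ i (by omega)
    haveI : L₂.IsGE m := (L₂.isGE_iff _).2 zL₂
    obtain ⟨L, p, q, d, hT, c, hc⟩ := exists_glue X m c₁ c₂ h₁
    refine ⟨L, c, ProBounded.isProIso_of_homology c a m (fun n i hi' => ?_) hX fun i => ?_⟩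
    · refine (HomologySequence.exact₂ _ hT i).isZero_of_both_zeros ?_ ?_
      · refine (isZero_homology_value h₁ i fun n => ?_).eq_of_src _ _
        by_cases h : i < m
        · haveI := hι i h
          exact (hX n i hi').of_iso ((asIso (Functor.whiskerRight ι (H i))).app (op n))
        · exact zlo n i (by omega)
      · refine (isZero_homology_value h₂ i fun n => ?_).eq_of_tgt _ _
        by_cases h : m ≤ i
        · haveI := hπ i h
          exact (hX n i hi').of_iso ((asIso (Functor.whiskerRight π (H i))).app (op n)).symm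
        · exact zhi n i (by omega)
    by_cases h : i < m
    · haveI := hι i h
      haveI : IsIso ((H i).map p) := by
        haveI : Mono ((H i).map p) := (HomologySequence.mono_homologyMap_mor₁_iff _ hT (i - 1) i (by omega)).2
          ((zL₂ (i - 1) (by omega)).eq_of_src _ _)
        haveI : Epi ((H i).map p) :=
          (HomologySequence.epi_homologyMap_mor₁_iff _ hT i).2 ((zL₂ i h).eq_of_tgt _ _)
        exact isIso_of_mono_of_epi _
      refine KFlat.Pro.of_comp_left (a := Functor.whiskerRight ((Functor.const ℕᵒᵖ).map p) (H i))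
        (KFlat.Pro.of_isIso _ fun n => inferInstanceAs (IsIso ((H i).map p))) ?_
      rw [← Functor.whiskerRight_comp, show (Functor.const ℕᵒᵖ).map p ≫ c = c₁ ≫ ι from
        NatTrans.ext (funext fun n => (hc n.unop).1), Functor.whiskerRight_comp]
      exact KFlat.Pro.comp (KFlat.Pro.map (H i) h₁) (KFlat.Pro.of_iso (asIso (Functor.whiskerRight ι (H i))))
    · haveI := hπ i (not_lt.1 h)
      haveI : IsIso ((H i).map q) := by
        haveI : Mono ((H i).map q) := (HomologySequence.mono_homologyMap_mor₂_iff _ hT i).2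
          ((zL₁ i (by omega)).eq_of_src _ _)
        haveI : Epi ((H i).map q) :=
          (HomologySequence.epi_homologyMap_mor₂_iff _ hT i (i + 1) rfl).2 ((zL₁ (i + 1) (by omega)).eq_of_tgt _ _)
        exact isIso_of_mono_of_epi _
      refine KFlat.Pro.of_comp_right (a' := Functor.whiskerRight π (H i))
        (KFlat.Pro.of_iso (asIso (Functor.whiskerRight π (H i)))) ?_
      rw [← Functor.whiskerRight_comp, show c ≫ π = (Functor.const ℕᵒᵖ).map q ≫ c₂ from
        NatTrans.ext (funext fun n => (hc n.unop).2), Functor.whiskerRight_comp]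
      exact KFlat.Pro.comp (KFlat.Pro.of_isIso _ fun n => inferInstanceAs (IsIso ((H i).map q)))
        (KFlat.Pro.map (H i) h₂)

theorem exists_isEssConstant (X : ARSys.PS (DerivedCategory A)) (a b : ℤ) (hab : a ≤ b)
    (hX : ∀ (n : ℕ) (i : ℤ), i < a ∨ b < i → IsZero ((H i).obj (X.obj (op n))))
    (hH : ∀ i : ℤ, ∃ (B : A) (c : (Functor.const ℕᵒᵖ).obj B ⟶ X ⋙ H i),
      DerCA.IsEssConstant (X ⋙ H i) B c) :
    ∃ (L : DerivedCategory A) (c : (Functor.const ℕᵒᵖ).obj L ⟶ X), DerCA.IsEssConstant X L c := by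
  obtain ⟨L, c, hc⟩ := exists_of_amplitude (b - a).toNat X a (fun n i hi => hX n i (by omega)) fun i => by
    obtain ⟨B, c, hc⟩ := hH i
    exact ⟨B, c, isProIso_of_isEssConstant hc⟩
  exact ⟨L, c, isEssConstant_of_isProIso hc⟩

end Groth.Agent.RlimLib.ProEssConst
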