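import Groth.Agent.DerAdj.RFProducts
import Groth.Agent.RlimLib.ExactProd

/-!
# `RF` preserves countable products when they are exact in the target
-/

set_option autoImplicit false
set_option linter.style.haveILetI false

universe w w' v v' u u'

open CategoryTheory CategoryTheory.Limits

namespace Groth.Agent.RlimLib.ExactProd

variable {A : Type u} [Category.{v} A] [Abelian A] [HasDerivedCategory.{w} A]
  {B : Type u'} [Category.{v'} B] [Abelian B] [HasDerivedCategory.{w'} B]
  (F : A ⥤ B) [F.Additive]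
  [(F.mapHomotopyCategory (ComplexShape.up ℤ) ⋙ DerivedCategory.Qh).HasRightDerivedFunctor
    (HomotopyCategory.quasiIso A (ComplexShape.up ℤ))]
  (hKA : ∀ K : CochainComplex A ℤ, ∃ (I : CochainComplex A ℤ) (f : K ⟶ I), I.IsKInjective ∧ QuasiIso f)

include hKA in
/-- `RF` is additive. -/
lemma additive_RFun : (DerAdj.RFun F).Additive := by
  let W := HomotopyCategory.quasiIso A (ComplexShape.up ℤ)
  let P := F.mapHomotopyCategory (ComplexShape.up ℤ) ⋙ DerivedCategory.Qh
  haveI : P.HasPointwiseRightDerivedFunctor W :=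
    TriH.hasPointwiseRightDerivedFunctor_of_bijective (L := DerivedCategory.Qh)
      (TriH.exists_kInjective_homotopy hKA) P
  let β := P.totalRightDerivedUnit DerivedCategory.Qh W
  refine ⟨fun {X Y f g} => ?_⟩
  have hrep : ∀ Z : DerivedCategory A, ∃ (I : CochainComplex A ℤ), I.IsKInjective ∧
      Nonempty (DerivedCategory.Qh.obj ((HomotopyCategory.quotient A _).obj I) ≅ Z) := fun Z => by
    obtain ⟨I, s, hI, hs⟩ := hKA (DerivedCategory.Q.objPreimage Z)
    exact ⟨I, hI, ⟨(DerivedCategory.quotientCompQhIso A).app I ≪≫ (asIso (DerivedCategory.Q.map s)).symm ≪≫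
      DerivedCategory.Q.objObjPreimageIso Z⟩⟩
  obtain ⟨I, hI, ⟨eX⟩⟩ := hrep X
  obtain ⟨J, hJ, ⟨eY⟩⟩ := hrep Y
  have hbI := TriH.Qh_bijective_of_isKInjective J ((HomotopyCategory.quotient A (ComplexShape.up ℤ)).obj I)
  obtain ⟨a, ha⟩ := hbI.2 (eX.hom ≫ f ≫ eY.inv)
  obtain ⟨b, hb⟩ := hbI.2 (eX.hom ≫ g ≫ eY.inv)
  haveI : IsIso (β.app ((HomotopyCategory.quotient A _).obj I)) :=
    TriH.isIso_unit_of_bijective (W := W) P (DerAdj.RFun F) β _ (TriH.Qh_bijective_of_isKInjective I)
  have key : ∀ (h : X ⟶ Y) (c), DerivedCategory.Qh.map c = eX.hom ≫ h ≫ eY.inv →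
      (DerAdj.RFun F).map h = (DerAdj.RFun F).map eX.inv ≫ inv (β.app _) ≫ P.map c ≫ β.app _ ≫
        (DerAdj.RFun F).map eY.hom := by
    intro h c hc
    have n := β.naturality c
    simp only [Functor.comp_map] at n
    rw [reassoc_of% n, IsIso.inv_hom_id_assoc, ← Functor.map_comp, ← Functor.map_comp, hc]
    simp
  rw [key f a ha, key g b hb, key (f + g) (a + b) (by simp [ha, hb]), P.map_add]
  simp only [Preadditive.add_comp, Preadditive.comp_add]

include hKA in
/-- `RF` preserves countable products. -/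
theorem preservesLimit_RFun [HasLimitsOfShape (Discrete ℕ) A] [HasLimitsOfShape (Discrete ℕ) B]
    [(lim : (Discrete ℕ ⥤ B) ⥤ B).PreservesEpimorphisms] [PreservesLimitsOfShape (Discrete ℕ) F]
    (E : ℕ → DerivedCategory A) : PreservesLimit (Discrete.functor E) (DerAdj.RFun F) := by
  let W := HomotopyCategory.quasiIso A (ComplexShape.up ℤ)
  let P := F.mapHomotopyCategory (ComplexShape.up ℤ) ⋙ DerivedCategory.Qh
  haveI : P.HasPointwiseRightDerivedFunctor W :=
    TriH.hasPointwiseRightDerivedFunctor_of_bijective (L := DerivedCategory.Qh)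
      (TriH.exists_kInjective_homotopy hKA) P
  let β := P.totalRightDerivedUnit DerivedCategory.Qh W
  let ν : F.mapHomologicalComplex (ComplexShape.up ℤ) ⋙ DerivedCategory.Q ⟶ DerivedCategory.Q ⋙ DerAdj.RFun F :=
    Functor.whiskerLeft (F.mapHomologicalComplex (ComplexShape.up ℤ)) (DerivedCategory.quotientCompQhIso B).inv ≫
      (Functor.whiskerLeft (HomotopyCategory.quotient A _) β ≫
      Functor.whiskerRight (DerivedCategory.quotientCompQhIso A).hom (DerAdj.RFun F))
  choose I φ hI hφ using fun t => hKA (DerivedCategory.Q.objPreimage (E t))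
  let eE : Discrete.functor (fun t => DerivedCategory.Q.obj (I t)) ≅ Discrete.functor E :=
    Discrete.natIso fun ⟨t⟩ => (haveI := hφ t; (asIso (DerivedCategory.Q.map (φ t))).symm ≪≫
      DerivedCategory.Q.objObjPreimageIso (E t))
  suffices PreservesLimit (Discrete.functor fun t => DerivedCategory.Q.obj (I t)) (DerAdj.RFun F) from
    preservesLimit_of_iso_diagram _ eE
  have hν : ∀ K : CochainComplex A ℤ, K.IsKInjective → IsIso (ν.app K) := fun K hK => by
    haveI : IsIso (β.app ((HomotopyCategory.quotient A _).obj K)) :=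
      TriH.isIso_unit_of_bijective (W := W) P (DerAdj.RFun F) β _ (TriH.Qh_bijective_of_isKInjective K)
    change IsIso (_ ≫ _ ≫ _)
    exact IsIso.comp_isIso' inferInstance (IsIso.comp_isIso' this inferInstance)
  refine preservesLimit_of_preserves_limit_cone (DerAdj.Products.isLimitFanQ I hI)
    ((isLimitMapConeFanMkEquiv _ _ _).symm ?_)
  haveI := hν (∏ᶜ I) (TriH.isKInjective_pi I hI)
  haveI := fun t => hν (I t) (hI t)
  let Fb := F.mapHomologicalComplex (ComplexShape.up ℤ)
  have hF : IsLimit (Fan.mk (Fb.obj (∏ᶜ I)) fun t => Fb.map (Pi.π I t)) :=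
    HomologicalComplex.isLimitOfEval _ _ fun m =>
      (isLimitMapConeFanMkEquiv (HomologicalComplex.eval B (ComplexShape.up ℤ) m) (fun t => Fb.obj (I t)) _).symm
        (isLimitFanMkObjOfIsLimit (HomologicalComplex.eval A (ComplexShape.up ℤ) m ⋙ F) I _ (productIsProduct I))
  have h1 := isLimitFanMkObjOfIsLimit DerivedCategory.Q _ _ hF
  let α : Discrete.functor (fun t => DerivedCategory.Q.obj (Fb.obj (I t))) ≅
      Discrete.functor (fun t => (DerAdj.RFun F).obj (DerivedCategory.Q.obj (I t))) :=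
    Discrete.natIso fun ⟨t⟩ => asIso (ν.app (I t))
  let h2 := (IsLimit.postcomposeHomEquiv α _).symm h1
  refine IsLimit.ofIsoLimit h2 (Fan.ext (asIso (ν.app (∏ᶜ I))) fun t => ?_)
  exact ν.naturality (Pi.π I t)

end Groth.Agent.RlimLib.ExactProd
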