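import Groth.Agent.RlimLib.Stable
import Groth.Agent.DerAdj.RFHomology

/-!
# Local representatives of the cohomology of a total right derived functor

For an additive functor `F`, a generator family `G` on the target and objects `Q W` of the source with natural
bijections `Hom(Q W, M) = Hom(G.P W, F M)`, sections of `Hᵐ(RF Y)` are locally maps `Q W ⟶ Y[m]`.
-/

set_option autoImplicit false
set_option linter.style.haveILetI false

universe w w' v u u'

open CategoryTheory CategoryTheory.Limits CategoryTheory.Pretriangulated HomologicalComplex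

namespace Groth.Agent.RlimLib

variable {C : Type u'} [Category.{u} C] {J : GrothendieckTopology C}
  {A : Type (u + 1)} [Category.{u} A] [Abelian A]
  {A' : Type (u + 1)} [Category.{u} A'] [Abelian A']

/-- Natural bijections `Hom(Q W, M) = Hom(G.P W, F M)`. -/
structure PushData (G : Gen J A') (F : A ⥤ A') where
  /-- The objects of the source. -/
  Q : C ⥤ A
  /-- The universal element. -/
  a : G.P ⟶ Q ⋙ F
  bij : ∀ (W : C) (M : A), Function.Bijective fun z : Q.obj W ⟶ M => a.app W ≫ F.map z

namespace RFRep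

variable (F : A ⥤ A') [F.Additive] [HasDerivedCategory.{w} A] [HasDerivedCategory.{w'} A']

/-- The composite whose right derived functor is `RF`. -/
noncomputable abbrev pKh : HomotopyCategory A (ComplexShape.up ℤ) ⥤ DerivedCategory A' :=
  F.mapHomotopyCategory (ComplexShape.up ℤ) ⋙ DerivedCategory.Qh

/-- The cohomology of `F` applied termwise. -/
noncomputable def hIsoF (m : ℤ) :
    HomotopyCategory.quotient A (ComplexShape.up ℤ) ⋙ pKh F ⋙ DerivedCategory.homologyFunctor A' m ≅
      F.mapHomologicalComplex (ComplexShape.up ℤ) ⋙ HomologicalComplex.homologyFunctor A' (ComplexShape.up ℤ) m :=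
  NatIso.ofComponents
    (fun S => (DerivedCategory.homologyFunctor A' m).mapIso
        (DerivedCategory.Qh.mapIso ((F.mapHomotopyCategoryFactors _).app S) ≪≫
          (DerivedCategory.quotientCompQhIso A').app _) ≪≫
      (DerivedCategory.homologyFunctorFactors A' m).app _)
    fun {S S'} g => by
      have h1 := (F.mapHomotopyCategoryFactors (ComplexShape.up ℤ)).hom.naturality g
      have h2 := (DerivedCategory.quotientCompQhIso A').hom.naturality
        ((F.mapHomologicalComplex (ComplexShape.up ℤ)).map g)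
      have h3 := (DerivedCategory.homologyFunctorFactors A' m).hom.naturality
        ((F.mapHomologicalComplex (ComplexShape.up ℤ)).map g)
      simp only [Functor.comp_map, pKh] at h1 h2 h3 ⊢
      simp only [Iso.trans_hom, Functor.mapIso_hom, Iso.app_hom, Functor.map_comp, Category.assoc]
      rw [← (DerivedCategory.homologyFunctor A' m).map_comp_assoc, ← Functor.map_comp, h1, Functor.map_comp,
        Functor.map_comp, Category.assoc, ← (DerivedCategory.homologyFunctor A' m).map_comp_assoc
          (DerivedCategory.Qh.map ((HomotopyCategory.quotient A' _).map _)), h2, Functor.map_comp, Category.assoc]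
      exact congrArg (_ ≫ ·) (congrArg (_ ≫ ·) h3)

/-- Transposition along a shift, the other way. -/
noncomputable def unshift (m : ℤ) {X Y : DerivedCategory A} (x : X ⟶ Y⟦m⟧) : X⟦-m⟧ ⟶ Y :=
  x⟦-m⟧' ≫ (shiftFunctorCompIsoId (DerivedCategory A) m (-m) (by omega)).hom.app Y

lemma unshift_comp (m : ℤ) {X Y Y' : DerivedCategory A} (x : X ⟶ Y⟦m⟧) (g : Y ⟶ Y') :
    unshift m (x ≫ g⟦m⟧') = unshift m x ≫ g := by
  have := (shiftFunctorCompIsoId (DerivedCategory A) m (-m) (by omega)).hom.naturality g
  simp only [Functor.id_map, Functor.comp_map] at this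
  simp only [unshift, Functor.map_comp, Category.assoc, this]

lemma unshift_comp_left (m : ℤ) {X X' Y : DerivedCategory A} (h : X' ⟶ X) (x : X ⟶ Y⟦m⟧) :
    unshift m (h ≫ x) = h⟦-m⟧' ≫ unshift m x := by
  simp [unshift]

lemma unshift_bijective (m : ℤ) {X Y : DerivedCategory A} :
    Function.Bijective (unshift m : (X ⟶ Y⟦m⟧) → _) := by
  refine ⟨fun x x' h => (shiftFunctor (DerivedCategory A) (-m)).map_injective ((cancel_mono _).1 h), fun y => ?_⟩
  obtain ⟨x, hx⟩ := (shiftFunctor (DerivedCategory A) (-m)).map_surjective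
    (y ≫ (shiftFunctorCompIsoId (DerivedCategory A) m (-m) (by omega)).inv.app Y)
  exact ⟨x, by simp [unshift, hx]⟩

variable (A) in
/-- An object in degree `m` in the homotopy category. -/
noncomputable abbrev sq (m : ℤ) : A ⥤ HomotopyCategory A (ComplexShape.up ℤ) :=
  HomologicalComplex.single A (ComplexShape.up ℤ) m ⋙ HomotopyCategory.quotient A (ComplexShape.up ℤ)

variable (A) in
/-- An object placed in degree `m`. -/
noncomputable def cIso (m : ℤ) :
    DerivedCategory.singleFunctor A 0 ⋙ shiftFunctor (DerivedCategory A) (-m) ≅ sq A m ⋙ DerivedCategory.Qh :=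
  (DerivedCategory.singleFunctors A).shiftIso (-m) m 0 (by omega) ≪≫ DerivedCategory.singleFunctorIsoCompQ A m ≪≫
    Functor.isoWhiskerLeft (CochainComplex.singleFunctor A m) (DerivedCategory.quotientCompQhIso A).symm

/-- A map out of `X[0]` seen as a map out of `X` in degree `m`. -/
noncomputable def under' (m : ℤ) {X : A} {Y : DerivedCategory A}
    (x : (DerivedCategory.singleFunctor A 0).obj X ⟶ Y⟦m⟧) : DerivedCategory.Qh.obj ((sq A m).obj X) ⟶ Y :=
  (cIso A m).inv.app X ≫ unshift m x

lemma under'_comp (m : ℤ) {X : A} {Y Y' : DerivedCategory A}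
    (x : (DerivedCategory.singleFunctor A 0).obj X ⟶ Y⟦m⟧) (g : Y ⟶ Y') :
    under' m (x ≫ g⟦m⟧') = under' m x ≫ g := by
  rw [under', unshift_comp, under', Category.assoc]

lemma under'_comp_left (m : ℤ) {X X' : A} {Y : DerivedCategory A} (h : X' ⟶ X)
    (x : (DerivedCategory.singleFunctor A 0).obj X ⟶ Y⟦m⟧) :
    under' m ((DerivedCategory.singleFunctor A 0).map h ≫ x) = DerivedCategory.Qh.map ((sq A m).map h) ≫ under' m x := by
  have := (cIso A m).inv.naturality h
  simp only [Functor.comp_map] at this
  simp only [under', unshift_comp_left]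
  rw [← Category.assoc, ← Category.assoc]
  exact congrArg (· ≫ _) this.symm

lemma under'_bijective (m : ℤ) {X : A} {Y : DerivedCategory A} :
    Function.Bijective (under' m : ((DerivedCategory.singleFunctor A 0).obj X ⟶ Y⟦m⟧) → _) := by
  refine ⟨fun x x' h => (unshift_bijective m).1 ((cancel_epi _).1 h), fun y => ?_⟩
  obtain ⟨x, hx⟩ := (unshift_bijective m).2 ((cIso A m).hom.app X ≫ y)
  exact ⟨x, by rw [under', hx, Iso.inv_hom_id_app_assoc]⟩

omit [HasDerivedCategory.{w} A] [HasDerivedCategory.{w'} A'] in
/-- The class of a map out of an object in degree `m`. -/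
lemma cyclesMap_single {m : ℤ} {X : A} {I : CochainComplex A ℤ}
    (g : (HomologicalComplex.single A (ComplexShape.up ℤ) m).obj X ⟶ I) :
    (HomologicalComplex.singleObjCyclesSelfIso (ComplexShape.up ℤ) m (F.obj X)).inv ≫
      cyclesMap ((singleMapHomologicalComplex F (ComplexShape.up ℤ) m).inv.app X ≫
        (F.mapHomologicalComplex (ComplexShape.up ℤ)).map g) m ≫
      ((F.mapHomologicalComplex (ComplexShape.up ℤ)).obj I).iCycles m =
    F.map ((singleObjXSelf (ComplexShape.up ℤ) m X).inv ≫ g.f m) := by
  refine (congrArg (_ ≫ ·) (cyclesMap_i _ _)).trans ?_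
  refine (singleObjCyclesSelfIso_inv_iCycles_assoc (ComplexShape.up ℤ) m (F.obj X) _).trans ?_
  simp
  exact (congrArg (_ ≫ ·) (Category.assoc _ _ _)).trans (Iso.inv_hom_id_assoc _ _)

section Main

variable [(F.mapHomotopyCategory (ComplexShape.up ℤ) ⋙ DerivedCategory.Qh).HasRightDerivedFunctor
    (HomotopyCategory.quasiIso A (ComplexShape.up ℤ))]

/-- The unit of `RF`. -/
noncomputable abbrev unit' : pKh F ⟶ DerivedCategory.Qh ⋙ DerAdj.RFun F :=
  (F.mapHomotopyCategory (ComplexShape.up ℤ) ⋙ DerivedCategory.Qh).totalRightDerivedUnit DerivedCategory.Qh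
    (HomotopyCategory.quasiIso A (ComplexShape.up ℤ))

/-- The class in `Hᵐ(RF(X in degree m))` of the identity. -/
noncomputable def classOf (m : ℤ) (X : A) :
    F.obj X ⟶ (DerivedCategory.homologyFunctor A' m).obj
      ((DerAdj.RFun F).obj (DerivedCategory.Qh.obj ((sq A m).obj X))) :=
  (singleObjHomologySelfIso (ComplexShape.up ℤ) m (F.obj X)).inv ≫
    homologyMap ((singleMapHomologicalComplex F (ComplexShape.up ℤ) m).inv.app X) m ≫
    (hIsoF F m).inv.app _ ≫ (DerivedCategory.homologyFunctor A' m).map ((unit' F).app ((sq A m).obj X))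

lemma classOf_naturality (m : ℤ) {X X' : A} (h : X' ⟶ X) :
    F.map h ≫ classOf F m X = classOf F m X' ≫ (DerivedCategory.homologyFunctor A' m).map
      ((DerAdj.RFun F).map (DerivedCategory.Qh.map ((sq A m).map h))) := by
  have h1 : F.map h ≫ (singleObjHomologySelfIso (ComplexShape.up ℤ) m (F.obj X)).inv =
      (singleObjHomologySelfIso (ComplexShape.up ℤ) m (F.obj X')).inv ≫
        homologyMap ((HomologicalComplex.single A' (ComplexShape.up ℤ) m).map (F.map h)) m := by
    have hn := (homologyFunctorSingleIso A' (ComplexShape.up ℤ) m).inv.naturality (F.map h)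
    simp only [Functor.id_map, Functor.comp_map] at hn
    exact hn
  have h2 := (singleMapHomologicalComplex F (ComplexShape.up ℤ) m).inv.naturality h
  have h3 := (hIsoF F m).inv.naturality ((HomologicalComplex.single A (ComplexShape.up ℤ) m).map h)
  have h4 : (pKh F).map ((sq A m).map h) ≫ (unit' F).app ((sq A m).obj X) = (unit' F).app ((sq A m).obj X') ≫
      (DerAdj.RFun F).map (DerivedCategory.Qh.map ((sq A m).map h)) := (unit' F).naturality _
  simp only [Functor.comp_map] at h2 h3
  simp only [classOf, Category.assoc]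
  rw [← Category.assoc, h1, Category.assoc, ← homologyMap_comp_assoc, h2, homologyMap_comp_assoc]
  rw [← Functor.map_comp, ← h4, Functor.map_comp]
  exact congrArg (_ ≫ ·) (congrArg (_ ≫ ·) ((reassoc_of% h3) _))

/-- The class of a chain map into a complex. -/
lemma classOf_map (m : ℤ) {X : A} {I : CochainComplex A ℤ}
    (g : (HomologicalComplex.single A (ComplexShape.up ℤ) m).obj X ⟶ I) :
    classOf F m X ≫ (DerivedCategory.homologyFunctor A' m).map
        ((DerAdj.RFun F).map (DerivedCategory.Qh.map ((HomotopyCategory.quotient A _).map g))) =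
      (singleObjHomologySelfIso (ComplexShape.up ℤ) m (F.obj X)).inv ≫
        homologyMap ((singleMapHomologicalComplex F (ComplexShape.up ℤ) m).inv.app X ≫
          (F.mapHomologicalComplex (ComplexShape.up ℤ)).map g) m ≫
        (hIsoF F m).inv.app I ≫
          (DerivedCategory.homologyFunctor A' m).map ((unit' F).app ((HomotopyCategory.quotient A _).obj I)) := by
  have h3 := (hIsoF F m).inv.naturality g
  have h4 : (pKh F).map ((HomotopyCategory.quotient A _).map g) ≫
      (unit' F).app ((HomotopyCategory.quotient A _).obj I) = (unit' F).app ((sq A m).obj X) ≫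
        (DerAdj.RFun F).map (DerivedCategory.Qh.map ((HomotopyCategory.quotient A _).map g)) :=
    (unit' F).naturality _
  simp only [Functor.comp_map] at h3
  simp only [classOf, Category.assoc]
  rw [← Functor.map_comp, ← h4, Functor.map_comp, homologyMap_comp_assoc]
  exact congrArg (_ ≫ ·) (congrArg (_ ≫ ·) ((reassoc_of% h3) _).symm)

end Main

end RFRep

open RFRep in
/-- The local representatives of `RF`. -/
noncomputable def PushData.lRep {G : Gen J A'} {F : A ⥤ A'} [F.Additive] [HasDerivedCategory.{w} A]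
    [HasDerivedCategory.{w'} A'] (Φ : PushData G F)
    [(F.mapHomotopyCategory (ComplexShape.up ℤ) ⋙ DerivedCategory.Qh).HasRightDerivedFunctor
      (HomotopyCategory.quasiIso A (ComplexShape.up ℤ))]
    [(DerAdj.RFun F).PreservesZeroMorphisms]
    (hKinj : ∀ K : CochainComplex A ℤ, ∃ (I : CochainComplex A ℤ) (f : K ⟶ I), I.IsKInjective ∧ QuasiIso f) :
    LRep G (DerAdj.RFun F) where
  Q := Φ.Q
  σ W _ m x := Φ.a.app W ≫ classOf F m (Φ.Q.obj W) ≫
    (DerivedCategory.homologyFunctor A' m).map ((DerAdj.RFun F).map (under' m x))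
  σ_comp W _ _ m x g := by simp [under'_comp, Functor.map_comp]
  σ_res {V W} f Y m x := by
    have h := Φ.a.naturality f
    simp only [Functor.comp_map] at h
    rw [under'_comp_left, Functor.map_comp, Functor.map_comp, ← Category.assoc (classOf F m _),
      ← classOf_naturality, reassoc_of% h, Category.assoc]
  σ_zero W Y m := by simp [under', unshift]
  lift {W Y m} s := by
    obtain ⟨K, ⟨e⟩⟩ : ∃ K, Nonempty (DerivedCategory.Q.obj K ≅ Y) := ⟨_, ⟨DerivedCategory.Q.objObjPreimageIso Y⟩⟩
    obtain ⟨I, f, hI, hf⟩ := hKinj K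
    haveI := hI
    haveI := hf
    let e' : DerivedCategory.Qh.obj ((HomotopyCategory.quotient A _).obj I) ≅ Y :=
      (DerivedCategory.quotientCompQhIso A).app I ≪≫ (asIso (DerivedCategory.Q.map f)).symm ≪≫ e
    haveI := TriH.hasPointwiseRightDerivedFunctor_of_bijective (L := DerivedCategory.Qh)
      (W := HomotopyCategory.quasiIso A (ComplexShape.up ℤ)) (TriH.exists_kInjective_homotopy hKinj) (pKh F)
    haveI hu : IsIso ((unit' F).app ((HomotopyCategory.quotient A _).obj I)) :=
      TriH.isIso_unit_of_bijective (W := HomotopyCategory.quasiIso A (ComplexShape.up ℤ)) (pKh F) (DerAdj.RFun F)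
        (unit' F) _ (fun X => ObjectProperty.rightOrthogonal.map_bijective_of_isTriangulated
          (CochainComplex.IsKInjective.rightOrthogonal I) _ _)
    let M := (F.mapHomologicalComplex (ComplexShape.up ℤ)).obj I
    let ε : M.homology m ⟶ (DerivedCategory.homologyFunctor A' m).obj ((DerAdj.RFun F).obj Y) :=
      (hIsoF F m).inv.app I ≫
        (DerivedCategory.homologyFunctor A' m).map ((unit' F).app ((HomotopyCategory.quotient A _).obj I)) ≫
        (DerivedCategory.homologyFunctor A' m).map ((DerAdj.RFun F).map e'.hom)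
    haveI : IsIso ε := IsIso.comp_isIso' (((hIsoF F m).app I).symm.isIso_hom)
      (IsIso.comp_isIso' inferInstance inferInstance)
    obtain ⟨S, hS, hS'⟩ := G.lift (M.homologyπ m) inferInstance (s ≫ inv ε)
    refine ⟨S, hS, fun V k hk => ?_⟩
    obtain ⟨ψ, hψ⟩ := hS' k hk
    obtain ⟨z, hz⟩ := (Φ.bij V (I.X m)).2 (ψ ≫ M.iCycles m)
    change Φ.a.app V ≫ F.map z = ψ ≫ M.iCycles m at hz
    have hzd : ∀ j, (ComplexShape.up ℤ).Rel m j → z ≫ I.d m j = 0 := fun j _ => (Φ.bij V (I.X j)).1 (by
      change Φ.a.app V ≫ F.map (z ≫ I.d m j) = Φ.a.app V ≫ F.map 0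
      rw [Functor.map_comp, reassoc_of% hz, F.map_zero, comp_zero]
      exact (Category.assoc _ _ _).trans ((congrArg (ψ ≫ ·) (M.iCycles_d m j)).trans comp_zero))
    let g := mkHomFromSingle z hzd
    obtain ⟨x, hx⟩ := (under'_bijective m).2
      (DerivedCategory.Qh.map ((HomotopyCategory.quotient A _).map g) ≫ e'.hom)
    refine ⟨x, ?_⟩
    rw [hx, Functor.map_comp, Functor.map_comp, ← Category.assoc (classOf F m _), classOf_map]
    have hcyc : Φ.a.app V ≫ (singleObjCyclesSelfIso (ComplexShape.up ℤ) m (F.obj (Φ.Q.obj V))).inv ≫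
        cyclesMap ((singleMapHomologicalComplex F (ComplexShape.up ℤ) m).inv.app (Φ.Q.obj V) ≫
          (F.mapHomologicalComplex (ComplexShape.up ℤ)).map g) m = ψ := by
      rw [← cancel_mono (M.iCycles m), ← hz]
      simp only [Category.assoc]
      refine congrArg (_ ≫ ·) ?_
      refine (cyclesMap_single F g).trans ?_
      simp [g]
    rw [← singleObjCyclesSelfIso_inv_homologyπ]
    simp only [Category.assoc]
    rw [homologyπ_naturality_assoc, reassoc_of% hcyc, reassoc_of% hψ]
    simp [ε]
  locally_zero {W Y m} x hx := by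
    obtain ⟨K, ⟨e⟩⟩ : ∃ K, Nonempty (DerivedCategory.Q.obj K ≅ Y) := ⟨_, ⟨DerivedCategory.Q.objObjPreimageIso Y⟩⟩
    obtain ⟨I, f, hI, hf⟩ := hKinj K
    haveI := hI
    haveI := hf
    let e' : DerivedCategory.Qh.obj ((HomotopyCategory.quotient A _).obj I) ≅ Y :=
      (DerivedCategory.quotientCompQhIso A).app I ≪≫ (asIso (DerivedCategory.Q.map f)).symm ≪≫ e
    haveI := TriH.hasPointwiseRightDerivedFunctor_of_bijective (L := DerivedCategory.Qh)
      (W := HomotopyCategory.quasiIso A (ComplexShape.up ℤ)) (TriH.exists_kInjective_homotopy hKinj) (pKh F)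
    haveI hu : IsIso ((unit' F).app ((HomotopyCategory.quotient A _).obj I)) :=
      TriH.isIso_unit_of_bijective (W := HomotopyCategory.quasiIso A (ComplexShape.up ℤ)) (pKh F) (DerAdj.RFun F)
        (unit' F) _ (fun X => ObjectProperty.rightOrthogonal.map_bijective_of_isTriangulated
          (CochainComplex.IsKInjective.rightOrthogonal I) _ _)
    let M := (F.mapHomologicalComplex (ComplexShape.up ℤ)).obj I
    let ε : M.homology m ⟶ (DerivedCategory.homologyFunctor A' m).obj ((DerAdj.RFun F).obj Y) :=
      (hIsoF F m).inv.app I ≫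
        (DerivedCategory.homologyFunctor A' m).map ((unit' F).app ((HomotopyCategory.quotient A _).obj I)) ≫
        (DerivedCategory.homologyFunctor A' m).map ((DerAdj.RFun F).map e'.hom)
    haveI : IsIso ε := IsIso.comp_isIso' (((hIsoF F m).app I).symm.isIso_hom)
      (IsIso.comp_isIso' inferInstance inferInstance)
    obtain ⟨γ, hγ⟩ := (ObjectProperty.rightOrthogonal.map_bijective_of_isTriangulated
      (CochainComplex.IsKInjective.rightOrthogonal I) DerivedCategory.Qh ((sq A m).obj (Φ.Q.obj W))).2
      (under' m x ≫ e'.inv)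
    obtain ⟨g, rfl⟩ := (HomotopyCategory.quotient A _).map_surjective γ
    have hg : DerivedCategory.Qh.map ((HomotopyCategory.quotient A _).map g) ≫ e'.hom = under' m x := by
      rw [hγ, Category.assoc, Iso.inv_hom_id, Category.comp_id]
    let c : G.P.obj W ⟶ M.cycles m :=
      Φ.a.app W ≫ (singleObjCyclesSelfIso (ComplexShape.up ℤ) m (F.obj (Φ.Q.obj W))).inv ≫
        cyclesMap ((singleMapHomologicalComplex F (ComplexShape.up ℤ) m).inv.app (Φ.Q.obj W) ≫
          (F.mapHomologicalComplex (ComplexShape.up ℤ)).map g) m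
    have hc : c ≫ M.homologyπ m = 0 := by
      rw [← cancel_mono ε, zero_comp, ← hx, ← hg, Functor.map_comp, Functor.map_comp,
        ← Category.assoc (classOf F m _), classOf_map, ← singleObjCyclesSelfIso_inv_homologyπ]
      simp only [c, ε, Category.assoc]
      rw [homologyπ_naturality_assoc]
    let Sc := ShortComplex.mk (M.toCycles (m - 1) m) (M.homologyπ m) (M.toCycles_comp_homologyπ _ _)
    have hSc : Sc.Exact := ShortComplex.exact_of_g_is_cokernel _ (M.homologyIsCokernel (m - 1) m (by simp))
    haveI := hSc.epi_kernelLift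
    obtain ⟨T, hT, hT'⟩ := G.lift (kernel.lift Sc.g Sc.f Sc.zero) inferInstance (kernel.lift Sc.g c hc)
    refine ⟨T, hT, fun V k hk => ?_⟩
    obtain ⟨ψ, hψ⟩ := hT' k hk
    have hψ' : ψ ≫ M.toCycles (m - 1) m = G.P.map k ≫ c := by
      have := congrArg (· ≫ kernel.ι Sc.g) hψ
      simpa using this
    obtain ⟨z, hz⟩ := (Φ.bij V (I.X (m - 1))).2 ψ
    change Φ.a.app V ≫ F.map z = ψ at hz
    let g' := (HomologicalComplex.single A (ComplexShape.up ℤ) m).map (Φ.Q.map k) ≫ g
    have hz' : z ≫ I.d (m - 1) m = Φ.Q.map k ≫ (singleObjXSelf (ComplexShape.up ℤ) m (Φ.Q.obj W)).inv ≫ g.f m := by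
      refine (Φ.bij V (I.X m)).1 ?_
      change Φ.a.app V ≫ F.map _ = Φ.a.app V ≫ F.map _
      have hn := Φ.a.naturality k
      simp only [Functor.comp_map] at hn
      rw [F.map_comp z, F.map_comp (Φ.Q.map k), reassoc_of% hz, ← reassoc_of% hn, ← cyclesMap_single F g]
      change ψ ≫ M.d (m - 1) m = _
      rw [← M.toCycles_i (m - 1) m, reassoc_of% hψ']
      simp only [c, Category.assoc]
      rfl
    have hnull : (HomotopyCategory.quotient A (ComplexShape.up ℤ)).map g' = 0 := by
      let h : ∀ i j, (ComplexShape.up ℤ).Rel j i →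
          (((HomologicalComplex.single A (ComplexShape.up ℤ) m).obj (Φ.Q.obj V)).X i ⟶ I.X j) := fun i j r =>
        if hi : i = m then eqToHom (by rw [hi]) ≫ (singleObjXSelf (ComplexShape.up ℤ) m (Φ.Q.obj V)).hom ≫ z ≫
          eqToHom (by simp at r; rw [show m - 1 = j by omega]) else 0
      have : g' = Homotopy.nullHomotopicMap' h := by
        refine from_single_hom_ext ?_
        rw [Homotopy.nullHomotopicMap'_f (k₂ := m - 1) (k₁ := m) (k₀ := m + 1) (by simp) (by simp)]
        simp only [g', comp_f, single_map_f_self, h]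
        rw [dif_pos trivial]
        simp [hz']
      rw [this, HomotopyCategory.eq_of_homotopy _ _ (Homotopy.nullHomotopy' h), Functor.map_zero]
    refine (under'_bijective m).1 ?_
    rw [under'_comp_left, ← hg, ← Category.assoc, ← Functor.map_comp]
    change DerivedCategory.Qh.map ((HomotopyCategory.quotient A _).map _ ≫ _) ≫ _ = _
    rw [← Functor.map_comp, hnull, Functor.map_zero, zero_comp]
    simp [under', unshift]

end Groth.Agent.RlimLib
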