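import Groth.Agent.RlimLib.Compute

/-!
# Cohomology objects of derived limits
-/

set_option autoImplicit false
set_option linter.style.haveILetI false

universe w w' v u u'

open CategoryTheory CategoryTheory.Limits CategoryTheory.Pretriangulated DerivedCategory Abelian Opposite

namespace Groth.Agent.RlimLib

/-- `R¹lim = 0` moves along natural additive bijections. -/
lemma LimOne.of_bijective {T : Type u} [Category.{v} T] [Preadditive T] {T' : Type u'} [Category.{w} T'] [Preadditive T']
    {X : T} {M : ℕ → T} {s : ∀ n, M (n + 1) ⟶ M n} {X' : T'} {M' : ℕ → T'} {s' : ∀ n, M' (n + 1) ⟶ M' n}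
    (φ : ∀ n, (X ⟶ M n) → (X' ⟶ M' n)) (hφ : ∀ n, Function.Bijective (φ n))
    (hadd : ∀ n x y, φ n (x + y) = φ n x + φ n y) (hcomp : ∀ n x, φ (n) (x ≫ s n) = φ (n + 1) x ≫ s' n)
    (h : LimOne (X := X') M' s') : LimOne (X := X) M s := by
  intro b
  obtain ⟨c, hc⟩ := h fun n => φ n (b n)
  choose d hd using fun n => (hφ n).2 (c n)
  have hsub : ∀ n x y, φ n (x - y) = φ n x - φ n y := fun n x y => by
    rw [eq_sub_iff_add_eq, ← hadd, sub_add_cancel]
  exact ⟨d, fun n => (hφ n).1 (by rw [hsub, hcomp, hd, hd, hc])⟩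

namespace Gen

variable {C : Type u'} [Category.{u} C] {J : GrothendieckTopology C} {A : Type (u + 1)} [Category.{u} A] [Abelian A]
  [HasDerivedCategory.{w} A] (G : Gen J A)
  {K : ℕ → DerivedCategory A} {t : ∀ n, K (n + 1) ⟶ K n} [HasProduct K] {L : DerivedCategory A}
  {a : ∀ n, L ⟶ K n} (B : C → Prop)
  (hb : ∀ V, B V → ∀ (m : ℤ) (n : ℕ), Function.Bijective (G.toH V (K n) m))
  (hlim : ∀ V, B V → ∀ m : ℤ,
    LimOne (X := G.P.obj V) (fun n => (homologyFunctor A m).obj (K n)) fun n => (homologyFunctor A m).map (t n))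

include hb hlim in
lemma eq_zero_of_toH (h : CohCx.IsRlimVia K t L a) {V : C} (hV : B V) (m : ℤ) (x : G.SP V ⟶ L⟦m⟧)
    (hx : ∀ n, G.toH V L m x ≫ (homologyFunctor A m).map (a n) = 0) : x = 0 :=
  IsRlimVia.eq_zero_shift h m
    (LimOne.of_bijective (fun n => G.toH V (K n) (m - 1)) (fun n => hb V hV _ n) (fun n => G.toH_add _)
      (fun n x => G.toH_comp _ x (t n)) (hlim V hV (m - 1)))
    x fun n => (hb V hV m n).1 (by rw [toH_comp, hx, toH_zero])

include hb hlim in
/-- The cohomology of the derived limit is detected by the cohomology of the system. -/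
lemma eq_zero_of_map (h : CohCx.IsRlimVia K t L a) (hB : Covers J B) (U : C) (m : ℤ)
    (s : G.P.obj U ⟶ (homologyFunctor A m).obj L)
    (hs : ∀ n, s ≫ (homologyFunctor A m).map (a n) = 0) : s = 0 := by
  obtain ⟨S, hS, hS'⟩ := G.toH_lift m s
  refine G.sep s S hS fun V f hf => ?_
  obtain ⟨x, hx⟩ := hS' f hf
  rw [← hx]
  obtain ⟨R, hR, hR'⟩ := hB V
  refine G.sep _ R hR fun W g hg => ?_
  obtain ⟨W', p, q, hW', rfl⟩ := hR' g hg
  have h0 : G.res q ≫ x = 0 := G.eq_zero_of_toH B hb hlim h hW' m _ fun n => by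
    rw [toH_res, hx, Category.assoc, Category.assoc, hs n, comp_zero, comp_zero]
  rw [Functor.map_comp, Category.assoc, ← toH_res, h0, toH_zero, comp_zero]

variable (a) in
/-- The cone given by the cohomology of a cone over a system. -/
noncomputable def hCone (h : ∀ n, a (n + 1) ≫ t n = a n) (m : ℤ) :
    Cone (CohCx.opSequence (fun n => (homologyFunctor A m).obj (K n)) fun n => (homologyFunctor A m).map (t n)) where
  pt := (homologyFunctor A m).obj L
  π := NatTrans.ofOpSequence (fun n => (homologyFunctor A m).map (a n)) fun n => by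
    refine (Category.id_comp _).trans ?_
    rw [← h n, Functor.map_comp]
    exact congrArg ((homologyFunctor A m).map (a (n + 1)) ≫ ·)
      (Functor.ofOpSequence_map_homOfLE_succ (X := fun i => (homologyFunctor A m).obj (K i))
        (fun i => (homologyFunctor A m).map (t i)) n).symm

include hb hlim in
/-- The cohomology of the derived limit is the limit of the cohomology. -/
theorem isIso_lift [HasLimitsOfShape ℕᵒᵖ A] (h : CohCx.IsRlimVia K t L a) (hB : Covers J B) (m : ℤ) :
    IsIso (limit.lift _ (hCone a (fun n => IsRlimVia.compat h n) m)) := by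
  let F := CohCx.opSequence (fun n => (homologyFunctor A m).obj (K n)) fun n => (homologyFunctor A m).map (t n)
  let θ : (homologyFunctor A m).obj L ⟶ limit F := limit.lift F (hCone a (fun n => IsRlimVia.compat h n) m)
  have hθ : ∀ n, θ ≫ limit.π F (op n) = (homologyFunctor A m).map (a n) := fun n => limit.lift_π _ _
  refine G.isIso_of_bijective θ B hB fun U hU => ⟨fun s s' hss => ?_, fun φ => ?_⟩
  · rw [← sub_eq_zero]
    refine G.eq_zero_of_map B hb hlim h hB U m _ fun n => ?_
    change s ≫ θ = s' ≫ θ at hss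
    rw [Preadditive.sub_comp, sub_eq_zero, ← hθ]
    exact (Category.assoc _ _ _).symm.trans ((congrArg (· ≫ _) hss).trans (Category.assoc _ _ _))
  · choose x hx using fun n => (hb U hU m n).2 (φ ≫ limit.π F (op n))
    obtain ⟨y, hy⟩ := IsRlimVia.exists_lift_shift h m x fun n => (hb U hU m n).1 (by
      rw [toH_comp, hx, hx, Category.assoc]
      refine congrArg (φ ≫ ·) ?_
      exact (congrArg (limit.π F _ ≫ ·) (Functor.ofOpSequence_map_homOfLE_succ (X := fun i => (homologyFunctor A m).obj (K i))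
        (fun i => (homologyFunctor A m).map (t i)) n).symm).trans (limit.w F _))
    refine ⟨G.toH U L m y, limit.hom_ext fun ⟨n⟩ => ?_⟩
    change (G.toH U L m y ≫ θ) ≫ limit.π F (op n) = φ ≫ limit.π F (op n)
    exact (Category.assoc _ _ _).trans ((congrArg (_ ≫ ·) (hθ n)).trans
      ((G.toH_comp m y (a n)).symm.trans ((congrArg (G.toH U (K n) m) (hy n)).trans (hx n))))

include hb hlim in
/-- Maps from `G.SP U` to the derived limit, for `U` in `B`. -/
theorem toH_bijective_rlim (h : CohCx.IsRlimVia K t L a) (hB : Covers J B) {U : C} (hU : B U) (m : ℤ) :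
    Function.Bijective (G.toH U L m) := by
  refine ⟨fun x y hxy => ?_, fun φ => ?_⟩
  · rw [← sub_eq_zero]
    refine G.eq_zero_of_toH B hb hlim h hU m _ fun n => ?_
    rw [← toH_comp, Preadditive.sub_comp]
    have h1 : G.toH U (K n) m (x ≫ (a n)⟦m⟧') = G.toH U (K n) m (y ≫ (a n)⟦m⟧') := by
      rw [toH_comp, toH_comp, hxy]
    rw [(hb U hU m n).1 h1, sub_self, toH_zero]
  · choose x hx using fun n => (hb U hU m n).2 (φ ≫ (homologyFunctor A m).map (a n))
    obtain ⟨y, hy⟩ := IsRlimVia.exists_lift_shift h m x fun n => (hb U hU m n).1 (by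
      rw [toH_comp, hx, hx, Category.assoc, ← Functor.map_comp, IsRlimVia.compat h])
    refine ⟨y, sub_eq_zero.1 (G.eq_zero_of_map B hb hlim h hB U m _ fun n => ?_)⟩
    rw [Preadditive.sub_comp, ← toH_comp, hy, hx, sub_self]

end Gen

end Groth.Agent.RlimLib
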