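import Mathlib

/-!
# Cohomology of the limit of a tower of complexes of abelian groups
-/

set_option autoImplicit false

universe u

open CategoryTheory CategoryTheory.Limits Opposite

namespace Groth.Agent.RlimLib.TowerAb

variable {K L : CochainComplex AddCommGrpCat.{u} ℤ}

lemma exists_cycle (i j : ℤ) (hij : i + 1 = j) (x : K.X i) (hx : K.d i j x = 0) :
    ∃ z : K.cycles i, K.iCycles i z = x :=
  (ShortComplex.ab_exact_iff (ShortComplex.mk (K.iCycles i) (K.d i j) (K.iCycles_d i j))).1
    (ShortComplex.exact_of_f_is_kernel _ (K.cyclesIsKernel i j ((ComplexShape.up ℤ).next_eq' hij))) x hx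

lemma homologyπ_surjective (i : ℤ) : Function.Surjective (K.homologyπ i) :=
  (AddCommGrpCat.epi_iff_surjective _).1 inferInstance

lemma iCycles_injective (i : ℤ) : Function.Injective (K.iCycles i) :=
  (AddCommGrpCat.mono_iff_injective _).1 inferInstance

lemma homologyπ_eq_zero_iff (i j : ℤ) (hij : i + 1 = j) (z : K.cycles j) :
    K.homologyπ j z = 0 ↔ ∃ y : K.X i, K.d i j y = K.iCycles j z := by
  constructor
  · intro h
    obtain ⟨y, hy⟩ := (ShortComplex.ab_exact_iff
      (ShortComplex.mk (K.toCycles i j) (K.homologyπ j) (K.toCycles_comp_homologyπ i j))).1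
      (ShortComplex.exact_of_g_is_cokernel _ (K.homologyIsCokernel i j ((ComplexShape.up ℤ).prev_eq' hij))) z h
    refine ⟨y, ?_⟩
    rw [← K.toCycles_i i j]
    exact congrArg (K.iCycles j) hy
  · rintro ⟨y, hy⟩
    have hz : K.toCycles i j y = z := iCycles_injective j (by
      rw [← hy, ← K.toCycles_i i j]; rfl)
    rw [← hz]
    exact ConcreteCategory.congr_hom (K.toCycles_comp_homologyπ i j) y

lemma iCycles_map (φ : K ⟶ L) (i : ℤ) (z : K.cycles i) :
    L.iCycles i (HomologicalComplex.cyclesMap φ i z) = φ.f i (K.iCycles i z) :=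
  ConcreteCategory.congr_hom (HomologicalComplex.cyclesMap_i φ i) z

lemma homologyπ_map (φ : K ⟶ L) (i : ℤ) (z : K.cycles i) :
    HomologicalComplex.homologyMap φ i (K.homologyπ i z) = L.homologyπ i (HomologicalComplex.cyclesMap φ i z) :=
  ConcreteCategory.congr_hom (HomologicalComplex.homologyπ_naturality φ i) z

lemma iCycles_d_apply (i j : ℤ) (z : K.cycles i) : K.d i j (K.iCycles i z) = 0 :=
  ConcreteCategory.congr_hom (K.iCycles_d i j) z

lemma d_d_apply (i j k : ℤ) (x : K.X i) : K.d j k (K.d i j x) = 0 :=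
  ConcreteCategory.congr_hom (K.d_comp_d i j k) x

lemma comm_apply (φ : K ⟶ L) (i j : ℤ) (x : K.X i) : L.d i j (φ.f i x) = φ.f j (K.d i j x) :=
  ConcreteCategory.congr_hom (φ.comm i j) x

variable (G : ℕᵒᵖ ⥤ CochainComplex AddCommGrpCat.{u} ℤ)

/-- The transition maps. -/
abbrev τ (n : ℕ) : G.obj (op (n + 1)) ⟶ G.obj (op n) := G.map (homOfLE n.le_succ).op

lemma map_eq {a b : ℕ} (h : a ≤ b) (q : ℤ) (x : ∀ n, (G.obj (op n)).X q)
    (hx : ∀ n, (τ G n).f q (x (n + 1)) = x n) : (G.map (homOfLE h).op).f q (x b) = x a := by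
  induction b, h using Nat.le_induction with
  | base =>
    rw [show (homOfLE (le_refl a)).op = 𝟙 (op a) from rfl, G.map_id]
    rfl
  | succ b hab ih =>
    have e : (homOfLE (hab.trans b.le_succ)).op = (homOfLE b.le_succ).op ≫ (homOfLE hab).op := rfl
    rw [e, G.map_comp, HomologicalComplex.comp_f]
    change (G.map (homOfLE hab).op).f q ((τ G b).f q (x (b + 1))) = _
    rw [hx, ih]

variable {G}

theorem isIso_homologyMap_π {L : CochainComplex AddCommGrpCat.{u} ℤ} (π : ∀ n, L ⟶ G.obj (op n))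
    (hπ : ∀ (a b : ℕ) (h : a ≤ b), π b ≫ G.map (homOfLE h).op = π a) (i₀ i j : ℤ) (hi₀ : i₀ + 1 = i) (hij : i + 1 = j) (n₀ : ℕ)
    (hext : ∀ (q : ℤ) (x y : L.X q), (∀ n, (π n).f q x = (π n).f q y) → x = y)
    (hexi : ∀ (q : ℤ) (x : ∀ n, (G.obj (op n)).X q), (∀ n, (τ G n).f q (x (n + 1)) = x n) →
      ∃ y : L.X q, ∀ n, (π n).f q y = x n)
    (h₀ : ∀ b : ∀ n, (G.obj (op n)).X i₀, ∃ a : ∀ n, (G.obj (op n)).X i₀,
      ∀ n, a n - (τ G n).f i₀ (a (n + 1)) = b n)
    (h₁ : ∀ b : ∀ n, (G.obj (op n)).X i, ∃ a : ∀ n, (G.obj (op n)).X i,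
      ∀ n, a n - (τ G n).f i (a (n + 1)) = b n)
    (h₂ : ∀ b : ∀ n, (G.obj (op n)).homology i, ∃ a : ∀ n, (G.obj (op n)).homology i,
      ∀ n, a n - HomologicalComplex.homologyMap (τ G n) i (a (n + 1)) = b n)
    (hiso : ∀ (n : ℕ) (h : n₀ ≤ n), IsIso (HomologicalComplex.homologyMap (G.map (homOfLE h).op) j)) :
    IsIso (HomologicalComplex.homologyMap (π n₀) j) := by
  have hπτ : ∀ (q : ℤ) (x : L.X q) (n : ℕ),
      (τ G n).f q ((π (n + 1)).f q x) = (π n).f q x := fun q x n =>
    ConcreteCategory.congr_hom (congrArg (fun f => HomologicalComplex.Hom.f f q) (hπ n (n + 1) n.le_succ)) x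
  let P : ℕᵒᵖ ⥤ AddCommGrpCat.{u} := G ⋙ HomologicalComplex.homologyFunctor _ _ j
  haveI hP : ∀ (n : ℕ) (h : n₀ ≤ n), IsIso (P.map (homOfLE h).op) := hiso
  rw [ConcreteCategory.isIso_iff_bijective]
  constructor
  · rw [injective_iff_map_eq_zero]
    intro x hx
    obtain ⟨z, rfl⟩ := homologyπ_surjective j x
    rw [homologyπ_map] at hx
    have hbd : ∀ n, (G.obj (op n)).homologyπ j (HomologicalComplex.cyclesMap (π n) j z) = 0 := by
      intro n
      rw [← homologyπ_map]
      have hm : HomologicalComplex.homologyMap (π (max n n₀)) j (L.homologyπ j z) = 0 := by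
        refine (ConcreteCategory.isIso_iff_bijective (P.map (homOfLE (le_max_right n n₀)).op)).1 inferInstance |>.1 ?_
        refine Eq.trans ?_ (AddMonoidHom.map_zero _).symm
        refine Eq.trans ?_ ((homologyπ_map _ _ _).trans hx)
        rw [← hπ n₀ _ (le_max_right n n₀), HomologicalComplex.homologyMap_comp]
        rfl
      rw [← hπ n _ (le_max_left n n₀), HomologicalComplex.homologyMap_comp, ConcreteCategory.comp_apply, hm,
        map_zero]
    choose y hy using fun n => (homologyπ_eq_zero_iff i j hij _).1 (hbd n)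
    simp only [iCycles_map] at hy
    have he : ∀ n, (G.obj (op n)).d i j (y n - (τ G n).f i (y (n + 1))) = 0 := fun n => by
      rw [map_sub, hy, comm_apply, hy, hπτ, sub_self]
    choose e hee using fun n => exists_cycle i j hij _ (he n)
    obtain ⟨a, ha⟩ := h₂ fun n => -(G.obj (op n)).homologyπ i (e n)
    choose w hw using fun n => homologyπ_surjective i (a n)
    have hu : ∀ n, ∃ u' : (G.obj (op n)).X i₀, (G.obj (op n)).d i₀ i u' =
        (y n + (G.obj (op n)).iCycles i (w n)) -
          (τ G n).f i (y (n + 1) + (G.obj (op (n + 1))).iCycles i (w (n + 1))) := by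
      intro n
      obtain ⟨u', hu'⟩ := (homologyπ_eq_zero_iff i₀ i hi₀
        (e n + (w n - HomologicalComplex.cyclesMap (τ G n) i (w (n + 1))))).1 (by
          rw [map_add, map_sub, ← homologyπ_map, hw, hw, ha, add_neg_cancel])
      refine ⟨u', hu'.trans ?_⟩
      rw [map_add, map_sub, iCycles_map, hee, map_add]
      abel
    choose u' hu' using hu
    obtain ⟨v, hv⟩ := h₀ u'
    obtain ⟨Y, hY⟩ := hexi i (fun n => y n + (G.obj (op n)).iCycles i (w n) - (G.obj (op n)).d i₀ i (v n))
      (fun n => by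
        have h1 := hu' n
        rw [← hv n, map_sub, comm_apply] at h1
        rw [map_sub]
        rw [sub_eq_sub_iff_add_eq_add] at h1 ⊢
        rw [add_comm, ← h1, add_comm])
    refine (homologyπ_eq_zero_iff i j hij z).2 ⟨Y, hext j _ _ fun n => ?_⟩
    rw [← comm_apply, hY, map_sub, map_add, hy, iCycles_d_apply, d_d_apply, add_zero, sub_zero]
  · intro x₀
    let M : ℕ → ℕ := fun n => max n n₀
    let h : ∀ n, (G.obj (op n)).homology j := fun n =>
      P.map (homOfLE (le_max_left n n₀)).op (inv (P.map (homOfLE (le_max_right n n₀)).op) x₀)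
    have hh : ∀ n, P.map (homOfLE n.le_succ).op (h (n + 1)) = h n := by
      intro n
      have hab : max n n₀ ≤ max (n + 1) n₀ := max_le_max n.le_succ le_rfl
      have e1 : inv (P.map (homOfLE (le_max_right (n + 1) n₀)).op) ≫ P.map (homOfLE hab).op =
          inv (P.map (homOfLE (le_max_right n n₀)).op) := by
        rw [IsIso.inv_comp_eq, IsIso.eq_comp_inv, ← P.map_comp]
        rfl
      have e2 : P.map (homOfLE (le_max_left (n + 1) n₀)).op ≫ P.map (homOfLE n.le_succ).op =
          P.map (homOfLE hab).op ≫ P.map (homOfLE (le_max_left n n₀)).op := by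
        rw [← P.map_comp, ← P.map_comp]
        rfl
      refine (ConcreteCategory.congr_hom e2 _).trans ?_
      exact congrArg (P.map (homOfLE (le_max_left n n₀)).op) (ConcreteCategory.congr_hom e1 x₀)
    choose z hz using fun n => homologyπ_surjective j (h n)
    have hd : ∀ n, ∃ y : (G.obj (op n)).X i, (G.obj (op n)).d i j y =
        (τ G n).f j ((G.obj (op (n + 1))).iCycles j (z (n + 1))) - (G.obj (op n)).iCycles j (z n) := by
      intro n
      obtain ⟨y, hy⟩ := (homologyπ_eq_zero_iff i j hij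
        (HomologicalComplex.cyclesMap (τ G n) j (z (n + 1)) - z n)).1 (by
          rw [map_sub, ← homologyπ_map, hz, hz, sub_eq_zero]
          exact hh n)
      exact ⟨y, hy.trans (by rw [map_sub, iCycles_map])⟩
    choose y hy using hd
    obtain ⟨w, hw⟩ := h₁ y
    obtain ⟨Z, hZ⟩ := hexi j (fun n => (G.obj (op n)).iCycles j (z n) + (G.obj (op n)).d i j (w n)) (fun n => by
      have h1 := hy n
      rw [← hw n, map_sub, comm_apply] at h1
      rw [map_add]
      rw [sub_eq_sub_iff_add_eq_add] at h1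
      rw [← h1, add_comm])
    obtain ⟨ζ, hζ⟩ := exists_cycle j (j + 1) rfl Z (hext _ _ _ fun n => by
      rw [← comm_apply, hZ, map_add, iCycles_d_apply, d_d_apply, add_zero, map_zero])
    refine ⟨L.homologyπ j ζ, ?_⟩
    rw [homologyπ_map]
    have : h n₀ = x₀ := by
      exact ConcreteCategory.congr_hom (IsIso.inv_hom_id (P.map (homOfLE (le_max_right n₀ n₀)).op)) x₀
    rw [← this, ← hz n₀, ← sub_eq_zero, ← map_sub]
    refine (homologyπ_eq_zero_iff i j hij _).2 ⟨w n₀, ?_⟩
    rw [map_sub, iCycles_map, hζ, hZ]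
    abel

end Groth.Agent.RlimLib.TowerAb
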