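import Groth.Prelude.Def_CohCx
import Groth.Agent.RlimLib.TowerAb

/-!
# Cohomology sheaves of the limit of an inverse system of complexes of sheaves
-/

set_option autoImplicit false

universe v u

open CategoryTheory CategoryTheory.Limits Opposite

namespace Groth.Agent.RlimLib

section Map

variable {A B : Type*} [Category A] [Category B] [Abelian A] [Abelian B] (F : A ⥤ B) [F.Additive]
  [F.PreservesHomology]

lemma isIso_homologyMap_map_iff {ι : Type*} {c : ComplexShape ι} {K L : HomologicalComplex A c} (φ : K ⟶ L) (i : ι) :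
    IsIso (HomologicalComplex.homologyMap ((F.mapHomologicalComplex c).map φ) i) ↔
      IsIso (F.map (HomologicalComplex.homologyMap φ i)) := by
  exact NatIso.isIso_map_iff (ShortComplex.homologyFunctorIso F)
    ((HomologicalComplex.shortComplexFunctor A c i).map φ)

end Map

variable {C : Type u} [SmallCategory C] {J : GrothendieckTopology C}

/-- A map of complexes of sheaves inducing isomorphisms on the cohomology of sections over a covering class
of objects induces isomorphisms on cohomology sheaves. -/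
lemma isIso_homologyMap_of_sections {K L : CochainComplex (Sheaf J AddCommGrpCat.{u}) ℤ} (φ : K ⟶ L) (m : ℤ)
    (B : Set C)
    (hB : ∀ U : C, ∃ (ι : Type u) (Y : ι → C) (f : ∀ i, Y i ⟶ U), Sieve.ofArrows Y f ∈ J U ∧ ∀ i, Y i ∈ B)
    (h : ∀ U ∈ B, IsIso (HomologicalComplex.homologyMap ((CohCx.sectCx J U).map φ) m)) :
    IsIso (HomologicalComplex.homologyMap φ m) := by
  let S := sheafToPresheaf J AddCommGrpCat.{u}
  let ψ := (S.mapHomologicalComplex (ComplexShape.up ℤ)).map φ
  let p := HomologicalComplex.homologyMap ψ m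
  have hp : ∀ U ∈ B, IsIso (p.app (op U)) := fun U hU =>
    (isIso_homologyMap_map_iff ((evaluation Cᵒᵖ AddCommGrpCat.{u}).obj (op U)) ψ m).1 (h U hU)
  haveI : Presheaf.IsLocallyInjective J p := ⟨fun {X} x y hxy => by
    obtain ⟨ι, T, f, hf, hY⟩ := hB X.unop
    refine J.superset_covering ?_ hf
    rintro V g ⟨W, a, b, ⟨i⟩, rfl⟩
    refine Sieve.downward_closed _ ?_ a
    haveI := hp _ (hY i)
    change _ = _
    refine (ConcreteCategory.isIso_iff_bijective (p.app (op (T i)))).1 inferInstance |>.1 ?_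
    rw [NatTrans.naturality_apply, NatTrans.naturality_apply, hxy]⟩
  haveI : Presheaf.IsLocallySurjective J p := ⟨fun {X} s => by
    obtain ⟨ι, T, f, hf, hY⟩ := hB X
    refine J.superset_covering ?_ hf
    rintro V g ⟨W, a, b, ⟨i⟩, rfl⟩
    refine Sieve.downward_closed _ ?_ a
    haveI := hp _ (hY i)
    exact (ConcreteCategory.isIso_iff_bijective (p.app (op (T i)))).1 inferInstance |>.2 _⟩
  have hW : IsIso ((presheafToSheaf J AddCommGrpCat.{u}).map p) :=
    (GrothendieckTopology.W_iff J p).1 (J.W_of_isLocallyBijective p)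
  have h2 := (isIso_homologyMap_map_iff (presheafToSheaf J AddCommGrpCat.{u}) ψ m).2 hW
  let ε := asIso (sheafificationAdjunction J AddCommGrpCat.{u}).counit
  let e := (NatIso.mapHomologicalComplex ε (ComplexShape.up ℤ)) ≪≫ Functor.mapHomologicalComplexIdIso _ _
  exact (NatIso.isIso_map_iff (Functor.isoWhiskerRight e
    (HomologicalComplex.homologyFunctor _ _ m)) φ).1 h2

/-- Criterion for the cohomology sheaf of a termwise limit of complexes of sheaves. -/
theorem isIso_homologyMap_limit_π (F : ℕ → CochainComplex (Sheaf J AddCommGrpCat.{u}) ℤ)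
    (t : ∀ n, F (n + 1) ⟶ F n) (m : ℤ) (B : Set C)
    (hB : ∀ U : C, ∃ (ι : Type u) (Y : ι → C) (f : ∀ i, Y i ⟶ U), Sieve.ofArrows Y f ∈ J U ∧ ∀ i, Y i ∈ B)
    (n₀ : ℕ)
    (ha : ∀ U ∈ B, ∀ j : ℤ, (j = m - 2 ∨ j = m - 1) →
      CohCx.LimOneIsZero (fun n => ((F n).X j).obj.obj (op U)) (fun n => (((t n).f j).hom.app (op U)).hom))
    (hb : ∀ U ∈ B, CohCx.LimOneIsZero
      (fun n => ((CohCx.sectCx J U).obj (F n)).homology (m - 1))
      (fun n => (HomologicalComplex.homologyMap ((CohCx.sectCx J U).map (t n)) (m - 1)).hom))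
    (hc : ∀ U ∈ B, ∀ k : ℕ, IsIso (HomologicalComplex.homologyMap
      ((CohCx.sectCx J U).map (CohCx.transition F t n₀ k)) m)) :
    IsIso (HomologicalComplex.homologyMap (limit.π (CohCx.opSequence F t) (op n₀)) m) := by
  refine isIso_homologyMap_of_sections _ m B hB fun U hU => ?_
  let D := CohCx.opSequence F t
  let S := CohCx.sectCx J U
  have hτ : ∀ n : ℕ, D.map (homOfLE n.le_succ).op = t n := fun n => Functor.ofOpSequence_map_homOfLE_succ t n
  have hlim : ∀ q : ℤ, IsLimit (((HomologicalComplex.eval _ (ComplexShape.up ℤ) q) ⋙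
      sheafToPresheaf J AddCommGrpCat.{u} ⋙ (evaluation Cᵒᵖ AddCommGrpCat.{u}).obj (op U) ⋙
      forget AddCommGrpCat.{u}).mapCone (limit.cone D)) := fun q => isLimitOfPreserves _ (limit.isLimit D)
  refine TowerAb.isIso_homologyMap_π (G := D ⋙ S) (fun n => S.map (limit.π D (op n)))
    (fun a b h => (S.map_comp _ _).symm.trans (congrArg S.map (limit.w D _)))
    (m - 2) (m - 1) m (by ring) (by ring) n₀ (fun q x y hxy => ?_) (fun q x hx => ?_) ?_ ?_ ?_ (fun n hn => ?_)
  · exact ((Types.isLimit_iff _).1 ⟨hlim q⟩ (fun k => (S.map (limit.π D k)).f q y) (fun g => by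
      exact ConcreteCategory.congr_hom (congrArg (fun f => f.f q)
        ((S.map_comp _ _).symm.trans (congrArg S.map (limit.w D g)))) y)).unique
      (fun k => hxy k.unop) (fun k => rfl)
  · obtain ⟨y, hy, -⟩ := (Types.isLimit_iff _).1 ⟨hlim q⟩ (fun n => x n.unop) (by
      rintro ⟨a⟩ ⟨b⟩ ⟨⟨⟨h⟩⟩⟩
      exact TowerAb.map_eq (D ⋙ S) h q x hx)
    exact ⟨y, fun n => hy (op n)⟩
  · intro b
    obtain ⟨a₀, e⟩ := ha U hU (m - 2) (Or.inl rfl) b
    let a : ∀ n, (S.obj (D.obj (op n))).X (m - 2) := a₀
    exact ⟨a, fun n => by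
      change a n - (S.map (D.map (homOfLE n.le_succ).op)).f (m - 2) (a (n + 1)) = b n
      rw [hτ]
      exact congrFun e n⟩
  · intro b
    obtain ⟨a₀, e⟩ := ha U hU (m - 1) (Or.inr rfl) b
    let a : ∀ n, (S.obj (D.obj (op n))).X (m - 1) := a₀
    exact ⟨a, fun n => by
      change a n - (S.map (D.map (homOfLE n.le_succ).op)).f (m - 1) (a (n + 1)) = b n
      rw [hτ]
      exact congrFun e n⟩
  · intro b
    obtain ⟨a₀, e⟩ := hb U hU b
    let a : ∀ n, (S.obj (D.obj (op n))).homology (m - 1) := a₀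
    exact ⟨a, fun n => by
      change a n - HomologicalComplex.homologyMap (S.map (D.map (homOfLE n.le_succ).op)) (m - 1) (a (n + 1)) = b n
      rw [hτ]
      exact congrFun e n⟩
  · obtain ⟨k, rfl⟩ := Nat.exists_eq_add_of_le hn
    have e : D.map (homOfLE hn).op = CohCx.transition F t n₀ k := by
      clear hlim
      induction k with
      | zero => exact D.map_id _
      | succ k ih =>
        have : (homOfLE hn).op = (homOfLE (n₀ + k).le_succ).op ≫ (homOfLE (n₀.le_add_right k)).op := rfl
        rw [this, D.map_comp, hτ, ih]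
        rfl
    change IsIso (HomologicalComplex.homologyMap (S.map (D.map (homOfLE hn).op)) m)
    rw [e]
    exact hc U hU k

end Groth.Agent.RlimLib
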