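import Groth.Agent.RlimLib.Sheafify
import Groth.Agent.RlimLib.RFRep
import Groth.Agent.RlimLib.RFProdExact
import Groth.Agent.TriH.KInjExist
import Groth.Prelude.Def_CohCx

/-!
# Cohomology sheaves of derived direct images on spaces
-/

set_option autoImplicit false
set_option linter.style.haveILetI false

universe w' u

open CategoryTheory CategoryTheory.Limits Opposite TopologicalSpace

namespace Groth.Agent.RlimLib

/-- The local representatives of `RF` are additive. -/
lemma PushData.lRep_add {C : Type u} [SmallCategory C] {J : GrothendieckTopology C}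
    {A : Type (u + 1)} [Category.{u} A] [Abelian A] {A' : Type (u + 1)} [Category.{u} A'] [Abelian A']
    {G : Gen J A'} {F : A ⥤ A'} [F.Additive] [HasDerivedCategory.{u} A] [HasDerivedCategory.{u} A']
    (Φ : PushData G F)
    [(F.mapHomotopyCategory (ComplexShape.up ℤ) ⋙ DerivedCategory.Qh).HasRightDerivedFunctor
      (HomotopyCategory.quasiIso A (ComplexShape.up ℤ))]
    [(DerAdj.RFun F).Additive]
    (hKinj : ∀ K : CochainComplex A ℤ, ∃ (I : CochainComplex A ℤ) (s : K ⟶ I), I.IsKInjective ∧ QuasiIso s)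
    (U : C) (M : DerivedCategory A) (m : ℤ)
    (x x' : (DerivedCategory.singleFunctor A 0).obj (Φ.Q.obj U) ⟶ M⟦m⟧) :
    (Φ.lRep hKinj).σ U M m (x + x') = (Φ.lRep hKinj).σ U M m x + (Φ.lRep hKinj).σ U M m x' := by
  change Φ.a.app U ≫ RFRep.classOf F m (Φ.Q.obj U) ≫ (DerivedCategory.homologyFunctor A' m).map
      ((DerAdj.RFun F).map (RFRep.under' m (x + x'))) =
    Φ.a.app U ≫ RFRep.classOf F m (Φ.Q.obj U) ≫ (DerivedCategory.homologyFunctor A' m).map
      ((DerAdj.RFun F).map (RFRep.under' m x)) +
    Φ.a.app U ≫ RFRep.classOf F m (Φ.Q.obj U) ≫ (DerivedCategory.homologyFunctor A' m).map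
      ((DerAdj.RFun F).map (RFRep.under' m x'))
  simp only [RFRep.under', RFRep.unshift, Functor.map_add, Preadditive.add_comp, Preadditive.comp_add]

variable {X Y : TopCat.{u}} (f : X ⟶ Y)

/-- The free sheaves on inverse images. -/
noncomputable abbrev pushQ : Opens Y ⥤ CohTop.Ab X :=
  Opens.map f ⋙ freeP (Opens.grothendieckTopology X)

/-- The universal section of the direct image. -/
noncomputable def topPushUniv (W : Opens Y) :
    (sheafGen (Opens.grothendieckTopology Y)).P.obj W ⟶ (CohTop.push f).obj ((pushQ f).obj W) :=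
  SSExist.ofSec W ((CohTop.push f).obj ((pushQ f).obj W))
    (SSExist.evalGen (Opens.grothendieckTopology X) ((Opens.map f).obj W) ((pushQ f).obj W) (𝟙 _))

lemma topPushUniv_comp (W : Opens Y) {M : CohTop.Ab X} (z : (pushQ f).obj W ⟶ M) :
    SSExist.evalGen (Opens.grothendieckTopology Y) W ((CohTop.push f).obj M)
      (topPushUniv f W ≫ (CohTop.push f).map z) =
    SSExist.evalGen (Opens.grothendieckTopology X) ((Opens.map f).obj W) M z := by
  refine (congrArg (SSExist.evalGen _ W _) (SSExist.ofSec_comp _ ((CohTop.push f).map z))).trans ?_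
  refine (SSExist.evalGen_ofSec W _ _).trans ?_
  exact congrArg (SSExist.evalGen (Opens.grothendieckTopology X) ((Opens.map f).obj W) M) (Category.id_comp z)

/-- The data of the direct image. -/
noncomputable def topPushData : PushData (sheafGen (Opens.grothendieckTopology Y)) (CohTop.push f) where
  Q := pushQ f
  a :=
    { app := topPushUniv f
      naturality := fun V W g => by
        refine (SSExist.evalGen_bijective (Opens.grothendieckTopology Y) V _).1 ?_
        refine (SSExist.evalGen_freeMap g _ _).trans ?_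
        refine Eq.trans ?_ (topPushUniv_comp f V ((pushQ f).map g)).symm
        refine (congrArg (((CohTop.push f).obj ((pushQ f).obj W)).obj.map g.op) (SSExist.evalGen_ofSec W _ _)).trans ?_
        exact (SSExist.evalGen_freeMap ((Opens.map f).map g) _ (𝟙 _)).symm.trans
          (congrArg _ (Category.comp_id _)) }
  bij W M := by
    refine ⟨fun z z' h => (SSExist.evalGen_bijective _ _ M).1 ?_, fun y => ?_⟩
    · rw [← topPushUniv_comp f W z, ← topPushUniv_comp f W z']
      exact congrArg _ h
    · refine ⟨SSExist.ofSec ((Opens.map f).obj W) M (SSExist.evalGen _ W ((CohTop.push f).obj M) y),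
        (SSExist.evalGen_bijective _ W _).1 ?_⟩
      exact (topPushUniv_comp f W _).trans (SSExist.evalGen_ofSec _ _ _)

/-- The sheaf associated with `U ↦ Hᵖ(f⁻¹U, K)` is the `p`-th cohomology sheaf of `R⁺f_* K`. -/
theorem nonempty_sheafify_push [HasDerivedCategory.{u} (CohTop.Ab X)] [HasDerivedCategory.{u} (CohTop.Ab Y)]
    (K : CochainComplex.Plus (CohTop.Ab X)) (p : ℤ) :
    Nonempty ((DerivedCategory.Plus.homologyFunctor (CohTop.Ab Y) p).obj
        ((CohTop.push f).rightDerivedFunctorPlus.obj
          (DerivedCategory.Plus.Qh.obj ((HomotopyCategory.Plus.quotient (CohTop.Ab X)).obj K))) ≅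
      (presheafToSheaf (Opens.grothendieckTopology Y) AddCommGrpCat.{u}).obj
        ((Opens.map f).op ⋙ CohCx.HDUPresheaf (DerivedCategory.Q.obj K.obj) p)) := by
  let F := CohTop.push f
  let W := HomotopyCategory.quasiIso (CohTop.Ab X) (ComplexShape.up ℤ)
  let P := F.mapHomotopyCategory (ComplexShape.up ℤ) ⋙ DerivedCategory.Qh
  have hKA : ∀ M : CochainComplex (CohTop.Ab X) ℤ, ∃ (I : CochainComplex (CohTop.Ab X) ℤ) (s : M ⟶ I),
      I.IsKInjective ∧ QuasiIso s :=
    fun M => (TriH.exists_kInjective_resolution M).imp fun I ⟨s, h1, h2, _⟩ => ⟨s, h1, h2⟩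
  haveI : P.HasPointwiseRightDerivedFunctor W :=
    TriH.hasPointwiseRightDerivedFunctor_of_bijective (L := DerivedCategory.Qh)
      (TriH.exists_kInjective_homotopy hKA) P
  haveI : P.HasRightDerivedFunctor W := inferInstance
  haveI := ExactProd.additive_RFun F hKA
  haveI : (DerAdj.RFun F).PreservesZeroMorphisms := inferInstance
  let ρ := (topPushData f).lRep hKA
  obtain ⟨e⟩ := ρ.nonempty_sheafify_iso (fun U M m x x' => (topPushData f).lRep_add hKA U M m x x')
    (DerivedCategory.Q.obj K.obj) p
  obtain ⟨a, ha⟩ := K.property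
  haveI := ha
  obtain ⟨L, hL, i, hi⟩ := CochainComplex.Plus.exists_quasiIso_injective K a
  let L' := (InjectiveObject.ι (CohTop.Ab X)).mapCochainComplexPlus.obj L
  obtain ⟨b, hb⟩ := L'.property
  haveI := hb
  haveI : QuasiIso i.hom := hi
  haveI : ∀ n, Injective (L'.obj.X n) := fun n => (L.obj.X n).property
  haveI := CochainComplex.isKInjective_of_injective L'.obj b
  haveI : IsIso (DerivedCategory.Plus.Qh.map ((HomotopyCategory.Plus.quotient (CohTop.Ab X)).map i)) :=
    Localization.inverts DerivedCategory.Plus.Qh (HomotopyCategory.Plus.quasiIso _) _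
      ((HomotopyCategory.quotient_map_mem_quasiIso_iff i.hom).2 hi)
  haveI : IsIso (F.rightDerivedFunctorPlusUnit.app ((HomotopyCategory.Plus.quotient _).obj L')) := inferInstance
  haveI : IsIso ((P.totalRightDerivedUnit DerivedCategory.Qh W).app ((HomotopyCategory.quotient _ _).obj L'.obj)) :=
    TriH.isIso_unit_of_bijective (W := W) P (DerAdj.RFun F) (P.totalRightDerivedUnit DerivedCategory.Qh W) _
      (TriH.Qh_bijective_of_isKInjective L'.obj)
  let e₁ : DerivedCategory.Plus.ι.obj (F.rightDerivedFunctorPlus.obj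
      (DerivedCategory.Plus.Qh.obj ((HomotopyCategory.Plus.quotient (CohTop.Ab X)).obj K))) ≅
      P.obj ((HomotopyCategory.quotient _ _).obj L'.obj) :=
    DerivedCategory.Plus.ι.mapIso (F.rightDerivedFunctorPlus.mapIso
      (asIso (DerivedCategory.Plus.Qh.map ((HomotopyCategory.Plus.quotient (CohTop.Ab X)).map i))) ≪≫
      (asIso (F.rightDerivedFunctorPlusUnit.app ((HomotopyCategory.Plus.quotient _).obj L'))).symm)
  let e₂ : P.obj ((HomotopyCategory.quotient _ _).obj L'.obj) ≅
      (DerAdj.RFun F).obj (DerivedCategory.Q.obj K.obj) :=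
    asIso ((P.totalRightDerivedUnit DerivedCategory.Qh W).app ((HomotopyCategory.quotient _ _).obj L'.obj)) ≪≫
      (DerAdj.RFun F).mapIso ((DerivedCategory.quotientCompQhIso _).app L'.obj ≪≫
        (asIso (DerivedCategory.Q.map i.hom)).symm)
  exact ⟨(DerivedCategory.homologyFunctor (CohTop.Ab Y) p).mapIso (e₁ ≪≫ e₂) ≪≫ e.symm⟩

end Groth.Agent.RlimLib
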