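import Groth.Agent.RlimLib.Stable
import Groth.Agent.RlimLib.SheafGen
import Mathlib.CategoryTheory.Preadditive.Yoneda.Basic
import Mathlib.CategoryTheory.Sites.LocallyBijective
import Mathlib.CategoryTheory.Sites.Sheafification

/-!
# Sheafifications of presheaves of local representatives
-/

set_option autoImplicit false
set_option linter.style.haveILetI false

universe w u

open CategoryTheory CategoryTheory.Limits Opposite DerivedCategory

namespace Groth.Agent.RlimLib

variable {C : Type u} [SmallCategory C] {J : GrothendieckTopology C}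
  {A : Type (u + 1)} [Category.{u} A] [Abelian A] [HasDerivedCategory.{u} A]
  [HasDerivedCategory.{w} (Sheaf J AddCommGrpCat.{u})]
  {R : DerivedCategory A ⥤ DerivedCategory (Sheaf J AddCommGrpCat.{u})}

/-- The sheaf associated with `U ↦ Hom(Q U, Y[q])` is the cohomology of `R Y`. -/
theorem LRep.nonempty_sheafify_iso (ρ : LRep (sheafGen J) R)
    (hadd : ∀ (U : C) (Y : DerivedCategory A) (m : ℤ) (x x' : (singleFunctor A 0).obj (ρ.Q.obj U) ⟶ Y⟦m⟧),
      ρ.σ U Y m (x + x') = ρ.σ U Y m x + ρ.σ U Y m x')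
    (Y : DerivedCategory A) (q : ℤ) :
    Nonempty ((presheafToSheaf J AddCommGrpCat.{u}).obj
        ((ρ.Q ⋙ singleFunctor A 0).op ⋙ preadditiveYoneda.obj (Y⟦q⟧)) ≅
      (homologyFunctor (Sheaf J AddCommGrpCat.{u}) q).obj (R.obj Y)) := by
  let H := (homologyFunctor (Sheaf J AddCommGrpCat.{u}) q).obj (R.obj Y)
  let ev : ∀ U, ((singleFunctor A 0).obj (ρ.Q.obj U) ⟶ Y⟦q⟧) →+ H.obj.obj (op U) := fun U =>
    (SSExist.evalGen J U H).comp (AddMonoidHom.mk' (ρ.σ U Y q) (hadd U Y q))
  have hev : ∀ {U V : C} (f : V ⟶ U) (x : (singleFunctor A 0).obj (ρ.Q.obj U) ⟶ Y⟦q⟧),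
      ev V ((singleFunctor A 0).map (ρ.Q.map f) ≫ x) = H.obj.map f.op (ev U x) := fun {U V} f x =>
    (congrArg (SSExist.evalGen J V H) (ρ.σ_res f Y q x)).trans (SSExist.evalGen_freeMap f H _)
  let φ : (ρ.Q ⋙ singleFunctor A 0).op ⋙ preadditiveYoneda.obj (Y⟦q⟧) ⟶ H.obj :=
    { app := fun U => AddCommGrpCat.ofHom (ev U.unop)
      naturality := fun U V g => by
        ext x
        exact hev g.unop x }
  haveI : Presheaf.IsLocallyInjective J φ := by
    constructor
    intro X x y hxy
    have h0 : ρ.σ X.unop Y q (x - y) = 0 := by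
      refine (SSExist.evalGen_bijective J X.unop H).1 ?_
      change ev X.unop (x - y) = _
      refine ((ev X.unop).map_sub x y).trans ?_
      exact (sub_eq_zero.2 hxy).trans (map_zero (SSExist.evalGen J X.unop H)).symm
    obtain ⟨S, hS, hS'⟩ := ρ.locally_zero (x - y) h0
    refine J.superset_covering (fun V g hg => ?_) hS
    have := hS' g hg
    exact sub_eq_zero.1 ((Preadditive.comp_sub _ _ _).symm.trans this)
  haveI : Presheaf.IsLocallySurjective J φ := by
    constructor
    intro U s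
    obtain ⟨S, hS, hS'⟩ := ρ.lift (Y := Y) (m := q) (SSExist.ofSec U H s)
    refine J.superset_covering (fun V g hg => ?_) hS
    obtain ⟨x, hx⟩ := hS' g hg
    refine ⟨x, ?_⟩
    change SSExist.evalGen J V H (ρ.σ V Y q x) = H.obj.map g.op s
    rw [hx]
    refine (SSExist.evalGen_freeMap g H _).trans ?_
    rw [SSExist.evalGen_ofSec]
  haveI : IsIso ((presheafToSheaf J AddCommGrpCat.{u}).map φ) :=
    (J.W_iff_isIso_map_of_adjunction (sheafificationAdjunction J AddCommGrpCat.{u}) φ).1
      (J.W_of_isLocallyBijective φ)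
  exact ⟨asIso ((presheafToSheaf J AddCommGrpCat.{u}).map φ) ≪≫
    asIso ((sheafificationAdjunction J AddCommGrpCat.{u}).counit.app H)⟩

end Groth.Agent.RlimLib
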