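import Groth.Agent.DerAdj.UnboundedEquiv
import Groth.Agent.RlimLib.SitePushMem
import Groth.Agent.RlimLib.RlimSingle

/-!
# Higher direct images of objects coming from the target
-/

set_option autoImplicit false
set_option linter.style.haveILetI false

universe u

open CategoryTheory CategoryTheory.Limits

namespace Groth.Agent.RlimLib

attribute [local instance] HasDerivedCategory.standard

variable {C : Type u} [SmallCategory C] {J : GrothendieckTopology C} {O_C : Sheaf J CommRingCat.{u}}
  {D : Type u} [SmallCategory D] {K : GrothendieckTopology D} {O_D : Sheaf K CommRingCat.{u}}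
  (f : ModSite.RMor O_C O_D) [PreservesFiniteLimits f.pull] [HasInjectiveResolutions (ModSite.Mod O_C)]
  [SiteCmp.HasRpushD f]
  (adj : SiteCmp.pullD f ⊣ SiteCmp.RpushD f) (A' : ObjectProperty (ModSite.Mod O_D)) [WSerre.IsWeakSerre A']

include adj in
lemma rpush_of_unit {F : ModSite.Mod O_C} {F' : ModSite.Mod O_D} (e : f.pull.obj F' ≅ F) (hF' : A' F')
    (h3 : IsIso (adj.unit.app (SiteCmp.inD O_D F'))) (p : ℕ) :
    A' ((f.Rpush p).obj F) ∧ (0 < p → IsZero ((f.Rpush p).obj F)) := by
  let e' : (SiteCmp.pullD f).obj (SiteCmp.inD O_D F') ≅ (DerivedCategory.singleFunctor (ModSite.Mod O_C) 0).obj F :=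
    (f.pull.mapDerivedCategorySingleFunctor 0).app F' ≪≫ (DerivedCategory.singleFunctor _ 0).mapIso e
  let E : (DerivedCategory.singleFunctor (ModSite.Mod O_D) 0).obj F' ≅
      (SiteCmp.RpushD f).obj ((DerivedCategory.singleFunctor (ModSite.Mod O_C) 0).obj F) :=
    asIso (adj.unit.app (SiteCmp.inD O_D F')) ≪≫ (SiteCmp.RpushD f).mapIso e'
  obtain ⟨-, h⟩ := DerAdj.nonempty_homology_RF_single f.push (exists_kInj O_C) F 0 (p : ℤ)
  let E' : (DerivedCategory.homologyFunctor (ModSite.Mod O_D) (p : ℤ)).obj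
      ((DerivedCategory.singleFunctor (ModSite.Mod O_D) 0).obj F') ≅ (f.Rpush p).obj F :=
    (DerivedCategory.homologyFunctor (ModSite.Mod O_D) (p : ℤ)).mapIso E ≪≫ (h p (zero_add _)).some
  have hpos : 0 < p → IsZero ((f.Rpush p).obj F) := fun hp =>
    (isZero_homology_single F' (show (p : ℤ) ≠ 0 by omega)).of_iso E'.symm
  refine ⟨?_, hpos⟩
  rcases Nat.eq_zero_or_pos p with hp | hp
  · subst hp
    exact A'.prop_of_iso
      (((DerivedCategory.singleFunctorCompHomologyFunctorIso (ModSite.Mod O_D) 0).app F').symm ≪≫ E') hF'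
  · exact A'.prop_of_isZero (hpos hp)

end Groth.Agent.RlimLib
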