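import Groth.Agent.RlimLib.Compute

/-!
# Images of derived limits of locally stabilising systems
-/

set_option autoImplicit false
set_option linter.style.haveILetI false

universe w w' v u u'

open CategoryTheory CategoryTheory.Limits CategoryTheory.Pretriangulated

namespace Groth.Agent.RlimLib

section Towers

variable {T : Type u} [Category.{v} T]

/-- A system with surjective transition maps from `N` on has a compatible family through any member. -/
lemma exists_compat {X : T} : ∀ (N : ℕ) (M : ℕ → T) (s : ∀ n, M (n + 1) ⟶ M n),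
    (∀ n, N ≤ n → ∀ g : X ⟶ M n, ∃ g', g' ≫ s n = g) → ∀ g : X ⟶ M N,
      ∃ x : ∀ n, X ⟶ M n, (∀ n, x (n + 1) ≫ s n = x n) ∧ x N = g
  | 0, M, s, h, g => by
    choose f hf using fun n => h n (Nat.zero_le n)
    exact ⟨fun n => Nat.rec g (fun k r => f k r) n, fun n => hf n _, rfl⟩
  | N + 1, M, s, h, g => by
    obtain ⟨x, hx, hxN⟩ := exists_compat N (fun n => M (n + 1)) (fun n => s (n + 1))
      (fun n hn => h (n + 1) (Nat.succ_le_succ hn)) g
    refine ⟨fun n => match n with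
      | 0 => x 0 ≫ s 0
      | k + 1 => x k, fun n => ?_, hxN⟩
    rcases n with _ | k
    · rfl
    · exact hx k

/-- From `N` on the transition maps are bijective in degree `m` and surjective in degree `m - 1`. -/
structure StableAt [HasShift T ℤ] (K : ℕ → T) (t : ∀ n, K (n + 1) ⟶ K n) (X : T) (m : ℤ) (N : ℕ) : Prop where
  surj' : ∀ n, N ≤ n → ∀ g : X ⟶ (K n)⟦m - 1⟧, ∃ g', g' ≫ (t n)⟦m - 1⟧' = g
  surj : ∀ n, N ≤ n → ∀ g : X ⟶ (K n)⟦m⟧, ∃ g', g' ≫ (t n)⟦m⟧' = g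
  inj : ∀ n, N ≤ n → ∀ g g' : X ⟶ (K (n + 1))⟦m⟧, g ≫ (t n)⟦m⟧' = g' ≫ (t n)⟦m⟧' → g = g'

lemma StableAt.mono [HasShift T ℤ] {K : ℕ → T} {t : ∀ n, K (n + 1) ⟶ K n} {X : T} {m : ℤ} {N N' : ℕ}
    (h : StableAt K t X m N) (hN : N ≤ N') : StableAt K t X m N' :=
  ⟨fun n hn => h.surj' n (hN.trans hn), fun n hn => h.surj n (hN.trans hn), fun n hn => h.inj n (hN.trans hn)⟩

variable [Preadditive T] [HasZeroObject T] [HasShift T ℤ] [∀ n : ℤ, (shiftFunctor T n).Additive] [Pretriangulated T]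
  {K : ℕ → T} {t : ∀ n, K (n + 1) ⟶ K n} [HasProduct K] {L : T} {a : ∀ n, L ⟶ K n}

lemma IsRlimVia.eq_zero_of_stable (h : CohCx.IsRlimVia K t L a) {X : T} {m : ℤ} {N : ℕ}
    (hs : StableAt K t X m N) (y : X ⟶ L⟦m⟧) (hy : y ≫ (a N)⟦m⟧' = 0) : y = 0 := by
  have hc : ∀ n, y ≫ (a (n + 1))⟦m⟧' ≫ (t n)⟦m⟧' = y ≫ (a n)⟦m⟧' := fun n => by
    rw [← Functor.map_comp, IsRlimVia.compat h]
  have hup : ∀ k, y ≫ (a (N + k))⟦m⟧' = 0 := by
    intro k
    induction k with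
    | zero => exact hy
    | succ k ih =>
      refine hs.inj (N + k) (by omega) _ 0 ?_
      rw [Category.assoc, zero_comp]
      exact (hc (N + k)).trans ih
  have hdown : ∀ j, y ≫ (a (N - j))⟦m⟧' = 0 := by
    intro j
    induction j with
    | zero => exact hy
    | succ j ih =>
      by_cases hj : j < N
      · obtain ⟨i, hi⟩ : ∃ i, N - j = i + 1 := ⟨N - j - 1, by omega⟩
        rw [hi] at ih
        rw [show N - (j + 1) = i by omega, ← hc i, ← Category.assoc, ih, zero_comp]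
      · rw [show N - (j + 1) = N - j by omega]
        exact ih
  refine IsRlimVia.eq_zero_shift h m (limOne_of_surjective _ _ N hs.surj') y fun n => ?_
  by_cases hn : N ≤ n
  · obtain ⟨k, rfl⟩ : ∃ k, n = N + k := ⟨n - N, by omega⟩
    exact hup k
  · obtain ⟨j, rfl⟩ : ∃ j, n = N - j := ⟨N - n, by omega⟩
    exact hdown j

lemma IsRlimVia.exists_lift_of_stable (h : CohCx.IsRlimVia K t L a) {X : T} {m : ℤ} {N : ℕ}
    (hs : StableAt K t X m N) (g : X ⟶ (K N)⟦m⟧) : ∃ y : X ⟶ L⟦m⟧, y ≫ (a N)⟦m⟧' = g := by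
  obtain ⟨x, hx, hxN⟩ := exists_compat N (fun n => (K n)⟦m⟧) (fun n => (t n)⟦m⟧') hs.surj g
  obtain ⟨y, hy⟩ := IsRlimVia.exists_lift_shift h m x hx
  exact ⟨y, (hy N).trans hxN⟩

end Towers

open DerivedCategory

variable {C : Type u'} [Category.{u} C] {J : GrothendieckTopology C}
  {A : Type (u + 1)} [Category.{u} A] [Abelian A] [HasDerivedCategory.{w} A]
  {A' : Type (u + 1)} [Category.{u} A'] [Abelian A'] [HasDerivedCategory.{w'} A']

/-- Sections of the cohomology of `R Y` are locally maps into `Y`. -/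
structure LRep (G : Gen J A') (R : DerivedCategory A ⥤ DerivedCategory A') where
  /-- The source of the local representatives. -/
  Q : C ⥤ A
  /-- The section given by a map. -/
  σ : ∀ (W : C) (Y : DerivedCategory A) (m : ℤ), ((singleFunctor A 0).obj (Q.obj W) ⟶ Y⟦m⟧) →
    (G.P.obj W ⟶ (homologyFunctor A' m).obj (R.obj Y))
  σ_comp : ∀ (W : C) {Y Y' : DerivedCategory A} (m : ℤ) (x : (singleFunctor A 0).obj (Q.obj W) ⟶ Y⟦m⟧) (g : Y ⟶ Y'),
    σ W Y' m (x ≫ g⟦m⟧') = σ W Y m x ≫ (homologyFunctor A' m).map (R.map g)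
  σ_res : ∀ {V W : C} (f : V ⟶ W) (Y : DerivedCategory A) (m : ℤ)
    (x : (singleFunctor A 0).obj (Q.obj W) ⟶ Y⟦m⟧),
    σ V Y m ((singleFunctor A 0).map (Q.map f) ≫ x) = G.P.map f ≫ σ W Y m x
  σ_zero : ∀ (W : C) (Y : DerivedCategory A) (m : ℤ), σ W Y m 0 = 0
  lift : ∀ {W : C} {Y : DerivedCategory A} {m : ℤ} (s : G.P.obj W ⟶ (homologyFunctor A' m).obj (R.obj Y)),
    ∃ S ∈ J W, ∀ ⦃V : C⦄ (f : V ⟶ W), S f → ∃ x, σ V Y m x = G.P.map f ≫ s
  locally_zero : ∀ {W : C} {Y : DerivedCategory A} {m : ℤ} (x : (singleFunctor A 0).obj (Q.obj W) ⟶ Y⟦m⟧),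
    σ W Y m x = 0 → ∃ S ∈ J W, ∀ ⦃V : C⦄ (f : V ⟶ W), S f → (singleFunctor A 0).map (Q.map f) ≫ x = 0

namespace LRep

variable {G : Gen J A'} {R : DerivedCategory A ⥤ DerivedCategory A'} (ρ : LRep G R)

/-- The trivial representation. -/
noncomputable def self (G : Gen J A') : LRep G (𝟭 (DerivedCategory A')) where
  Q := G.P
  σ W Y m x := G.toH W Y m x
  σ_comp W _ _ m x g := G.toH_comp m x g
  σ_res f _ m x := G.toH_res f m x
  σ_zero W _ m := G.toH_zero m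
  lift s := G.toH_lift _ s
  locally_zero {W Y m} x hx := G.η_locally_zero
    ((cancel_mono ((Gen.hIso A' m).hom.app Y)).1 (hx.trans zero_comp.symm))

/-- The sieve where a section lifts to a map killed by `g`. -/
def liftSieve {U : C} {M N : DerivedCategory A} (g : M ⟶ N) (m : ℤ)
    (s : G.P.obj U ⟶ (homologyFunctor A' m).obj (R.obj M)) : Sieve U where
  arrows V f := ∃ x : (singleFunctor A 0).obj (ρ.Q.obj V) ⟶ M⟦m⟧,
    ρ.σ V M m x = G.P.map f ≫ s ∧ x ≫ g⟦m⟧' = 0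
  downward_closed := by
    rintro V W f ⟨x, h1, h2⟩ k
    exact ⟨(singleFunctor A 0).map (ρ.Q.map k) ≫ x, by rw [ρ.σ_res, h1, Functor.map_comp, Category.assoc],
      by rw [Category.assoc, h2, comp_zero]⟩

lemma liftSieve_mem {U : C} {M N : DerivedCategory A} (g : M ⟶ N) (m : ℤ)
    (s : G.P.obj U ⟶ (homologyFunctor A' m).obj (R.obj M))
    (hs : s ≫ (homologyFunctor A' m).map (R.map g) = 0) : ρ.liftSieve g m s ∈ J U := by
  obtain ⟨S, hS, hS'⟩ := ρ.lift s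
  refine J.transitive hS _ fun V f hf => ?_
  obtain ⟨x, hx⟩ := hS' f hf
  obtain ⟨T, hT, hT'⟩ := ρ.locally_zero (x ≫ g⟦m⟧') (by rw [ρ.σ_comp, hx, Category.assoc, hs, comp_zero])
  refine J.superset_covering (fun W k hk => ?_) hT
  exact ⟨(singleFunctor A 0).map (ρ.Q.map k) ≫ x, by rw [ρ.σ_res, hx, Functor.map_comp, Category.assoc],
    (Category.assoc _ _ _).trans (hT' k hk)⟩

variable {K : ℕ → DerivedCategory A} {t : ∀ n, K (n + 1) ⟶ K n} [HasProduct K] {L : DerivedCategory A}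
  {a : ∀ n, L ⟶ K n}

/-- Images of derived limits of locally stabilising systems. -/
theorem isIso_of_stable (h : CohCx.IsRlimVia K t L a) (m : ℤ) (n₀ : ℕ)
    (hR : ∀ n, n₀ ≤ n → IsIso ((homologyFunctor A' m).map (R.map (t n))))
    (B : C → Prop) (hB : Covers J B)
    (hV : ∀ V, B V → ∃ N₁ : ℕ, ∀ S ∈ J V, ∃ S' ∈ J V, ∀ ⦃W : C⦄ (f : W ⟶ V), S' f →
      ∃ (W' : C) (g : W ⟶ W') (i : W' ⟶ V), g ≫ i = f ∧ S i ∧
        StableAt K t ((singleFunctor A 0).obj (ρ.Q.obj W')) m N₁)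
    (n : ℕ) (hn : n₀ ≤ n) : IsIso ((homologyFunctor A' m).map (R.map (a n))) := by
  let H := fun k => (homologyFunctor A' m).map (R.map (a k))
  have hcomp : ∀ k, H (k + 1) ≫ (homologyFunctor A' m).map (R.map (t k)) = H k := fun k => by
    simp only [H]
    rw [← Functor.map_comp, ← Functor.map_comp, IsRlimVia.compat h]
  have hφ : ∀ N, n₀ ≤ N → ∃ φ : (homologyFunctor A' m).obj (R.obj (K N)) ⟶
      (homologyFunctor A' m).obj (R.obj (K n₀)), IsIso φ ∧ H N ≫ φ = H n₀ := by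
    intro N hN
    induction N, hN using Nat.le_induction with
    | base => exact ⟨𝟙 _, inferInstance, Category.comp_id _⟩
    | succ N hN ih =>
      obtain ⟨φ, hφ1, hφ2⟩ := ih
      haveI := hR N hN
      exact ⟨(homologyFunctor A' m).map (R.map (t N)) ≫ φ, inferInstance,
        by rw [← Category.assoc, hcomp, hφ2]⟩
  suffices hmain : IsIso (H n₀) by
    obtain ⟨φ, hφ1, hφ2⟩ := hφ n hn
    exact IsIso.of_isIso_fac_right hφ2
  have hmono : Mono (H n₀) := by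
    refine G.mono_of_injective _ (fun _ => True)
      (fun U => ⟨⊤, J.top_mem U, fun V f _ => ⟨U, f, 𝟙 U, trivial, Category.comp_id f⟩⟩) fun U _ s hs => ?_
    let T := fun N => ρ.liftSieve (a N) m s
    have hT : ∀ N, n₀ ≤ N → T N ∈ J U := fun N hN => ρ.liftSieve_mem _ _ _ (by
      obtain ⟨φ, hφ1, hφ2⟩ := hφ N hN
      rw [← cancel_mono φ, zero_comp, Category.assoc]
      exact (congrArg (s ≫ ·) hφ2).trans hs)
    have hmem := goodSieve_mem (fun N W => StableAt K t ((singleFunctor A 0).obj (ρ.Q.obj W)) m N) n₀ B hB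
      (fun V hVB => by
        obtain ⟨N₁, hN₁⟩ := hV V hVB
        refine ⟨max n₀ N₁, le_max_left _ _, fun S hS => ?_⟩
        obtain ⟨S', hS', hS''⟩ := hN₁ S hS
        refine ⟨S', hS', fun W f hf => ?_⟩
        obtain ⟨W', g, i, h1, h2, h3⟩ := hS'' f hf
        exact ⟨W', g, i, h1, h2, h3.mono (le_max_right _ _)⟩) T hT
    refine G.sep s _ hmem fun V f hf => ?_
    obtain ⟨W, g, i, rfl, N, -, ⟨x, hx1, hx2⟩, hs'⟩ := hf
    rw [IsRlimVia.eq_zero_of_stable h hs' x hx2, ρ.σ_zero] at hx1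
    rw [Functor.map_comp, Category.assoc, ← hx1, comp_zero]
  have hepi : Epi (H n₀) := by
    refine G.epi_of_lifts _ B hB fun V hVB s => ?_
    obtain ⟨N₁, hN₁⟩ := hV V hVB
    obtain ⟨φ, hφ1, hφ2⟩ := hφ (max n₀ N₁) (le_max_left _ _)
    obtain ⟨S, hS, hS'⟩ := ρ.lift (s ≫ inv φ)
    obtain ⟨S'', hS'', hgood⟩ := hN₁ S hS
    refine ⟨S'', hS'', fun W f hf => ?_⟩
    obtain ⟨W', g, i, rfl, hi, hst⟩ := hgood f hf
    obtain ⟨x, hx⟩ := hS' i hi
    obtain ⟨y, hy⟩ := IsRlimVia.exists_lift_of_stable h (hst.mono (le_max_right n₀ N₁)) x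
    refine ⟨G.P.map g ≫ ρ.σ W' L m y, ?_⟩
    have h1 : ρ.σ W' L m y ≫ H (max n₀ N₁) = G.P.map i ≫ s ≫ inv φ := by
      rw [← ρ.σ_comp, hy, hx]
    rw [← hφ2, Category.assoc, ← Category.assoc (ρ.σ W' L m y), h1, Functor.map_comp]
    simp
  exact isIso_of_mono_of_epi _

end LRep

end Groth.Agent.RlimLib
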