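import Groth.Agent.RlimLib.Gen
import Groth.Prelude.Def_CohCx
import Groth.Prelude.Def_DCoh2
import Mathlib.CategoryTheory.Limits.Preserves.Shapes.Products

/-!
# Maps into derived limits of inverse systems
-/

set_option autoImplicit false
set_option linter.style.haveILetI false

universe w v u u'

open CategoryTheory CategoryTheory.Limits CategoryTheory.Pretriangulated

namespace Groth.Agent.RlimLib

section Triangulated

variable {T : Type u} [Category.{v} T] [Preadditive T] [HasZeroObject T] [HasShift T ℤ]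
  [∀ n : ℤ, (shiftFunctor T n).Additive] [Pretriangulated T]
  {K : ℕ → T} {t : ∀ n, K (n + 1) ⟶ K n} [HasProduct K] {L : T} {a : ∀ n, L ⟶ K n}

variable (K t) in
/-- Every inverse system has a derived limit. -/
lemma exists_rlim : ∃ (L : T) (a : ∀ n, L ⟶ K n), CohCx.IsRlimVia K t L a := by
  obtain ⟨L, b, c, hT⟩ := distinguished_cocone_triangle₁ (Pi.lift fun n => Pi.π K n - Pi.π K (n + 1) ≫ t n)
  have hb : b = Pi.lift (fun n => b ≫ Pi.π K n) := Pi.hom_ext _ _ fun n => by rw [Pi.lift_π]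
  exact ⟨L, fun n => b ≫ Pi.π K n, c, hb ▸ hT⟩

lemma IsRlimVia.compat (h : CohCx.IsRlimVia K t L a) (n : ℕ) : a (n + 1) ≫ t n = a n := by
  obtain ⟨c, hc⟩ := h
  have h0 : Pi.lift a ≫ (Pi.lift fun n => Pi.π K n - Pi.π K (n + 1) ≫ t n) = 0 :=
    comp_distTriang_mor_zero₁₂ _ hc
  have := congrArg (· ≫ Pi.π K n) h0
  simp only [Category.assoc, Pi.lift_π, Preadditive.comp_sub, Pi.lift_π_assoc, zero_comp, sub_eq_zero] at this
  exact this.symm

lemma IsRlimVia.exists_lift (h : CohCx.IsRlimVia K t L a) {X : T} (x : ∀ n, X ⟶ K n)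
    (hx : ∀ n, x (n + 1) ≫ t n = x n) : ∃ y : X ⟶ L, ∀ n, y ≫ a n = x n := by
  obtain ⟨c, hc⟩ := h
  have hx0 : Pi.lift x ≫ (Pi.lift fun n => Pi.π K n - Pi.π K (n + 1) ≫ t n) = 0 :=
    Pi.hom_ext _ _ fun n => by simp [hx]
  obtain ⟨y, hy⟩ := Triangle.coyoneda_exact₂ _ hc (Pi.lift x) hx0
  change X ⟶ L at y
  change Pi.lift x = y ≫ Pi.lift a at hy
  refine ⟨y, fun n => ?_⟩
  have := congrArg (· ≫ Pi.π K n) hy
  simpa using this.symm

/-- `R¹lim = 0` for the systems of maps out of `X`. -/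
def LimOne {X : T} (M : ℕ → T) (s : ∀ n, M (n + 1) ⟶ M n) : Prop :=
  ∀ b : ∀ n, X ⟶ M n, ∃ c : ∀ n, X ⟶ M n, ∀ n, c n - c (n + 1) ≫ s n = b n

lemma IsRlimVia.eq_zero (h : CohCx.IsRlimVia K t L a) {X : T}
    (hlim : LimOne (X := X) (fun n => (K n)⟦(-1 : ℤ)⟧) (fun n => (t n)⟦(-1 : ℤ)⟧'))
    (y : X ⟶ L) (hy : ∀ n, y ≫ a n = 0) : y = 0 := by
  obtain ⟨c, hc⟩ := h
  have hy0 : y ≫ Pi.lift a = 0 := Pi.hom_ext _ _ fun n => by simp [hy n]
  obtain ⟨z, hz'⟩ := Triangle.coyoneda_exact₂ _ (inv_rot_of_distTriang _ hc) y hy0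
  change X ⟶ (∏ᶜ K)⟦(-1 : ℤ)⟧ at z
  obtain ⟨d, hd⟩ := hlim fun n => z ≫ (Pi.π K n)⟦(-1 : ℤ)⟧'
  let hl := isLimitFanMkObjOfIsLimit (shiftFunctor T (-1 : ℤ)) K (Pi.π K) (productIsProduct K)
  let w : X ⟶ (∏ᶜ K)⟦(-1 : ℤ)⟧ := Fan.IsLimit.lift hl d
  have hw : ∀ n, w ≫ (Pi.π K n)⟦(-1 : ℤ)⟧' = d n := fun n => Fan.IsLimit.fac hl d n
  let D : ∏ᶜ K ⟶ ∏ᶜ K := Pi.lift fun n => Pi.π K n - Pi.π K (n + 1) ≫ t n
  have hz : z = w ≫ D⟦(-1 : ℤ)⟧' := by
    refine Fan.IsLimit.hom_ext hl _ _ fun n => ?_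
    simp only [fan_mk_proj, Category.assoc, ← Functor.map_comp, D, Pi.lift_π]
    rw [← hd n, Functor.map_sub, Functor.map_comp, Preadditive.comp_sub, reassoc_of% (hw (n + 1)), hw]
  have h0 : D ≫ c = 0 := comp_distTriang_mor_zero₂₃ _ hc
  have h1 : D⟦(-1 : ℤ)⟧' ≫ c⟦(-1 : ℤ)⟧' = 0 := by rw [← Functor.map_comp, h0, Functor.map_zero]
  refine hz'.trans ?_
  change z ≫ (-(c⟦(-1 : ℤ)⟧') ≫ (shiftFunctorCompIsoId T (1 : ℤ) (-1) (by omega)).hom.app L) = 0
  rw [hz, Category.assoc, Preadditive.comp_neg, ← Category.assoc (D⟦(-1 : ℤ)⟧'), h1]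
  simp

/-- Transposition along a shift. -/
noncomputable def shiftHom (m : ℤ) {X M : T} (g : X⟦-m⟧ ⟶ M) : X ⟶ M⟦m⟧ :=
  (shiftFunctorCompIsoId T (-m) m (by omega)).inv.app X ≫ g⟦m⟧'

lemma shiftHom_comp (m : ℤ) {X M N : T} (g : X⟦-m⟧ ⟶ M) (f : M ⟶ N) :
    shiftHom m (g ≫ f) = shiftHom m g ≫ f⟦m⟧' := by
  simp [shiftHom]

lemma shiftHom_sub (m : ℤ) {X M : T} (g g' : X⟦-m⟧ ⟶ M) : shiftHom m (g - g') = shiftHom m g - shiftHom m g' := by
  simp [shiftHom, Functor.map_sub, Preadditive.comp_sub]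

lemma shiftHom_bijective (m : ℤ) {X M : T} : Function.Bijective (shiftHom m : (X⟦-m⟧ ⟶ M) → _) := by
  refine ⟨fun g g' h => (shiftFunctor T m).map_injective ((cancel_epi _).1 h), fun x => ?_⟩
  obtain ⟨g, hg⟩ := (shiftFunctor T m).map_surjective
    ((shiftFunctorCompIsoId T (-m) m (by omega)).hom.app X ≫ x)
  exact ⟨g, by simp [shiftHom, hg]⟩

lemma IsRlimVia.exists_lift_shift (h : CohCx.IsRlimVia K t L a) (m : ℤ) {X : T} (x : ∀ n, X ⟶ (K n)⟦m⟧)
    (hx : ∀ n, x (n + 1) ≫ (t n)⟦m⟧' = x n) : ∃ y : X ⟶ L⟦m⟧, ∀ n, y ≫ (a n)⟦m⟧' = x n := by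
  choose x' hx' using fun n => (shiftHom_bijective m).2 (x n)
  obtain ⟨y, hy⟩ := IsRlimVia.exists_lift h x' fun n =>
    (shiftHom_bijective m).1 (by rw [shiftHom_comp, hx', hx', hx])
  exact ⟨shiftHom m y, fun n => by rw [← shiftHom_comp, hy, hx']⟩

lemma IsRlimVia.eq_zero_shift (h : CohCx.IsRlimVia K t L a) (m : ℤ) {X : T}
    (hlim : LimOne (X := X) (fun n => (K n)⟦m - 1⟧) (fun n => (t n)⟦m - 1⟧'))
    (y : X ⟶ L⟦m⟧) (hy : ∀ n, y ≫ (a n)⟦m⟧' = 0) : y = 0 := by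
  obtain ⟨y, rfl⟩ := (shiftHom_bijective m).2 y
  have hy' : ∀ n, y ≫ a n = 0 := fun n => (shiftHom_bijective m).1 (by
    rw [shiftHom_comp, hy]; simp [shiftHom])
  suffices y = 0 by simp [this, shiftHom]
  refine IsRlimVia.eq_zero h (fun b => ?_) y hy'
  let φ := shiftFunctorAdd' T (-1 : ℤ) m (m - 1) (by omega)
  choose c hc using fun n => (shiftHom_bijective m (X := X) (M := (K n)⟦(-1 : ℤ)⟧)).2
  obtain ⟨d, hd⟩ := hlim fun n => shiftHom m (b n) ≫ φ.inv.app (K n)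
  refine ⟨fun n => c n (d n ≫ φ.hom.app (K n)), fun n => (shiftHom_bijective m).1 ?_⟩
  rw [shiftHom_sub, shiftHom_comp, hc, hc]
  have hn : φ.hom.app (K (n + 1)) ≫ (t n)⟦(-1 : ℤ)⟧'⟦m⟧' = (t n)⟦m - 1⟧' ≫ φ.hom.app (K n) :=
    (φ.hom.naturality (t n)).symm
  have := congrArg (· ≫ φ.hom.app (K n)) (hd n)
  simp only [Preadditive.sub_comp, Category.assoc] at this
  rw [← hn, Iso.inv_hom_id_app] at this
  simp only [Category.assoc]
  exact this.trans (Category.comp_id _)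

omit [HasProduct K] in
/-- An eventually surjective system has no `R¹lim`. -/
lemma limOne_of_surjective {X : T} (M : ℕ → T) (s : ∀ n, M (n + 1) ⟶ M n) (N : ℕ)
    (h : ∀ n, N ≤ n → ∀ g : X ⟶ M n, ∃ g', g' ≫ s n = g) : LimOne (X := X) M s := by
  intro b
  choose f hf using fun n => h (N + n) (Nat.le_add_right _ _)
  let up : ∀ k, X ⟶ M (N + k) := Nat.rec 0 fun k r => f k (r - b (N + k))
  suffices key : ∀ j : ℕ, j ≤ N → ∃ c : ∀ n, X ⟶ M n, ∀ n, N - j ≤ n → c n - c (n + 1) ≫ s n = b n by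
    obtain ⟨c, hc⟩ := key N le_rfl
    exact ⟨c, fun n => hc n (by omega)⟩
  intro j
  induction j with
  | zero =>
    intro _
    refine ⟨fun n => if hn : N ≤ n then up (n - N) ≫ eqToHom (congrArg M (by omega)) else 0, fun n hn => ?_⟩
    obtain ⟨k, rfl⟩ : ∃ k, n = N + k := ⟨n - N, by omega⟩
    have e1 : ∀ (p q : ℕ) (e : p = q), up p ≫ eqToHom (congrArg (fun i => M (N + i)) e) = up q := by
      rintro p q rfl; simp
    simp only [dif_pos (Nat.le_add_right N k), dif_pos (show N ≤ N + k + 1 by omega)]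
    rw [show up (N + k - N) ≫ eqToHom _ = up k from e1 _ _ (by omega),
      show up (N + k + 1 - N) ≫ eqToHom _ = up (k + 1) from e1 _ _ (by omega)]
    change up k - f k (up k - b (N + k)) ≫ s (N + k) = b (N + k)
    rw [hf]
    abel
  | succ j ih =>
    intro hj
    obtain ⟨c, hc⟩ := ih (by omega)
    refine ⟨Function.update c (N - (j + 1)) (b (N - (j + 1)) + c (N - (j + 1) + 1) ≫ s (N - (j + 1))),
      fun n hn => ?_⟩
    by_cases he : n = N - (j + 1)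
    · subst he
      rw [Function.update_self, Function.update_of_ne (by omega)]
      abel
    · rw [Function.update_of_ne he, Function.update_of_ne (by omega)]
      exact hc n (by omega)

end Triangulated

namespace Gen

open DerivedCategory

variable {C : Type u'} [Category.{v} C] {J : GrothendieckTopology C} {A : Type u} [Category.{v} A] [Abelian A]
  [HasDerivedCategory.{w} A] (G : Gen J A)
  {K : ℕ → DerivedCategory A} {t : ∀ n, K (n + 1) ⟶ K n} [HasProduct K] {L : DerivedCategory A}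
  {a : ∀ n, L ⟶ K n}

variable (a) in
/-- `a N` is injective on degree `m` cohomology over `U`. -/
def InjAt (m : ℤ) (N : ℕ) (U : C) : Prop :=
  ∀ y : G.SP U ⟶ L⟦m⟧, y ≫ (a N)⟦m⟧' = 0 → y = 0

variable (A) in
/-- `H⁰(M[m]) ≅ H^m M`. -/
noncomputable abbrev hIso (m : ℤ) : shiftFunctor (DerivedCategory A) m ⋙ homologyFunctor A 0 ≅ homologyFunctor A m :=
  (homologyFunctor A 0).shiftIso m 0 m (add_zero m)

lemma injAt_of (h : CohCx.IsRlimVia K t L a) (m : ℤ) (N : ℕ) (U : C)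
    (hlim : LimOne (X := G.SP U) (fun n => (K n)⟦m - 1⟧) (fun n => (t n)⟦m - 1⟧'))
    (hinj : ∀ n, N ≤ n → ∀ g : G.SP U ⟶ (K (n + 1))⟦m⟧, g ≫ (t n)⟦m⟧' = 0 → g = 0) : G.InjAt a m N U := by
  intro y hy
  have hc : ∀ n, y ≫ (a (n + 1))⟦m⟧' ≫ (t n)⟦m⟧' = y ≫ (a n)⟦m⟧' := fun n => by
    rw [← Functor.map_comp, IsRlimVia.compat h]
  have hup : ∀ k, y ≫ (a (N + k))⟦m⟧' = 0 := by
    intro k
    induction k with
    | zero => exact hy
    | succ k ih => exact hinj (N + k) (by omega) _ (by rw [Category.assoc]; exact (hc (N + k)).trans ih)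
  have hdown : ∀ j, y ≫ (a (N - j))⟦m⟧' = 0 := by
    intro j
    induction j with
    | zero => exact hy
    | succ j ih =>
      by_cases hj : j < N
      · obtain ⟨i, hi⟩ : ∃ i, N - j = i + 1 := ⟨N - j - 1, by omega⟩
        rw [hi] at ih
        rw [show N - (j + 1) = i by omega, ← hc i, ← Category.assoc, ih, zero_comp]
      · rw [show N - (j + 1) = N - j by omega]
        exact ih
  refine IsRlimVia.eq_zero_shift h m hlim y fun n => ?_
  by_cases hn : N ≤ n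
  · obtain ⟨k, rfl⟩ : ∃ k, n = N + k := ⟨n - N, by omega⟩
    exact hup k
  · obtain ⟨j, rfl⟩ : ∃ j, n = N - j := ⟨N - n, by omega⟩
    exact hdown j

omit [HasProduct K] in
/-- The local injectivity criterion. -/
lemma eq_zero_of_local {m : ℤ} {U : C} (s : G.P.obj U ⟶ (homologyFunctor A m).obj L) (Ok : ℕ → Prop)
    (hs : ∀ N, Ok N → s ≫ (homologyFunctor A m).map (a N) = 0)
    (hloc : ∀ T : ℕ → Sieve U, (∀ N, Ok N → T N ∈ J U) → ∃ R ∈ J U, ∀ ⦃V : C⦄ (f : V ⟶ U), R f →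
      ∃ (W : C) (g : V ⟶ W) (h : W ⟶ U), g ≫ h = f ∧ ∃ N, Ok N ∧ T N h ∧ G.InjAt a m N W) :
    s = 0 := by
  let φ := s ≫ (hIso A m).inv.app L
  obtain ⟨R, hR, hR'⟩ := hloc (fun N => G.liftSieve ((a N)⟦m⟧') φ) fun N hN => by
    refine G.liftSieve_mem _ _ ?_
    have := (hIso A m).inv.naturality (a N)
    simp only [Functor.comp_map] at this
    rw [Category.assoc, ← this, ← Category.assoc, hs N hN, zero_comp]
  refine G.sep s R hR fun V f hf => ?_
  obtain ⟨W, g, h, rfl, N, -, ⟨x, hx1, hx2⟩, hinj⟩ := hR' f hf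
  rw [hinj x hx2, η_zero] at hx1
  have h0 : G.P.map h ≫ s = 0 := by
    rw [← cancel_mono ((hIso A m).inv.app L), zero_comp, Category.assoc]
    exact hx1.symm
  rw [Functor.map_comp, Category.assoc, h0, comp_zero]

end Gen

end Groth.Agent.RlimLib
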