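import Groth.Agent.RlimLib.Tower
import Mathlib.CategoryTheory.Triangulated.Opposite.Pretriangulated
import Mathlib.Algebra.Homology.DerivedCategory.Ext.ExtClass

/-!
# An object is the derived limit of its truncations when cohomology of its cohomology objects vanishes locally
-/

set_option autoImplicit false
set_option linter.style.haveILetI false

universe w w' v u u'

open CategoryTheory CategoryTheory.Limits CategoryTheory.Pretriangulated DerivedCategory Abelian

namespace Groth.Agent.RlimLib

section Truncations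

variable {A : Type (u + 1)} [Category.{u} A] [Abelian A] [HasDerivedCategory.{w} A]

/-- `τ_{≥ a}`. -/
noncomputable abbrev tge (a : ℤ) (E : DerivedCategory A) : DerivedCategory A := (TStructure.t.truncGE a).obj E

/-- `E ⟶ τ_{≥ a} E`. -/
noncomputable abbrev tgeπ (a : ℤ) (E : DerivedCategory A) : E ⟶ tge a E := (TStructure.t.truncGEπ a).app E

/-- `τ_{≥ a} E ⟶ τ_{≥ b} E`. -/
noncomputable abbrev tgeMap (a b : ℤ) (h : a ≤ b) (E : DerivedCategory A) : tge a E ⟶ tge b E :=
  (TStructure.t.natTransTruncGEOfLE a b h).app E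

lemma π_tgeMap (a b : ℤ) (h : a ≤ b) (E : DerivedCategory A) : tgeπ a E ≫ tgeMap a b h E = tgeπ b E :=
  TStructure.t.π_natTransTruncGEOfLE_app a b h E

lemma isIso_homology_tgeπ (E : DerivedCategory A) {a i : ℤ} (h : a ≤ i) :
    IsIso ((homologyFunctor A i).map (tgeπ a E)) :=
  TriH.EndNilp.isIso_homology_π E (a - 1) a i (by omega) h

lemma isZero_homology_tge (E : DerivedCategory A) {a i : ℤ} (h : i < a) :
    IsZero ((homologyFunctor A i).obj (tge a E)) :=
  TriH.EndNilp.isZero_homology_truncGE E a i h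

lemma isIso_homology_tgeMap (E : DerivedCategory A) {a b i : ℤ} (h : a ≤ b) (hi : b ≤ i) :
    IsIso ((homologyFunctor A i).map (tgeMap a b h E)) := by
  haveI := isIso_homology_tgeπ E (h.trans hi)
  haveI := isIso_homology_tgeπ E hi
  have := congrArg (homologyFunctor A i).map (π_tgeMap a b h E)
  rw [Functor.map_comp] at this
  exact IsIso.of_isIso_fac_left this

/-- The layer between two consecutive truncations. -/
lemma exists_layer (E : DerivedCategory A) (a b : ℤ) (hb : a + 1 = b) :
    ∃ (F : A) (f : (singleFunctor A a).obj F ⟶ tge a E) (g : tge b E ⟶ ((singleFunctor A a).obj F)⟦(1 : ℤ)⟧),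
      Triangle.mk f (tgeMap a b (by omega) E) g ∈ distinguishedTriangles ∧
      Nonempty (F ≅ (homologyFunctor A a).obj E) := by
  obtain ⟨Z, f, g, hT⟩ := distinguished_cocone_triangle₁ (tgeMap a b (by omega) E)
  let T := Triangle.mk f (tgeMap a b (by omega) E) g
  have hzero : ∀ i, i ≠ a → IsZero ((homologyFunctor A i).obj Z) := by
    intro i hi
    rcases lt_or_gt_of_ne hi with hlt | hgt
    · exact (HomologySequence.exact₁ _ hT (i - 1) i (by omega)).isZero_X₂
        ((isZero_homology_tge E (a := b) (i := i - 1) (by omega)).eq_of_src _ _)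
        ((isZero_homology_tge E (a := a) hlt).eq_of_tgt _ _)
    · refine (HomologySequence.exact₁ _ hT (i - 1) i (by omega)).isZero_X₂ ?_ ?_
      · have he : Epi ((homologyFunctor A (i - 1)).map T.mor₂) := by
          by_cases h : b ≤ i - 1
          · haveI := isIso_homology_tgeMap E (a := a) (b := b) (by omega) h
            exact inferInstanceAs (Epi ((homologyFunctor A (i - 1)).map (tgeMap a b _ E)))
          · exact ⟨fun u v _ => (isZero_homology_tge E (a := b) (i := i - 1) (by omega)).eq_of_src u v⟩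
        exact (HomologySequence.epi_homologyMap_mor₂_iff _ hT (i - 1) i (by omega)).1 he
      · have hm : Mono ((homologyFunctor A i).map T.mor₂) := by
          haveI := isIso_homology_tgeMap E (a := a) (b := b) (i := i) (by omega) (by omega)
          exact inferInstanceAs (Mono ((homologyFunctor A i).map (tgeMap a b _ E)))
        exact (HomologySequence.mono_homologyMap_mor₂_iff _ hT i).1 hm
  haveI : Z.IsGE a := (Z.isGE_iff a).2 fun i hi => hzero i (by omega)
  haveI : Z.IsLE a := (Z.isLE_iff a).2 fun i hi => hzero i (by omega)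
  haveI : IsIso ((homologyFunctor A a).map f) := by
    haveI : Mono ((homologyFunctor A a).map T.mor₁) :=
      (HomologySequence.mono_homologyMap_mor₁_iff _ hT (a - 1) a (by omega)).2
        ((isZero_homology_tge E (a := b) (i := a - 1) (by omega)).eq_of_src _ _)
    haveI : Epi ((homologyFunctor A a).map T.mor₁) :=
      (HomologySequence.epi_homologyMap_mor₁_iff _ hT a).2
        ((isZero_homology_tge E (a := b) (i := a) (by omega)).eq_of_tgt _ _)
    exact isIso_of_mono_of_epi ((homologyFunctor A a).map T.mor₁)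
  haveI := isIso_homology_tgeπ E (le_refl a)
  obtain ⟨F, ⟨e⟩⟩ := Z.exists_iso_singleFunctor_obj_of_isGE_of_isLE a
  refine ⟨F, e.inv ≫ f, g ≫ e.hom⟦(1 : ℤ)⟧', isomorphic_distinguished _ hT _ ?_, ⟨?_⟩⟩
  · refine Triangle.isoMk _ _ e.symm (Iso.refl _) (Iso.refl _) ?_ ?_ ?_
    · exact Category.comp_id _
    · exact (Category.comp_id _).trans (Category.id_comp _).symm
    · refine Eq.trans ?_ (Category.id_comp _).symm
      change (g ≫ e.hom⟦(1 : ℤ)⟧') ≫ e.inv⟦(1 : ℤ)⟧' = g
      rw [Category.assoc, ← Functor.map_comp, e.hom_inv_id, CategoryTheory.Functor.map_id, Category.comp_id]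
  · exact ((singleFunctorCompHomologyFunctorIso A a).app F).symm ≪≫ (homologyFunctor A a).mapIso e.symm ≪≫
      asIso ((homologyFunctor A a).map f) ≪≫ (asIso ((homologyFunctor A a).map (tgeπ a E))).symm

/-- Maps from an object in degree `0` to a shifted object in degree `a`. -/
lemma hom_single_shift_eq_zero [HasExt.{w'} A] (P F : A) (a m : ℤ)
    (h : ∀ k : ℕ, (k : ℤ) = m - a → Subsingleton (Ext.{w'} P F k))
    (g : (singleFunctor A 0).obj P ⟶ ((singleFunctor A a).obj F)⟦m⟧) : g = 0 := by
  let e : ((singleFunctor A a).obj F)⟦m⟧ ≅ ((singleFunctor A 0).obj F)⟦m - a⟧ :=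
    (shiftFunctor (DerivedCategory A) m).mapIso
      ((((singleFunctors A).shiftIso (-a) a 0 (by omega)).app F).symm) ≪≫
    ((shiftFunctorAdd' (DerivedCategory A) (-a) m (m - a) (by omega)).app _).symm
  rw [← cancel_mono e.hom, zero_comp]
  by_cases hk : 0 ≤ m - a
  · obtain ⟨k, hk'⟩ : ∃ k : ℕ, (k : ℤ) = m - a := ⟨(m - a).toNat, by omega⟩
    haveI := h k hk'
    have key : ∀ x : ShiftedHom ((singleFunctor A 0).obj P) ((singleFunctor A 0).obj F) (k : ℤ), x = 0 := by
      haveI : Subsingleton (ShiftedHom ((singleFunctor A 0).obj P) ((singleFunctor A 0).obj F) (k : ℤ)) :=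
        (Ext.homEquiv (C := A)).symm.injective.subsingleton
      exact fun x => Subsingleton.elim x 0
    revert g
    generalize e = e'
    revert e'
    rw [← hk']
    exact fun e' g => key (g ≫ e'.hom)
  · haveI : TStructure.t.IsGE (((singleFunctor A 0).obj F)⟦m - a⟧) (a - m) :=
      TStructure.t.isGE_shift _ 0 (m - a) (a - m) (by omega)
    haveI : TStructure.t.IsLE ((singleFunctor A 0).obj P) 0 :=
      inferInstanceAs (DerivedCategory.IsLE ((singleFunctor A 0).obj P) 0)
    exact TStructure.t.zero _ 0 (a - m) (by omega)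

/-- One step of the tower of truncations on cohomology. -/
lemma tgeMap_step [HasExt.{w'} A] (E : DerivedCategory A) (P : A) (a b : ℤ) (hb : a + 1 = b) (m : ℤ)
    (h : ∀ k : ℕ, (k : ℤ) = m - a → Subsingleton (Ext.{w'} P ((homologyFunctor A a).obj E) k)) :
    (∀ g : (singleFunctor A 0).obj P ⟶ (tge a E)⟦m⟧, g ≫ (tgeMap a b (by omega) E)⟦m⟧' = 0 → g = 0) ∧
    ∀ g : (singleFunctor A 0).obj P ⟶ (tge b E)⟦m - 1⟧,
      ∃ g', g' ≫ (tgeMap a b (by omega) E)⟦m - 1⟧' = g := by
  obtain ⟨F, f, δ, hT, ⟨e⟩⟩ := exists_layer E a b hb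
  have hv : ∀ k : ℕ, (k : ℤ) = m - a → Subsingleton (Ext.{w'} P F k) := fun k hk => by
    haveI := h k hk
    refine subsingleton_of_forall_eq 0 fun x => ?_
    have h0 : x.comp (Ext.mk₀ e.hom) (add_zero k) = 0 := Subsingleton.elim _ _
    have h1 := congrArg (fun y => y.comp (Ext.mk₀ e.inv) (add_zero k)) h0
    simp only [Ext.zero_comp, Ext.comp_assoc_of_third_deg_zero, Ext.mk₀_comp_mk₀, e.hom_inv_id, Ext.comp_mk₀_id] at h1
    exact h1
  constructor
  · intro g hg
    obtain ⟨g, rfl⟩ := (shiftHom_bijective m).2 g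
    rw [← shiftHom_comp] at hg
    have hg' : g ≫ tgeMap a b (by omega) E = 0 := (shiftHom_bijective m).1 (by rw [hg]; simp [shiftHom])
    obtain ⟨z, hz⟩ := Triangle.coyoneda_exact₂ _ hT g hg'
    rw [hz]
    refine (shiftHom_comp m z f).trans ?_
    exact (congrArg (· ≫ f⟦m⟧') (hom_single_shift_eq_zero P F a m hv (shiftHom m z))).trans zero_comp
  · intro g
    obtain ⟨g, rfl⟩ := (shiftHom_bijective (m - 1)).2 g
    have hz : g ≫ δ = 0 := by
      refine (shiftHom_bijective (m - 1)).1 ?_
      rw [show shiftHom (m - 1) (0 : _ ⟶ ((singleFunctor A a).obj F)⟦(1 : ℤ)⟧) = 0 by simp [shiftHom],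
        ← cancel_mono ((shiftFunctorAdd' (DerivedCategory A) (1 : ℤ) (m - 1) m (by omega)).inv.app _), zero_comp]
      exact hom_single_shift_eq_zero P F a m hv _
    obtain ⟨g', hg'⟩ := Triangle.coyoneda_exact₃ _ hT g hz
    exact ⟨shiftHom (m - 1) g', by rw [← shiftHom_comp]; exact (congrArg _ hg').symm⟩

end Truncations

namespace Gen

variable {C : Type u'} [Category.{u} C] {J : GrothendieckTopology C} {A : Type (u + 1)} [Category.{u} A] [Abelian A]
  [HasExt.{w'} A] [HasDerivedCategory.{w} A] (G : Gen J A)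

/-- The criterion for `E` to be the derived limit of its truncations. -/
theorem isRlimVia_truncTower (E : DerivedCategory A) [HasProduct (CohCx.truncTower E)]
    (hloc : ∀ (m : ℤ) (U : C) (T : ℕ → Sieve U),
      (∀ N : ℕ, (-m).toNat ≤ N → T N ∈ J U) → ∃ R ∈ J U, ∀ ⦃V : C⦄ (f : V ⟶ U), R f →
        ∃ (W : C) (g : V ⟶ W) (h : W ⟶ U), g ≫ h = f ∧ ∃ N : ℕ, (-m).toNat ≤ N ∧ T N h ∧
          ∀ n : ℕ, N ≤ n → ∀ k : ℕ, (k : ℤ) = m + (n : ℤ) + 1 →
            Subsingleton (Ext.{w'} (G.P.obj W) ((homologyFunctor A (-((n : ℤ) + 1))).obj E) k)) :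
    CohCx.IsRlimVia (CohCx.truncTower E) (CohCx.truncTowerMap E) E (CohCx.toTruncTower E) := by
  obtain ⟨L, a, hL⟩ := exists_rlim (CohCx.truncTower E) (CohCx.truncTowerMap E)
  obtain ⟨θ, hθ⟩ := IsRlimVia.exists_lift hL (CohCx.toTruncTower E) fun n =>
    π_tgeMap (-((n + 1 : ℕ) : ℤ)) (-(n : ℤ)) (by omega) E
  haveI : IsIso θ := by
    rw [DerivedCategory.isIso_iff]
    intro m
    have hπ : ∀ N : ℕ, (-m).toNat ≤ N →
        IsIso ((homologyFunctor A m).map (CohCx.toTruncTower E N)) := fun N hN =>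
      isIso_homology_tgeπ E (by omega)
    have hmono : Mono ((homologyFunctor A m).map (a (-m).toNat)) := by
      refine G.mono_of_injective _ (fun _ => True)
        (fun U => ⟨⊤, J.top_mem U, fun V f _ => ⟨U, f, 𝟙 U, trivial, Category.comp_id f⟩⟩) fun U _ s hs => ?_
      refine G.eq_zero_of_local (a := a) s (fun N => (-m).toNat ≤ N) (fun N hN => ?_) fun T hT => ?_
      · induction N, hN using Nat.le_induction with
        | base => exact hs
        | succ N hN ih =>
          haveI : IsIso ((homologyFunctor A m).map (CohCx.truncTowerMap E N)) :=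
            isIso_homology_tgeMap E _ (by omega)
          rw [← cancel_mono ((homologyFunctor A m).map (CohCx.truncTowerMap E N)), zero_comp, Category.assoc,
            ← Functor.map_comp, IsRlimVia.compat hL]
          exact ih
      · obtain ⟨R, hR, hR'⟩ := hloc m U T hT
        refine ⟨R, hR, fun V f hf => ?_⟩
        obtain ⟨W, g, h, hgh, N, hN, hTN, hk⟩ := hR' f hf
        refine ⟨W, g, h, hgh, N, hN, hTN, G.injAt_of hL m N W (limOne_of_surjective _ _ N fun n hn x => ?_)
          fun n hn x hx => ?_⟩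
        · exact (tgeMap_step E (G.P.obj W) (-((n + 1 : ℕ) : ℤ)) (-(n : ℤ)) (by omega) m (fun k hk' => by
            rw [show (-((n + 1 : ℕ) : ℤ)) = -((n : ℤ) + 1) by push_cast; rfl]
            exact hk n hn k (by omega))).2 x
        · exact (tgeMap_step E (G.P.obj W) (-((n + 1 : ℕ) : ℤ)) (-(n : ℤ)) (by omega) m (fun k hk' => by
            rw [show (-((n + 1 : ℕ) : ℤ)) = -((n : ℤ) + 1) by push_cast; rfl]
            exact hk n hn k (by omega))).1 x hx
    haveI := hπ _ le_rfl
    have hfac : (homologyFunctor A m).map θ ≫ (homologyFunctor A m).map (a (-m).toNat) =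
        (homologyFunctor A m).map (CohCx.toTruncTower E (-m).toNat) := by
      rw [← Functor.map_comp, hθ]
    haveI : Epi ((homologyFunctor A m).map θ ≫ (homologyFunctor A m).map (a (-m).toNat)) := by
      rw [hfac]; infer_instance
    haveI : Epi ((homologyFunctor A m).map (a (-m).toNat)) := epi_of_epi ((homologyFunctor A m).map θ) _
    haveI := isIso_of_mono_of_epi ((homologyFunctor A m).map (a (-m).toNat))
    exact IsIso.of_isIso_fac_right hfac
  obtain ⟨c, hc⟩ := hL
  let e := asIso θ
  have hl : θ ≫ Pi.lift a = Pi.lift (CohCx.toTruncTower E) := Pi.hom_ext _ _ fun n => by simp [hθ]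
  refine ⟨c ≫ e.inv⟦(1 : ℤ)⟧', isomorphic_distinguished _ hc _ ?_⟩
  refine Triangle.isoMk _ _ e (Iso.refl _) (Iso.refl _) ?_ ?_ ?_
  · exact (Category.comp_id _).trans hl.symm
  · exact (Category.comp_id _).trans (Category.id_comp _).symm
  · refine Eq.trans ?_ (Category.id_comp _).symm
    change (c ≫ e.inv⟦(1 : ℤ)⟧') ≫ e.hom⟦(1 : ℤ)⟧' = c
    rw [Category.assoc, ← Functor.map_comp, e.inv_hom_id, CategoryTheory.Functor.map_id, Category.comp_id]

end Gen

end Groth.Agent.RlimLib
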