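import Groth.Agent.RlimLib.SitePushMem
import Groth.Agent.RlimLib.RlimSingle
import Groth.Agent.DerAdj.CounitSingle
import Mathlib.Algebra.Homology.ShortComplex.ShortExact

/-!
# Modules for a pair of comparable topologies
-/

set_option autoImplicit false
set_option linter.style.haveILetI false

universe u

open CategoryTheory CategoryTheory.Limits Opposite CategoryTheory.Abelian

namespace Groth.Agent.RlimLib.TwoTopologies

attribute [local instance] HasDerivedCategory.standard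

variable {C : Type u} [SmallCategory C] {J J' : GrothendieckTopology C} (h : J' ≤ J) (O : Sheaf J CommRingCat.{u})

instance faithful_push : (SiteCmp.eps h O).push.Faithful where
  map_injective {F G φ ψ} e := DerAdj.SiteFree.hom_ext_top fun X s =>
    congrArg (fun z : (SiteCmp.eps h O).push.obj F ⟶ (SiteCmp.eps h O).push.obj G => z.val.app (op X) s) e

instance full_push : (SiteCmp.eps h O).push.Full where
  map_surjective {F G} φ := by
    refine ⟨⟨PresheafOfModules.homMk
      { app := fun V => AddCommGrpCat.ofHom (AddMonoidHom.mk' (fun s => φ.val.app V s) fun s t => map_add _ s t)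
        naturality := fun V W g => by
          ext s
          exact PresheafOfModules.naturality_apply φ.val g s }
      fun V r s => (φ.val.app V).hom.map_smul r s⟩, ?_⟩
    exact DerAdj.SiteFree.hom_ext_top fun X s => rfl

instance isIso_counit : IsIso (SiteCmp.eps h O).adj.counit :=
  Adjunction.counit_isIso_of_R_fully_faithful _

variable (A : ObjectProperty (ModSite.Mod O)) [WSerre.IsWeakSerre A] (B : C → Prop)
  (h3 : Covers J' B)
  (h4 : ∀ U, B U → ∀ F : ModSite.Mod O, A F → ∀ p : ℕ, 0 < p → Subsingleton (ModSite.HU O F p U))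

include h in
omit h3 in
lemma covers_fine (h3 : Covers J' B) : Covers J B := fun U => by
  obtain ⟨S, hS, hS'⟩ := h3 U
  exact ⟨S, h U hS, hS'⟩

omit h3 in
/-- Covering sieves contain coverings by members of `B`. -/
lemma exists_family {K : GrothendieckTopology C} (hB : Covers K B) {V : C} (T : Sieve V) (hT : T ∈ K V) :
    ∃ (ι : Type u) (Y : ι → C) (g : ∀ i, Y i ⟶ V), (∀ i, T.arrows (g i)) ∧ Sieve.ofArrows Y g ∈ K V ∧
      ∀ i, B (Y i) := by
  refine ⟨Σ W : C, {g : W ⟶ V // T g ∧ B W}, fun i => i.1, fun i => i.2.1, fun i => i.2.2.1, ?_, fun i => i.2.2.2⟩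
  refine K.transitive hT _ fun Z g hg => ?_
  obtain ⟨S, hS, hS'⟩ := hB Z
  refine K.superset_covering (fun W k hk => ?_) hS
  obtain ⟨W', a, b, hW', rfl⟩ := hS' k hk
  exact ⟨W', a, b ≫ g,
    Presieve.ofArrows.mk (f := fun i : Σ W : C, {g : W ⟶ V // T g ∧ B W} => i.2.1)
      ⟨W', b ≫ g, T.downward_closed hg b, hW'⟩, (Category.assoc _ _ _).symm⟩

include h3 h4 in
/-- The direct image of an epimorphism with kernel in the class is an epimorphism. -/
lemma epi_push {S : ShortComplex (ModSite.Mod O)} (hS : S.ShortExact) (h₁ : A S.X₁) :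
    Epi ((SiteCmp.eps h O).push.map S.g) := by
  haveI := ModGroth.sheaf_isGrothendieckAbelian (ModSite.ringSh O)
  haveI : HasExt.{u + 1} (ModSite.Mod O) := HasExt.standard _
  refine (modGen (SiteCmp.epsRing h O)).epi_of_lifts _ B h3 fun U hU t => ?_
  let x : ModSite.freeOn O U ⟶ S.X₃ :=
    (ModGroth.FreeOn.homEquiv O U S.X₃).symm (ModGroth.FreeOn.homEquiv (SiteCmp.epsRing h O) U _ t)
  haveI := subsingleton_ext_freeOn O U 1 S.X₁ (h4 U hU _ h₁ 1 one_pos)
  obtain ⟨y, hy⟩ := Ext.covariant_sequence_exact₃ (ModSite.freeOn O U) hS (Ext.mk₀ x) (zero_add 1)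
    (Subsingleton.elim _ _)
  obtain ⟨z, rfl⟩ := (Ext.mk₀_bijective _ _).2 y
  rw [Ext.mk₀_comp_mk₀] at hy
  have hz : z ≫ S.g = x := (Ext.mk₀_bijective _ _).1 hy
  refine ⟨⊤, J'.top_mem U, fun V k _ => ⟨(modGen (SiteCmp.epsRing h O)).P.map k ≫
    (ModGroth.FreeOn.homEquiv (SiteCmp.epsRing h O) U _).symm (ModGroth.FreeOn.homEquiv O U S.X₂ z), ?_⟩⟩
  rw [Category.assoc]
  refine congrArg (_ ≫ ·) ((ModGroth.FreeOn.homEquiv (SiteCmp.epsRing h O) U _).injective ?_)
  refine (ModGroth.FreeOn.homEquiv_comp _ _ _ _).trans ?_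
  refine (congrArg (((SiteCmp.eps h O).push.map S.g).val.app (op U)) (Equiv.apply_symm_apply _ _)).trans ?_
  refine (ModGroth.FreeOn.homEquiv_comp O U z S.g).symm.trans ?_
  rw [hz]
  exact Equiv.apply_symm_apply _ _

include h3 h4 in
/-- The image class is weak Serre. -/
theorem isWeakSerre_map [PreservesFiniteLimits (SiteCmp.eps h O).pull] :
    WSerre.IsWeakSerre (A.map (SiteCmp.eps h O).push) := by
  haveI := ModGroth.sheaf_isGrothendieckAbelian (ModSite.ringSh O)
  haveI hLim : PreservesLimitsOfSize.{0, 0} (SiteCmp.eps h O).push := (SiteCmp.eps h O).adj.rightAdjoint_preservesLimits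
  let P := (SiteCmp.eps h O).push
  refine { exists_zero := ?_, kernels_le := ?_, cokernels_le := ?_, prop_X₂_of_shortExact := ?_ }
  · obtain ⟨Z, hZ, hAZ⟩ := A.exists_prop_of_containsZero
    exact ⟨P.obj Z, P.map_isZero hZ, A.prop_map_obj P hAZ⟩
  · rintro _ ⟨f, k, hk, ⟨F, hF, ⟨eF⟩⟩, ⟨G, hG, ⟨eG⟩⟩⟩
    obtain ⟨ψ, hψ⟩ := P.map_surjective (eF.hom ≫ f ≫ eG.inv)
    exact ⟨kernel ψ, A.prop_kernel ψ hF hG, ⟨PreservesKernel.iso P ψ ≪≫
      kernel.mapIso (P.map ψ) f eF eG (by rw [hψ]; simp) ≪≫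
      (kernelIsKernel f).conePointUniqueUpToIso hk⟩⟩
  · rintro _ ⟨f, k, hk, ⟨F, hF, ⟨eF⟩⟩, ⟨G, hG, ⟨eG⟩⟩⟩
    obtain ⟨ψ, hψ⟩ := P.map_surjective (eF.hom ≫ f ≫ eG.inv)
    have hK : A (kernel ψ) := A.prop_kernel ψ hF hG
    have hQ : A (cokernel ψ) := A.prop_cokernel ψ hF hG
    let I := cokernel (kernel.ι ψ)
    have hI : A I := A.prop_cokernel _ hK hF
    let i : I ⟶ G := cokernel.desc _ ψ (kernel.condition ψ)
    haveI : Mono i :=
      (ShortComplex.exact_of_f_is_kernel (ShortComplex.mk (kernel.ι ψ) ψ (kernel.condition ψ))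
        (kernelIsKernel ψ)).mono_cokernelDesc
    let S₁ := ShortComplex.mk (kernel.ι ψ) (cokernel.π (kernel.ι ψ)) (cokernel.condition _)
    have hS₁ : S₁.ShortExact := { exact := ShortComplex.exact_cokernel _ }
    have w : i ≫ cokernel.π ψ = 0 := by
      rw [← cancel_epi (cokernel.π (kernel.ι ψ))]
      simp [i]
    have hS₂ : (ShortComplex.mk i (cokernel.π ψ) w).ShortExact := by
      refine ShortComplex.ShortExact.mk' ?_ inferInstance inferInstance
      exact (ShortComplex.exact_iff_of_epi_of_isIso_of_mono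
        ({ τ₁ := cokernel.π (kernel.ι ψ), τ₂ := 𝟙 _, τ₃ := 𝟙 _, comm₁₂ := by simp [i] } :
          ShortComplex.mk ψ (cokernel.π ψ) (cokernel.condition _) ⟶ ShortComplex.mk i (cokernel.π ψ) w)).1
        (ShortComplex.exact_cokernel ψ)
    haveI he₁ : Epi (P.map (cokernel.π (kernel.ι ψ))) := epi_push h O A B h3 h4 hS₁ hK
    haveI he₂ : Epi (P.map (cokernel.π ψ)) := epi_push h O A B h3 h4 hS₂ hI
    have hP₂ : ((ShortComplex.mk i (cokernel.π ψ) w).map P).Exact :=
      (hS₂.exact.map_of_mono_of_preservesKernel P hS₂.mono_f inferInstance)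
    have wz : P.map ψ ≫ P.map (cokernel.π ψ) = 0 := by rw [← P.map_comp, cokernel.condition, P.map_zero]
    let φc : ShortComplex.mk (P.map ψ) (P.map (cokernel.π ψ)) wz ⟶ (ShortComplex.mk i (cokernel.π ψ) w).map P :=
      { τ₁ := P.map (cokernel.π (kernel.ι ψ)), τ₂ := 𝟙 _, τ₃ := 𝟙 _,
        comm₁₂ := by
          refine Eq.trans ?_ (Category.comp_id _).symm
          change P.map (cokernel.π (kernel.ι ψ)) ≫ P.map i = P.map ψ
          rw [← P.map_comp, cokernel.π_desc] }
    haveI : Epi φc.τ₁ := he₁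
    haveI : IsIso φc.τ₂ := IsIso.id _
    haveI : Mono φc.τ₃ := (IsIso.id _ : IsIso φc.τ₃) |> fun i => @IsIso.mono_of_iso _ _ _ _ _ i
    have hex : (ShortComplex.mk (P.map ψ) (P.map (cokernel.π ψ)) wz).Exact :=
      (ShortComplex.exact_iff_of_epi_of_isIso_of_mono φc).2 hP₂
    let e : cokernel (P.map ψ) ≅ P.obj (cokernel ψ) :=
      (cokernelIsCokernel (P.map ψ)).coconePointUniqueUpToIso hex.gIsCokernel
    exact ⟨cokernel ψ, hQ, ⟨e.symm ≪≫ cokernel.mapIso (P.map ψ) f eF eG (by rw [hψ]; simp) ≪≫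
      (cokernelIsCokernel f).coconePointUniqueUpToIso hk⟩⟩
  · intro S hS ⟨F₁, hF₁, ⟨e₁⟩⟩ ⟨F₃, hF₃, ⟨e₃⟩⟩
    let L := (SiteCmp.eps h O).pull
    let adj := (SiteCmp.eps h O).adj
    let T := S.map L
    have hT : T.ShortExact := hS.map_of_exact L
    have hT₁ : A T.X₁ := A.prop_of_iso ((asIso (adj.counit.app F₁)).symm ≪≫ L.mapIso e₁) hF₁
    have hT₃ : A T.X₃ := A.prop_of_iso ((asIso (adj.counit.app F₃)).symm ≪≫ L.mapIso e₃) hF₃
    have hT₂ : A T.X₂ := A.prop_X₂_of_shortExact hT hT₁ hT₃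
    have hU : ∀ (M : ModSite.Mod (SiteCmp.epsRing h O)) (F : ModSite.Mod O), (P.obj F ≅ M) →
        IsIso (adj.unit.app M) := fun M F e => by
      haveI : IsIso (adj.unit.app (P.obj F)) := IsIso.of_isIso_fac_right (hh := IsIso.id _) (adj.right_triangle_components F)
      exact (NatTrans.isIso_app_iff_of_iso adj.unit e).1 inferInstance
    haveI := hU _ F₁ e₁
    haveI := hU _ F₃ e₃
    haveI := epi_push h O A B h3 h4 hT hT₁
    have hPT : (T.map P).ShortExact :=
      ShortComplex.ShortExact.mk' (hT.exact.map_of_mono_of_preservesKernel P hT.mono_f inferInstance)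
        (haveI := hT.mono_f; inferInstanceAs (Mono (P.map T.f))) (inferInstanceAs (Epi (P.map T.g)))
    let φ : S ⟶ T.map P :=
      { τ₁ := adj.unit.app S.X₁, τ₂ := adj.unit.app S.X₂, τ₃ := adj.unit.app S.X₃
        comm₁₂ := (adj.unit.naturality S.f).symm
        comm₂₃ := (adj.unit.naturality S.g).symm }
    haveI : IsIso φ.τ₁ := inferInstanceAs (IsIso (adj.unit.app S.X₁))
    haveI : IsIso φ.τ₃ := inferInstanceAs (IsIso (adj.unit.app S.X₃))
    haveI := ShortComplex.isIso₂_of_shortExact_of_isIso₁₃ φ hS hPT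
    exact ⟨T.X₂, hT₂, ⟨(asIso φ.τ₂).symm⟩⟩

variable [SiteCmp.HasRpushD (SiteCmp.eps h O)]

include h3 h4 in
omit [WSerre.IsWeakSerre A] in
/-- Higher direct images vanish on the class. -/
theorem isZero_homology_RF {F : ModSite.Mod O} (hF : A F) (q : ℤ) (hq : q ≠ 0) :
    IsZero ((DerivedCategory.homologyFunctor (ModSite.Mod (SiteCmp.epsRing h O)) q).obj
      ((DerAdj.RFun (SiteCmp.eps h O).push).obj ((DerivedCategory.singleFunctor (ModSite.Mod O) 0).obj F))) := by
  haveI := ModGroth.sheaf_isGrothendieckAbelian (ModSite.ringSh O)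
  haveI : HasExt.{u + 1} (ModSite.Mod O) := HasExt.standard _
  haveI := preservesZeroMorphisms_RFun (SiteCmp.eps h O).push (exists_kInj O)
  rcases lt_or_gt_of_ne hq with hq' | hq'
  · exact (DerAdj.nonempty_homology_RF_single (SiteCmp.eps h O).push (exists_kInj O) F 0 q).1 hq'
  · let G := modGen (SiteCmp.epsRing h O)
    let ρ := (pushData (SiteCmp.eps h O)).lRep (exists_kInj O)
    refine (IsZero.iff_id_eq_zero _).2 (G.gen _ fun U s => ?_)
    rw [Category.comp_id]
    obtain ⟨S, hS, hS'⟩ := ρ.lift s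
    refine G.sep s S hS fun V g hg => ?_
    obtain ⟨x, hx⟩ := hS' g hg
    rw [← hx]
    obtain ⟨R, hR, hR'⟩ := h3 V
    refine G.sep _ R hR fun W k hk => ?_
    obtain ⟨W', a, b, hW', rfl⟩ := hR' k hk
    have h0 : ∀ y : (DerivedCategory.singleFunctor (ModSite.Mod O) 0).obj (ρ.Q.obj W') ⟶
        ((DerivedCategory.singleFunctor (ModSite.Mod O) 0).obj F)⟦q⟧, y = 0 := fun y =>
      hom_single_shift_eq_zero (ρ.Q.obj W') F 0 q
        (fun k hk => subsingleton_ext_freeOn O W' k F (h4 W' hW' F hF k (by omega))) y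
    rw [Functor.map_comp, Category.assoc, ← ρ.σ_res b, h0 ((DerivedCategory.singleFunctor _ 0).map (ρ.Q.map b) ≫ x),
      ρ.σ_zero, comp_zero]

end Groth.Agent.RlimLib.TwoTopologies
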